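import Cfsg.Agent.Lib.SymEightThree.Basic
import Cfsg.Agent.S3333

set_option autoImplicit false

/-!
The centraliser of `s`, from the recognition of the symmetric group of degree six.
-/

namespace Cfsg.Lib.SymEightThree

open Equiv
open Cfsg.Lib.AltEightThree (mem_cent_singleton mem_normalizer_of_forall conj_mem_normalizer card_cent_conj)

set_option synthInstance.maxSize 2000

/-- The model of the centraliser of `D`. -/
def D18 : Subgroup H720 where
  carrier := {p | p ∈ d9 ++ d9.map (· * sm)}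
  one_mem' := by decide +kernel
  mul_mem' := fun {a b} ha hb =>
    (by decide +kernel : ∀ a ∈ d9 ++ d9.map (· * sm), ∀ b ∈ d9 ++ d9.map (· * sm),
      a * b ∈ d9 ++ d9.map (· * sm)) a ha b hb
  inv_mem' := fun {a} ha =>
    (by decide +kernel : ∀ a ∈ d9 ++ d9.map (· * sm), a⁻¹ ∈ d9 ++ d9.map (· * sm)) a ha

instance : DecidablePred (· ∈ D18) := fun p =>
  inferInstanceAs (Decidable (p ∈ d9 ++ d9.map (· * sm)))

theorem card_D18 : Nat.card D18 = 18 := by
  rw [Nat.card_eq_fintype_card]; decide +kernel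

theorem norm_d9_facts : ∀ p : H720, (∀ q ∈ d9, p * q * p⁻¹ ∈ d9) → p * sm = sm * p := by
  decide +kernel

theorem cent_line : ∀ p : H720, p * zm = zm * p → p * sm = sm * p → ∀ q ∈ d9, p * q * p⁻¹ ∈ d9 := by
  decide +kernel

theorem cw_norm : ∀ i j : Fin 3, um ^ (i : ℕ) * zm ^ (j : ℕ) ∈ d9 := by decide +kernel

theorem line_gen : ∀ q ∈ d9, q ≠ 1 → (q ∈ [1, zm, zm * zm] → q = zm ∨ q * q = zm) ∧
    (q ∈ [um, um * um] → q = um ∨ q * q = um) := by
  decide +kernel

theorem mixed_norm : ∀ q ∈ d9, q ∈ [1, zm, zm * zm] ∨ q ∈ [um, um * um] ∨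
    ∃ k ∈ [1, rm, gm, gm * rm], q = k * (zm * um) * k⁻¹ ∧ k * sm = sm * k ∧
      ∀ p ∈ d9, k * p * k⁻¹ ∈ d9 ∧ k⁻¹ * p * k ∈ d9 := by
  decide +kernel

namespace Cfg

variable {G : Type*} [Group G] [Finite G] (S : Cfg G)

omit [Finite G] in
theorem DG_norm_e {p : H720} (h : ∀ q ∈ d9, p * q * p⁻¹ ∈ d9) :
    ∀ x ∈ S.DG, S.e p * x * (S.e p)⁻¹ ∈ S.DG := by
  rintro _ ⟨q, hq, rfl⟩
  exact ⟨_, h q hq, by rw [map_mul, map_mul, map_inv]⟩

omit [Finite G] in
theorem DG_norm_w : ∀ x ∈ S.DG, S.cw x ∈ S.DG := by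
  rintro _ ⟨q, hq, rfl⟩
  obtain ⟨i, j, rfl⟩ := d9_ij q hq
  exact ⟨_, cw_norm i j, (S.cw_ij i j).symm⟩

theorem w_mem_ND : S.w ∈ Subgroup.normalizer (S.DG : Set G) :=
  mem_normalizer_of_forall fun x hx => by rw [S.w_inv, ← S.cw_apply]; exact S.DG_norm_w x hx

theorem cent_DG : Subgroup.centralizer (S.DG : Set G) = D18.map S.e := by
  refine le_antisymm (fun g hg => ?_) ?_
  · have hz := Subgroup.mem_centralizer_iff.1 hg _ ⟨zm, mem_D9.2 (by decide +kernel), rfl⟩
    have hu := Subgroup.mem_centralizer_iff.1 hg _ ⟨um, mem_D9.2 (by decide +kernel), rfl⟩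
    obtain ⟨q, hq, h | h⟩ := S.cent_zu_pair hz.symm hu.symm
    · exact ⟨q, List.mem_append_left _ hq, h.symm⟩
    · exact ⟨q * sm, List.mem_append_right _ (List.mem_map_of_mem hq), h.symm⟩
  · rintro _ ⟨p, hp, rfl⟩
    rw [Subgroup.mem_centralizer_iff]
    rintro _ ⟨q, hq, rfl⟩
    rw [S.e_comm_iff]
    exact (by decide +kernel : ∀ p ∈ d9 ++ d9.map (· * sm), ∀ q ∈ d9, q * p = p * q) p hp q hq

theorem ND_le : Subgroup.normalizer (S.DG : Set G) ≤ Subgroup.centralizer ({S.e sm} : Set G) := by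
  intro g hg
  have key : ∀ p : H720, S.e p ∈ Subgroup.normalizer (S.DG : Set G) →
      S.e p * S.e sm = S.e sm * S.e p := by
    intro p hp
    refine S.e_comm_iff.2 (norm_d9_facts p fun q hq => ?_)
    obtain ⟨q', hq', h⟩ := conj_mem_normalizer hp (show S.e q ∈ S.DG from ⟨q, hq, rfl⟩)
    rw [← map_inv, ← map_mul, ← map_mul] at h
    rwa [← S.e_inj h]
  rw [mem_cent_singleton]
  rcases S.ND_forms hg with ⟨p, hp⟩ | ⟨p, hp⟩
  · exact hp ▸ key p (hp ▸ hg)
  · have h1 := key p (hp ▸ mul_mem S.w_mem_ND hg)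
    have hgp : g = S.w * S.e p := by rw [hp, ← mul_assoc, S.w_sq, one_mul]
    have hws : S.w * S.e sm = S.e sm * S.w := by
      conv_rhs => rw [← S.w_s]
      rw [mul_assoc _ S.w S.w, S.w_sq, mul_one]
    rw [hgp, mul_assoc, h1, ← mul_assoc, hws, mul_assoc]

/-- The centraliser of `s` is the normaliser of `D` or covers the symmetric group of degree six. -/
theorem cent_s_cases
    [hcn : ((Subgroup.centralizer (S.DG : Set G)).subgroupOf (Subgroup.normalizer (S.DG : Set G))).Normal]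
    (eNC : Subgroup.normalizer (S.DG : Set G) ⧸
      (Subgroup.centralizer (S.DG : Set G)).subgroupOf (Subgroup.normalizer (S.DG : Set G)) ≃* DihedralGroup 4) :
    Nat.card (Subgroup.normalizer (S.DG : Set G)) = 144 ∧
    (Subgroup.centralizer ({S.e sm} : Set G) = Subgroup.normalizer (S.DG : Set G) ∨
    (Nat.card (Subgroup.centralizer ({S.e sm} : Set G)) = 1440 ∧
      ∃ ψ : Subgroup.centralizer ({S.e sm} : Set G) →* Perm (Fin 6),
        Function.Surjective ψ ∧ ∀ g, ψ g = 1 → (g : G) = 1 ∨ (g : G) = S.e sm)) := by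
  classical
  haveI : Fact (Nat.Prime 3) := ⟨Nat.prime_three⟩
  set ND := Subgroup.normalizer (S.DG : Set G) with hND
  have hND144 : Nat.card ND = 144 := by
    have h := Subgroup.card_eq_card_quotient_mul_card_subgroup
      ((Subgroup.centralizer (S.DG : Set G)).subgroupOf ND)
    rw [Nat.card_congr eNC.toEquiv, DihedralGroup.nat_card,
      Nat.card_congr (Subgroup.subgroupOfEquivOfLe (Subgroup.centralizer_le_normalizer _)).toEquiv,
      S.cent_DG, Subgroup.card_map_of_injective S.e_inj, card_D18] at h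
    exact h
  refine ⟨hND144, ?_⟩
  set C := Subgroup.centralizer ({S.e sm} : Set G) with hC
  have hs2 : S.e sm * S.e sm = 1 := by rw [← map_mul, model_facts.2.2.1, map_one]
  have hs1 : S.e sm ≠ 1 := fun h =>
    absurd (S.e_inj (h.trans (map_one S.e).symm)) (by decide +kernel)
  let sT : C := ⟨S.e sm, mem_cent_singleton.2 rfl⟩
  have hsc : ∀ g : C, Commute g sT := fun g => Subtype.ext (mem_cent_singleton.1 g.2)
  haveI hN : (Subgroup.zpowers sT).Normal := ⟨fun n hn g => by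
    obtain ⟨k, rfl⟩ := hn
    refine ⟨k, ?_⟩
    change sT ^ k = g * sT ^ k * g⁻¹
    rw [((hsc g).zpow_right k).eq, mul_inv_cancel_right]⟩
  set π := QuotientGroup.mk' (Subgroup.zpowers sT)
  have hπ : Function.Surjective π := QuotientGroup.mk'_surjective _
  have hker : ∀ g : C, π g = 1 → (g : G) = 1 ∨ (g : G) = S.e sm := by
    intro g hg
    obtain ⟨k, hk⟩ := (QuotientGroup.eq_one_iff g).1 hg
    have hk' : (S.e sm) ^ k = (g : G) := by simpa [sT] using congrArg Subtype.val hk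
    rcases Int.even_or_odd k with ⟨j, rfl⟩ | ⟨j, rfl⟩
    · left; rw [← hk', zpow_add, ← ((Commute.refl _).mul_zpow j), hs2, one_zpow]
    · right
      rw [← hk', zpow_add_one, two_mul, zpow_add, ← ((Commute.refl _).mul_zpow j), hs2, one_zpow,
        one_mul]
  have hDC : S.DG ≤ C := Subgroup.le_normalizer.trans S.ND_le
  have hπs : π sT = 1 := (QuotientGroup.eq_one_iff sT).2 (Subgroup.mem_zpowers _)
  -- elements of order three lift uniquely
  have huniq : ∀ (x : G) (q : H720), q ∈ d9 → x ^ 3 = 1 → ∀ g : C, (g : G) = x⁻¹ * S.e q →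
      π g = 1 → x = S.e q := by
    intro x q hq hx g hg h
    rcases hker g h with e | e
    · rw [hg, inv_mul_eq_one] at e; exact e
    · exfalso
      rw [hg, inv_mul_eq_iff_eq_mul] at e
      have hxq : x = S.e (q * sm) := by rw [map_mul, e, mul_assoc, hs2, mul_one]
      refine (sm_d9 q hq).2.2.1 (S.e_inj ?_)
      rw [map_pow, ← hxq, map_one, show 9 = 3 * 3 by norm_num, pow_mul, hx, one_pow]
  have hq3 : ∀ q ∈ d9, S.e q ^ 3 = 1 := fun q hq => by
    rw [← map_pow, (by decide +kernel : ∀ q ∈ d9, q ^ 3 = 1) q hq, map_one]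
  set Db : Subgroup (C ⧸ Subgroup.zpowers sT) := (S.DG.subgroupOf C).map π
  have hDb : Nat.card Db = 9 := by
    have hinj : Function.Injective (fun x : S.DG.subgroupOf C => π x) := by
      rintro ⟨⟨a, haC⟩, ha⟩ ⟨⟨b, hbC⟩, hb⟩ h
      obtain ⟨qa, hqa, hqa'⟩ := S.mem_DG.1 (Subgroup.mem_subgroupOf.1 ha)
      obtain ⟨qb, hqb, hqb'⟩ := S.mem_DG.1 (Subgroup.mem_subgroupOf.1 hb)
      simp only at hqa' hqb'
      subst hqa' hqb'
      refine Subtype.ext (Subtype.ext ?_)
      refine huniq _ qb hqb (hq3 qa hqa) (⟨_, haC⟩⁻¹ * ⟨_, hbC⟩) rfl ?_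
      rw [map_mul, map_inv]
      exact inv_mul_eq_one.2 h
    have e : Nat.card (S.DG.subgroupOf C) = Nat.card Db := by
      refine Nat.card_congr (Equiv.ofBijective (fun x => ⟨π x, Subgroup.mem_map_of_mem π x.2⟩) ⟨?_, ?_⟩)
      · exact fun a b h => hinj (congrArg Subtype.val h)
      · rintro ⟨_, a, ha, rfl⟩; exact ⟨⟨a, ha⟩, rfl⟩
    rw [← e, Nat.card_congr (Subgroup.subgroupOfEquivOfLe hDC).toEquiv, S.card_DG]
  -- lifting normalising elements
  have hlift : ∀ g : C, π g ∈ Subgroup.normalizer (Db : Set (C ⧸ Subgroup.zpowers sT)) →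
      (g : G) ∈ ND := by
    intro g hg
    refine mem_normalizer_of_forall ?_
    rintro _ ⟨q, hq, rfl⟩
    have hqC : S.e q ∈ C := hDC ⟨q, hq, rfl⟩
    obtain ⟨⟨d, hdC⟩, ⟨q', hq', rfl⟩, hd⟩ :=
      conj_mem_normalizer hg (Subgroup.mem_map_of_mem π (show (⟨S.e q, hqC⟩ : C) ∈ S.DG.subgroupOf C from ⟨q, hq, rfl⟩))
    refine ⟨q', hq', (huniq _ q' hq' (by rw [conj_pow, hq3 q hq, mul_one, mul_inv_cancel])
      ((g * ⟨S.e q, hqC⟩ * g⁻¹)⁻¹ * ⟨S.e q', hdC⟩) rfl ?_).symm⟩
    simp only [map_mul, map_inv]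
    rw [inv_mul_eq_one, hd]
  have hpush : ∀ g : G, ∀ hg : g ∈ ND, π ⟨g, S.ND_le hg⟩ ∈ Subgroup.normalizer (Db : Set (C ⧸ Subgroup.zpowers sT)) := by
    intro g hg
    refine mem_normalizer_of_forall ?_
    rintro _ ⟨⟨x, hxC⟩, hx, rfl⟩
    refine ⟨⟨g * x * g⁻¹, mul_mem (mul_mem (S.ND_le hg) hxC) (inv_mem (S.ND_le hg))⟩,
      conj_mem_normalizer hg hx, ?_⟩
    rw [← map_mul, ← map_inv, ← map_mul]; rfl
  have h27 : ¬ 27 ∣ Nat.card (C ⧸ Subgroup.zpowers sT) := fun h =>
    S.not27 (h.trans ((Subgroup.card_quotient_dvd_card _).trans (Subgroup.card_subgroup_dvd_card C)))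
  obtain ⟨P, hP⟩ := (IsPGroup.of_card (n := 2) (by rw [hDb]; norm_num) : IsPGroup 3 Db).exists_le_sylow
  have hPD : Db = (P : Subgroup (C ⧸ Subgroup.zpowers sT)) := by
    refine Subgroup.eq_of_le_of_card_ge hP ?_
    obtain ⟨n, hn⟩ := IsPGroup.iff_card.1 P.2
    have : n ≤ 2 := by
      by_contra hn'
      exact h27 ((show 3 ^ 3 ∣ Nat.card (P : Subgroup (C ⧸ Subgroup.zpowers sT)) from
        hn ▸ pow_dvd_pow 3 (by omega)).trans (Subgroup.card_subgroup_dvd_card _))
    rw [hn, hDb]; exact (Nat.pow_le_pow_right (by norm_num) this).trans (by norm_num)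
  -- the self-centralisation
  have hCX : Subgroup.centralizer (Db : Set (C ⧸ Subgroup.zpowers sT)) = Db := by
    refine le_antisymm (fun x hx => ?_) ?_
    · obtain ⟨g, rfl⟩ := hπ x
      have hcomm : ∀ q ∈ d9, (g : G) * S.e q = S.e q * g := by
        intro q hq
        have hqC : S.e q ∈ C := hDC ⟨q, hq, rfl⟩
        have h := Subgroup.mem_centralizer_iff.1 hx _
          (Subgroup.mem_map_of_mem π (show (⟨S.e q, hqC⟩ : C) ∈ S.DG.subgroupOf C from ⟨q, hq, rfl⟩))
        refine mul_inv_eq_iff_eq_mul.1 (huniq _ q hq (by rw [conj_pow, hq3 q hq, mul_one, mul_inv_cancel])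
          ((g * ⟨S.e q, hqC⟩ * g⁻¹)⁻¹ * ⟨S.e q, hqC⟩) rfl ?_)
        simp only [map_mul, map_inv]
        rw [inv_mul_eq_one, ← h, mul_inv_cancel_right]
      obtain ⟨q, hq, h | h⟩ := S.cent_zu_pair (hcomm zm (by decide +kernel)) (hcomm um (by decide +kernel))
      · exact ⟨g, ⟨q, hq, h.symm⟩, rfl⟩
      · refine ⟨⟨S.e q, hDC ⟨q, hq, rfl⟩⟩, ⟨q, hq, rfl⟩, ?_⟩
        have : g = ⟨S.e q, hDC ⟨q, hq, rfl⟩⟩ * sT := Subtype.ext (by rw [h, map_mul]; rfl)
        rw [this, map_mul, hπs , mul_one]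
    · rintro _ ⟨⟨a, haC⟩, ⟨qa, hqa, rfl⟩, rfl⟩
      rw [Subgroup.mem_centralizer_iff]
      rintro _ ⟨⟨b, hbC⟩, ⟨qb, hqb, rfl⟩, rfl⟩
      rw [← map_mul, ← map_mul]
      refine congrArg π (Subtype.ext ?_)
      show S.e qb * S.e qa = S.e qa * S.e qb
      rw [S.e_comm_iff]
      exact (by decide +kernel : ∀ a ∈ d9, ∀ b ∈ d9, b * a = a * b) qa hqa qb hqb
  -- the quotient of the normaliser
  let θ0 : ND →* Subgroup.normalizer (Db : Set (C ⧸ Subgroup.zpowers sT)) :=
    (π.comp (Subgroup.inclusion S.ND_le)).codRestrict _ fun g => hpush g g.2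
  haveI : (Db.subgroupOf (Subgroup.normalizer (Db : Set (C ⧸ Subgroup.zpowers sT)))).Normal :=
    Subgroup.normal_subgroupOf_of_le_normalizer le_rfl
  let θ := (QuotientGroup.mk' (Db.subgroupOf (Subgroup.normalizer (Db : Set (C ⧸ Subgroup.zpowers sT))))).comp θ0
  have hθs : Function.Surjective θ := by
    refine (QuotientGroup.mk'_surjective _).comp ?_
    rintro ⟨x, hx⟩
    obtain ⟨g, rfl⟩ := hπ x
    exact ⟨⟨g, hlift g hx⟩, Subtype.ext rfl⟩
  have hθk : θ.ker = (Subgroup.centralizer (S.DG : Set G)).subgroupOf ND := by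
    ext g
    rw [MonoidHom.mem_ker, Subgroup.mem_subgroupOf, S.cent_DG]
    refine (QuotientGroup.eq_one_iff _).trans ⟨?_, ?_⟩
    · rintro ⟨⟨a, haC⟩, ⟨qa, hqa, rfl⟩, ha⟩
      rcases hker (⟨_, haC⟩⁻¹ * Subgroup.inclusion S.ND_le g) (by rw [map_mul, map_inv]; exact inv_mul_eq_one.2 ha) with e | e
      · exact ⟨qa, List.mem_append_left _ hqa, inv_mul_eq_one.1 e⟩
      · refine ⟨qa * sm, List.mem_append_right _ (List.mem_map_of_mem hqa), ?_⟩
        rw [map_mul, ← e]; exact mul_inv_cancel_left _ _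
    · rintro ⟨p, hp, hpg⟩
      rcases List.mem_append.1 hp with h | h
      · exact ⟨Subgroup.inclusion S.ND_le g, ⟨p, h, hpg⟩, rfl⟩
      · obtain ⟨q, hq, rfl⟩ := List.mem_map.1 h
        refine ⟨⟨S.e q, hDC ⟨q, hq, rfl⟩⟩, ⟨q, hq, rfl⟩, ?_⟩
        have : Subgroup.inclusion S.ND_le g = ⟨S.e q, hDC ⟨q, hq, rfl⟩⟩ * sT :=
          Subtype.ext (hpg.symm.trans (map_mul _ _ _))
        show π _ = π (Subgroup.inclusion S.ND_le g)
        rw [this, map_mul, hπs, mul_one]
  have eN := ((QuotientGroup.quotientKerEquivOfSurjective θ hθs).symm.trans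
    (QuotientGroup.quotientMulEquivOfEq hθk)).trans eNC
  -- the local condition
  have hloc : ∀ x ∈ Db, x ≠ 1 → Subgroup.centralizer ({x} : Set (C ⧸ Subgroup.zpowers sT)) ≤
      Subgroup.normalizer (Db : Set (C ⧸ Subgroup.zpowers sT)) := by
    rintro _ ⟨⟨d, hdC⟩, ⟨q, hq, rfl⟩, rfl⟩ hne y hy
    obtain ⟨g, rfl⟩ := hπ y
    have hgd : (g : G) * S.e q * (g : G)⁻¹ = S.e q := by
      refine huniq _ q hq (by rw [conj_pow, hq3 q hq, mul_one, mul_inv_cancel])
        ((g * ⟨S.e q, hdC⟩ * g⁻¹)⁻¹ * ⟨S.e q, hdC⟩) rfl ?_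
      simp only [map_mul, map_inv]
      rw [inv_mul_eq_one, mem_cent_singleton.1 hy, mul_inv_cancel_right]
    have hgN : (g : G) ∈ ND := by
      have hgs : (g : G) * S.e sm = S.e sm * g := mem_cent_singleton.1 g.2
      have hq1 : q ≠ 1 := by
        rintro rfl
        apply hne
        rw [show (⟨S.e 1, hdC⟩ : C) = 1 from Subtype.ext (map_one S.e), map_one]
      have hline : ∀ x : G, x * S.e q = S.e q * x →
          (q ∈ [1, zm, zm * zm] → x * S.e zm = S.e zm * x) ∧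
          (q ∈ [um, um * um] → x * S.e um = S.e um * x) := by
        intro x hx
        constructor <;> intro h
        · rcases (line_gen q hq hq1).1 h with e | e
          · rw [← e]; exact hx
          · rw [← e, map_mul]; exact (Commute.mul_right hx hx).eq
        · rcases (line_gen q hq hq1).2 h with e | e
          · rw [← e]; exact hx
          · rw [← e, map_mul]; exact (Commute.mul_right hx hx).eq
      have hzc : ∀ x : G, x * S.e zm = S.e zm * x → x * S.e sm = S.e sm * x → x ∈ ND := by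
        intro x hx hxs
        obtain ⟨p, rfl, hp⟩ := S.cent_z hx
        exact mem_normalizer_of_forall (S.DG_norm_e (cent_line p hp (S.e_comm_iff.1 hxs)))
      have hgq : (g : G) * S.e q = S.e q * g := mul_inv_eq_iff_eq_mul.1 hgd
      rcases mixed_norm q hq with h | h | ⟨k, -, rfl, hks, hk⟩
      · exact hzc _ ((hline _ hgq).1 h) hgs
      · have h' := (hline _ hgq).2 h
        have : S.cw g ∈ ND := hzc _ (by rw [← S.cw_u, ← map_mul, ← map_mul, h'])
          (by rw [← S.cw_s, ← map_mul, ← map_mul, hgs])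
        have h2 := mul_mem (mul_mem S.w_mem_ND this) S.w_mem_ND
        rwa [← cw_apply, cw_cw] at h2
      · have hkN : S.e k ∈ ND := mem_normalizer_of_forall (S.DG_norm_e fun p hp => (hk p hp).1)
        have h2 : ((S.e k)⁻¹ * g * S.e k) * S.e (zm * um) = S.e (zm * um) * ((S.e k)⁻¹ * g * S.e k) := by
          rw [map_mul _ (k * (zm * um)), map_mul _ k, map_inv] at hgq
          calc _ = (S.e k)⁻¹ * ((g : G) * (S.e k * S.e (zm * um) * (S.e k)⁻¹)) * S.e k := by group
            _ = _ := by rw [hgq]; group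
        have : (S.e k)⁻¹ * g * S.e k ∈ ND := by
          obtain ⟨d', hd', k', hk', h3⟩ := S.cent_y h2
          have hd'k : S.e (d' * k') ∈ ND := by
            refine mem_normalizer_of_forall (S.DG_norm_e ?_)
            intro p hp
            exact (by decide +kernel : ∀ d ∈ d9, ∀ k ∈ [1, sm], ∀ p ∈ d9, (d * k) * p * (d * k)⁻¹ ∈ d9)
              d' hd' k' hk' p hp
          rcases h3 with h3 | h3 <;> rw [h3]
          · exact hd'k
          · exact mul_mem S.w_mem_ND hd'k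
        have := mul_mem (mul_mem hkN this) (inv_mem hkN)
        rwa [show S.e k * ((S.e k)⁻¹ * (g : G) * S.e k) * (S.e k)⁻¹ = g by group] at this
    exact hpush g hgN
  rcases Cfsg.Agent.S3333.result P Db hPD hDb hCX eN hloc with h | ⟨⟨φ⟩⟩
  · left
    refine le_antisymm (fun g hg => ?_) S.ND_le
    refine hlift ⟨g, hg⟩ ?_
    rw [Subgroup.normalizer_eq_top_iff.2 h]
    exact Subgroup.mem_top _
  · right
    refine ⟨?_, φ.toMonoidHom.comp π, φ.surjective.comp hπ, fun g hg => hker g (φ.injective (hg.trans (map_one φ).symm))⟩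
    have h := Subgroup.card_eq_card_quotient_mul_card_subgroup (Subgroup.zpowers sT)
    rw [Nat.card_congr φ.toEquiv, Nat.card_eq_fintype_card (α := Perm (Fin 6)), Fintype.card_perm,
      Fintype.card_fin, Nat.card_zpowers,
      show orderOf sT = 2 from orderOf_eq_prime (Subtype.ext (by simp [sT, pow_two, hs2]))
        (fun h => hs1 (congrArg Subtype.val h))] at h
    exact h

end Cfg

end Cfsg.Lib.SymEightThree
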