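import Cfsg.Agent.Lib.SymEightThree.Classes
import Cfsg.Agent.Lib.AltEightThree.Main
import Cfsg.Agent.S2119

set_option autoImplicit false

/-!
A subgroup of index two avoiding `s` is alternating of degree eight.
-/

namespace Cfsg.Lib.SymEightThree

open Equiv
open Cfsg.Lib.AltEightThree (c3 t34 d01 signLift signLift_sign mem_cent_singleton Frame exists_loc)

set_option synthInstance.maxSize 2000

theorem swap_class : (∀ x y : Fin 5, x ≠ y → ∃ k : H720, k * sm * k⁻¹ = (1, swap x y)) ∧
    ∀ x y : Fin 3, x ≠ y → ∃ k : H720, k * gm * k⁻¹ = (swap x y, 1) := by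
  refine ⟨by decide +kernel, by decide +kernel⟩

theorem frame_facts : signLift c3 = 1 ∧ (signLift t34, t34) = gm * sm ∧ (signLift d01, d01) = am ∧
    (∀ p : H720, p * zm = zm * p → ∃ i : Fin 3, p.1 = cR ^ (i : ℕ) ∧ Perm.sign p.1 = 1) ∧
    (∀ p : H720, p * zm = zm * p →
      p * (gm * sm) = gm * sm * p → p * (1, c3) = (1, c3) * p →
      p * (1, swap 0 3 * swap 1 4) = (1, swap 0 3 * swap 1 4) * p → p = 1) := by
  refine ⟨by decide +kernel, by decide +kernel, by decide +kernel, by decide +kernel, by decide +kernel⟩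

namespace Cfg

variable {G : Type*} [Group G] [Finite G] (S : Cfg G)

/-- Membership in a subgroup of index two avoiding `s`, on the normaliser of `z`. -/
theorem mem_K (h : S.IsEight) {K : Subgroup G} [hKn : K.Normal] (hK : K.index = 2) (hs : S.e sm ∉ K)
    (p : H720) : S.e p ∈ K ↔ Perm.sign p.1 = Perm.sign p.2 := by
  have hcs : ∀ y, S.Cs y → y ∉ K := by
    intro y hy hyK
    obtain ⟨g, rfl⟩ := isConj_iff.1 hy
    have := hKn.conj_mem _ hyK g⁻¹
    exact hs (by rwa [show g⁻¹ * (g * S.e sm * g⁻¹) * g⁻¹⁻¹ = S.e sm by group] at this)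
  have h2 : ∀ τ : Perm (Fin 5), S.e (1, τ) ∈ K ↔ Perm.sign τ = 1 := by
    intro τ
    induction τ using Perm.swap_induction_on with
    | one => simp [show S.e (1, 1) = 1 from map_one S.e, one_mem]
    | swap_mul f x y hxy ih =>
      rw [show ((1, swap x y * f) : H720) = (1, swap x y) * (1, f) from Prod.ext (one_mul 1).symm rfl,
        map_mul, Subgroup.mul_mem_iff_of_index_two hK, ih, Perm.sign_mul, Perm.sign_swap hxy]
      rcases Int.units_eq_one_or (Perm.sign f) with e | e <;>
        simp [e, hcs _ ((S.cs_e (swap_class.1 x y hxy)).1 S.cs_s)]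
  have h3 : ∀ a : Perm (Fin 3), S.e (a, 1) ∈ K ↔ Perm.sign a = 1 := by
    intro a
    induction a using Perm.swap_induction_on with
    | one => simp [show S.e (1, 1) = 1 from map_one S.e, one_mem]
    | swap_mul f x y hxy ih =>
      rw [show ((swap x y * f, 1) : H720) = (swap x y, 1) * (f, 1) from Prod.ext rfl (one_mul 1).symm,
        map_mul, Subgroup.mul_mem_iff_of_index_two hK, ih, Perm.sign_mul, Perm.sign_swap hxy]
      rcases Int.units_eq_one_or (Perm.sign f) with e | e <;>
        simp [e, hcs _ ((S.cs_e (swap_class.2 x y hxy)).1 (S.cs_eight h))]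
  rw [show p = (p.1, 1) * (1, p.2) from Prod.ext (mul_one _).symm (one_mul _).symm, map_mul,
    Subgroup.mul_mem_iff_of_index_two hK, h2, h3]
  rcases Int.units_eq_one_or (Perm.sign p.1) with e | e <;>
    rcases Int.units_eq_one_or (Perm.sign p.2) with e' | e' <;> simp [e, e']

/-- The group is symmetric of degree eight. -/
theorem equiv_sym (h : S.IsEight) {K : Subgroup G} [hKn : K.Normal] (hK : K.index = 2) (hs : S.e sm ∉ K)
    (P : Sylow 3 G) (hP : Nat.card P = 9) : Nonempty (G ≃* Perm (Fin 8)) := by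
  haveI : Fact (Nat.Prime 3) := ⟨Nat.prime_three⟩
  have hmem := S.mem_K h hK hs
  have hs2 : S.e sm * S.e sm = 1 := by rw [← map_mul, model_facts.2.2.1, map_one]
  have hws : S.w * S.e sm = S.e sm * S.w := by
    conv_rhs => rw [← S.w_s]
    rw [mul_assoc _ S.w S.w, S.w_sq, mul_one]
  obtain ⟨s', hs'K, hs'⟩ : ∃ s' : G, s' ∈ K ∧ ∀ p : H720, p * sm = sm * p →
      s' * s' = 1 ∧ s' * S.e p * s' = S.w * S.e p * S.w := by
    by_cases hw : S.w ∈ K
    · exact ⟨S.w, hw, fun p _ => ⟨S.w_sq, rfl⟩⟩
    · refine ⟨S.w * S.e sm, (Subgroup.mul_mem_iff_of_index_two hK).2 (iff_of_false hw hs), fun p hp => ⟨?_, ?_⟩⟩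
      · calc S.w * S.e sm * (S.w * S.e sm) = S.w * S.e sm * (S.e sm * S.w) := by rw [← hws]
          _ = 1 := by rw [mul_assoc S.w, ← mul_assoc (S.e sm), hs2, one_mul, S.w_sq]
      · calc S.w * S.e sm * S.e p * (S.w * S.e sm) = S.w * (S.e sm * S.e p) * (S.e sm * S.w) := by
              rw [← hws, mul_assoc S.w (S.e sm) (S.e p)]
          _ = S.w * (S.e sm * S.e p * S.e sm) * S.w := by simp only [mul_assoc]
          _ = S.w * S.e p * S.w := by
              rw [← S.e_comm_iff.2 hp, mul_assoc (S.e p), hs2, mul_one]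
  have hz : S.e zm ∈ K := (hmem zm).2 (by decide +kernel)
  let F0 : Perm (Fin 5) →* H720 := signLift.prod (MonoidHom.id _)
  let F : Perm (Fin 5) →* K := (S.e.comp F0).codRestrict K fun τ => (hmem _).2 (signLift_sign τ)
  have hFv : ∀ τ, (F τ : G) = S.e (signLift τ, τ) := fun _ => rfl
  have hfirst : ∀ τ : Perm (Fin 5), Perm.sign τ = 1 → signLift τ = 1 := fun τ hτ => by
    show (if Perm.sign τ = 1 then _ else _) = _
    rw [if_pos hτ]
  let T : Frame K :=
    { z := ⟨S.e zm, hz⟩
      F := F
      s := ⟨s', hs'K⟩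
      F_inj := fun a b hab => congrArg Prod.snd (S.e_inj (congrArg Subtype.val hab))
      z3 := Subtype.ext (by rw [Subgroup.coe_pow, ← map_pow, model_facts.1, map_one]; rfl)
      z_ne := fun h => absurd (S.e_inj ((congrArg Subtype.val h).trans (map_one S.e).symm)) (by decide +kernel)
      F_ne_z := fun τ h => by
        have e := S.e_inj ((hFv τ).symm.trans (congrArg Subtype.val h))
        have e2 : τ = 1 := congrArg Prod.snd e
        rw [e2, map_one] at e
        exact absurd e (by decide +kernel)
      even_comm := fun τ hτ => Subtype.ext (S.e_comm_iff.2 (Prod.ext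
        (by show signLift τ * cR = cR * signLift τ; rw [hfirst τ hτ, one_mul, mul_one])
        (by show τ * 1 = 1 * τ; rw [mul_one, one_mul])))
      odd_inv := fun τ hτ => Subtype.ext (by
        show S.e (signLift τ, τ) * S.e zm * (S.e (signLift τ, τ))⁻¹ = (S.e zm)⁻¹
        rw [← map_inv, ← map_mul, ← map_mul, ← map_inv]
        congr 1
        have : signLift τ = swap 0 1 := by
          show (if Perm.sign τ = 1 then _ else _) = _
          rw [if_neg (by rw [hτ]; decide)]
        refine Prod.ext ?_ (by simp [zm])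
        show signLift τ * cR * (signLift τ)⁻¹ = cR⁻¹
        rw [this]; decide +kernel)
      cent := fun g hg => by
        obtain ⟨p, hp, hpz⟩ := S.cent_z (congrArg Subtype.val hg)
        obtain ⟨i, hi, hsign⟩ := frame_facts.2.2.2.1 p hpz
        have hp2 : Perm.sign p.2 = 1 := ((hmem p).1 (hp ▸ g.2)).symm.trans hsign
        refine ⟨i, p.2, hp2, Subtype.ext ?_⟩
        rw [hp, Subgroup.coe_mul, Subgroup.coe_pow, hFv, hfirst _ hp2]
        show S.e p = S.e zm ^ (i : ℕ) * S.e (1, p.2)
        rw [← map_pow, ← map_mul]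
        congr 1
        exact Prod.ext (by simp [zm, hi]) (by simp [zm])
      s_sq := Subtype.ext (hs' sm rfl).1
      s_z := Subtype.ext ((hs' zm model_facts.2.2.2.2.2.2.1.symm).2.trans (S.w_z.trans
        (show S.e um = S.e (signLift c3, c3) by rw [frame_facts.1]; rfl)))
      s_t := Subtype.ext (by
        show s' * S.e (signLift t34, t34) * s' = S.e (signLift d01, d01)
        rw [frame_facts.2.1, frame_facts.2.2.1, (hs' (gm * sm) (by decide +kernel)).2, ← am_eq.1,
          map_mul _ rm sm]
        have h' : S.cw (S.e gm) = S.e rm := by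
          rw [← show S.cw (S.e rm) = S.e gm from (S.cw_apply _).trans h, S.cw_cw]
        rw [← S.cw_apply, map_mul, map_mul, h', S.cw_s])
      card_y := by
        have e : ((⟨S.e zm, hz⟩ : K) * F c3 : G) = S.e (zm * um) := by
          rw [hFv, frame_facts.1, map_mul]; rfl
        set C := Subgroup.centralizer ({S.e (zm * um)} : Set G)
        have hidx : (K.subgroupOf C).index = 2 := by
          have h2 : (K.subgroupOf C).index ∣ 2 := by
            rw [← hK]; exact Subgroup.relIndex_dvd_index_of_normal K C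
          rcases (Nat.dvd_prime Nat.prime_two).1 h2 with h1 | h1
          · exfalso
            have hsC : S.e sm ∈ C := mem_cent_singleton.2 (S.e_comm_iff.2 (by decide +kernel))
            exact hs (Subgroup.mem_subgroupOf.1
              ((Subgroup.index_eq_one.1 h1).symm ▸ Subgroup.mem_top (⟨_, hsC⟩ : C)))
          · exact h1
        have h36 := Subgroup.index_mul_card (K.subgroupOf C)
        rw [hidx, show Nat.card C = 36 from S.card_y] at h36
        have hb : Nat.card (Subgroup.centralizer ({(⟨S.e zm, hz⟩ : K) * F c3} : Set K)) =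
            Nat.card (K.subgroupOf C) := by
          refine Nat.card_congr
            { toFun := fun x => ⟨⟨x.1.1, mem_cent_singleton.2 (by
                rw [← e]; exact congrArg Subtype.val (mem_cent_singleton.1 x.2))⟩, x.1.2⟩
              invFun := fun x => ⟨⟨x.1.1, x.2⟩, mem_cent_singleton.2 (Subtype.ext (by
                show x.1.1 * _ = _ * x.1.1
                rw [show (((⟨S.e zm, hz⟩ : K) * F c3 : K) : G) = S.e (zm * um) from e]
                exact mem_cent_singleton.1 x.1.2))⟩
              left_inv := fun _ => rfl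
              right_inv := fun _ => rfl }
        omega }
  obtain ⟨L⟩ := exists_loc T
  obtain ⟨Q⟩ : Nonempty (Sylow 3 K) := inferInstance
  have h27 : ¬ 3 ^ 3 ∣ Nat.card G := by simpa using S.not27
  have hQ : Nat.card Q = 9 := by
    have h9 : 3 ^ 2 ∣ Nat.card K := by
      have h := Subgroup.index_mul_card K
      have h' : Nat.card P ∣ Nat.card G := Subgroup.card_subgroup_dvd_card _
      rw [hP, ← h, hK] at h'
      exact (Nat.Coprime.dvd_mul_left (by norm_num)).1 h'
    obtain ⟨n, hn⟩ := IsPGroup.iff_card.1 Q.2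
    have h1 : 3 ^ 2 ∣ Nat.card (Q : Subgroup K) := Q.pow_dvd_card_of_pow_dvd_card h9
    rw [hn] at h1 ⊢
    have : n ≤ 2 := by
      by_contra hn'
      exact h27 (((pow_dvd_pow 3 (by omega : 3 ≤ n)).trans (hn ▸ Subgroup.card_subgroup_dvd_card _)).trans
        (Subgroup.card_subgroup_dvd_card K))
    rw [show n = 2 from le_antisymm this ((Nat.pow_dvd_pow_iff_le_right (by norm_num)).1 h1)]
    norm_num
  obtain ⟨φ⟩ := L.equiv_eight Q hQ
  let c : G →* MulAut K := MulAut.conjNormal
  have hc : Function.Injective c := by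
    rw [injective_iff_map_eq_one]
    intro g hg
    have hcomm : ∀ k : G, k ∈ K → g * k = k * g := by
      intro k hk
      have h' := congrArg Subtype.val (DFunLike.congr_fun hg ⟨k, hk⟩)
      simp only [c, MulAut.conjNormal_apply, MulAut.one_apply] at h'
      exact mul_inv_eq_iff_eq_mul.1 h'
    obtain ⟨p, rfl, hpz⟩ := S.cent_z (hcomm _ hz)
    have key : ∀ q : H720, Perm.sign q.1 = Perm.sign q.2 → p * q = q * p := fun q hq =>
      S.e_comm_iff.1 (hcomm _ ((hmem q).2 hq))
    rw [frame_facts.2.2.2.2 p hpz (key _ (by decide +kernel)) (key _ (by decide +kernel))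
      (key _ (by decide +kernel)), map_one]
  have hbi := Cfsg.Agent.S2119.result 8 (by norm_num) (by norm_num)
  let ψ : G →* Perm (Fin 8) := (MulEquiv.ofBijective _ hbi).symm.toMonoidHom.comp
    ((MulAut.congr φ).toMonoidHom.comp c)
  have hψ : Function.Injective ψ :=
    (MulEquiv.ofBijective _ hbi).symm.injective.comp ((MulAut.congr φ).injective.comp hc)
  refine ⟨MulEquiv.ofBijective ψ ((Nat.bijective_iff_injective_and_card ψ).2 ⟨hψ, ?_⟩)⟩
  rw [← Subgroup.index_mul_card K, hK, Nat.card_congr φ.toEquiv, Nat.card_eq_fintype_card,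
    two_mul_card_alternatingGroup, Nat.card_eq_fintype_card]

end Cfg

end Cfsg.Lib.SymEightThree
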