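import Cfsg.Agent.Lib.SymEightThree.TransferTwo
import Cfsg.Agent.Lib.Goldschmidt.Product
import Cfsg.Agent.Lib.Core.Layer

set_option autoImplicit false

/-!
The exceptional configuration: the two alternating groups of degree five generate a normal subgroup of
index four.
-/

namespace Cfsg.Lib.SymEightThree

open Equiv
open Cfsg.Lib.AltEightThree (c3 t34 d01 mem_cent_singleton conj_mem_normalizer mem_normalizer_of_forall)

set_option synthInstance.maxSize 2000
set_option maxRecDepth 10000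

/-- The pairs of even permutations. -/
def M0 : Subgroup L0 where
  carrier := {x | x.right = 1 ∧ Perm.sign x.left.1.1 = 1}
  one_mem' := ⟨rfl, Perm.sign_one⟩
  mul_mem' := fun {x y} hx hy => by
    refine ⟨by show x.right * y.right = 1; rw [hx.1, hy.1, mul_one], ?_⟩
    show Perm.sign (x.left.1.1 * (swA x.right y.left).1.1) = 1
    rw [hx.1, map_one, Perm.sign_mul, hx.2, one_mul]
    exact hy.2
  inv_mem' := fun {x} hx => by
    refine ⟨by show x.right⁻¹ = 1; rw [hx.1, inv_one], ?_⟩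
    show Perm.sign (swA x.right⁻¹ x.left⁻¹).1.1 = 1
    rw [hx.1, inv_one, map_one]
    show Perm.sign x.left.1.1⁻¹ = 1
    rw [Perm.sign_inv, hx.2]

theorem two_cases' : ∀ i : Multiplicative (ZMod 2), i = 1 ∨ i = Multiplicative.ofAdd 1 := by decide

theorem M0_normal (x : L0) {y : L0} (hy : y ∈ M0) : x * y * x⁻¹ ∈ M0 := by
  rw [conj_formula x y hy.1]
  refine ⟨rfl, ?_⟩
  have h2 : Perm.sign y.left.1.2 = 1 := (y.left.2 : Perm.sign y.left.1.1 = _).symm.trans hy.2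
  rcases two_cases' x.right with e | e <;> rw [e]
  · show Perm.sign (x.left.1.1 * y.left.1.1 * x.left.1.1⁻¹) = 1
    simp [hy.2]
  · show Perm.sign (x.left.1.1 * y.left.1.2 * x.left.1.1⁻¹) = 1
    simp [h2]

/-- The pairs of even permutations as a product. -/
def M0equiv : M0 ≃* alternatingGroup (Fin 5) × alternatingGroup (Fin 5) where
  toFun x := (⟨x.1.left.1.1, Perm.mem_alternatingGroup.2 x.2.2⟩,
    ⟨x.1.left.1.2, Perm.mem_alternatingGroup.2 ((x.1.left.2 : Perm.sign x.1.left.1.1 = _).symm.trans x.2.2)⟩)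
  invFun p := ⟨pr p.1.1 p.2.1 ((Perm.mem_alternatingGroup.1 p.1.2).trans (Perm.mem_alternatingGroup.1 p.2.2).symm),
    rfl, Perm.mem_alternatingGroup.1 p.1.2⟩
  left_inv x := Subtype.ext (SemidirectProduct.ext rfl x.2.1.symm)
  right_inv _ := rfl
  map_mul' x y := by
    have h : (swA x.1.right) y.1.left = y.1.left := by rw [x.2.1, map_one]; rfl
    refine Prod.ext (Subtype.ext ?_) (Subtype.ext ?_)
    · show x.1.left.1.1 * ((swA x.1.right) y.1.left).1.1 = _
      rw [h]; rfl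
    · show x.1.left.1.2 * ((swA x.1.right) y.1.left).1.2 = _
      rw [h]; rfl

/-- The elements of `A` with trivial second component. -/
def V10 : Subgroup L0 where
  carrier := {x | x ∈ A0 ∧ x.left.1.2 = 1}
  one_mem' := ⟨A0.one_mem, rfl⟩
  mul_mem' := fun {x y} hx hy => ⟨A0.mul_mem hx.1 hy.1, by
    show x.left.1.2 * (swA x.right y.left).1.2 = 1
    rw [hx.1.1, map_one, hx.2, one_mul]; exact hy.2⟩
  inv_mem' := fun {x} hx => ⟨A0.inv_mem hx.1, by
    show (swA x.right⁻¹ x.left⁻¹).1.2 = 1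
    rw [hx.1.1, inv_one, map_one]
    show x.left.1.2⁻¹ = 1
    rw [hx.2, inv_one]⟩

/-- The elements of `A` with trivial first component. -/
def V20 : Subgroup L0 where
  carrier := {x | x ∈ A0 ∧ x.left.1.1 = 1}
  one_mem' := ⟨A0.one_mem, rfl⟩
  mul_mem' := fun {x y} hx hy => ⟨A0.mul_mem hx.1 hy.1, by
    show x.left.1.1 * (swA x.right y.left).1.1 = 1
    rw [hx.1.1, map_one, hx.2, one_mul]; exact hy.2⟩
  inv_mem' := fun {x} hx => ⟨A0.inv_mem hx.1, by
    show (swA x.right⁻¹ x.left⁻¹).1.1 = 1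
    rw [hx.1.1, inv_one, map_one]
    show x.left.1.1⁻¹ = 1
    rw [hx.2, inv_one]⟩

theorem alt5_facts : (∀ j : Fin 3, c3 ^ (j : ℕ) * x5 * (c3 ^ (j : ℕ))⁻¹ * x5⁻¹ = 1 → j = 0) ∧
    x5 * c3 ≠ c3 * x5 ∧ x5 * x5 = 1 ∧ x5 ≠ 1 ∧
    ∀ j : Fin 3, Perm.sign (c3 ^ (j : ℕ) * x5 * (c3 ^ (j : ℕ))⁻¹ * x5⁻¹) = 1 := by
  decide +kernel

theorem v_elem : ∃ v ∈ v4l, v ≠ 1 ∧ Perm.sign v = 1 := by decide +kernel

theorem alt5_bot_or_all {H : Subgroup (alternatingGroup (Fin 5))} (hH : H.Normal) :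
    (∀ a, a ∈ H → a = 1) ∨ ∀ a, a ∈ H := by
  haveI : IsSimpleGroup (alternatingGroup (Fin 5)) := alternatingGroup.isSimpleGroup_five
  rcases hH.eq_bot_or_eq_top with e | e
  · exact Or.inl fun a ha => Subgroup.mem_bot.1 (e ▸ ha)
  · exact Or.inr fun a => e ▸ Subgroup.mem_top a

namespace Cfg

variable {G : Type*} [Group G] [Finite G] {S : Cfg G}

/-- The two alternating groups of degree five. -/
def Exc.MG (X : S.Exc) : Subgroup G := M0.map X.lf

theorem Exc.even_mem (X : S.Exc) {K : Subgroup G} [hKn : K.Normal] (hK : K.index = 2) {x : L0}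
    (hx : x ∈ M0) : X.lf x ∈ K := by
  have hsq : ∀ g : G, g * g ∈ K := fun g => by rw [Subgroup.mul_mem_iff_of_index_two hK]
  have hfive : ∀ a, Perm.sign a = 1 → S.five a ∈ K := by
    refine alt_le (H := K.comap S.five) ?_ ?_
    · obtain ⟨q, hq⟩ := exists_odd_even
      show S.five x5 ∈ K
      rw [← hq, map_mul]; exact hsq _
    · show S.five c3 ∈ K
      rw [show c3 = (c3 * c3) * (c3 * c3) by decide +kernel, map_mul]; exact hsq _
  obtain ⟨⟨⟨a, b⟩, hp⟩, i⟩ := x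
  obtain ⟨rfl, ha⟩ := hx
  have hb : Perm.sign b = 1 := (hp : Perm.sign a = Perm.sign b).symm.trans ha
  rw [X.lf_apply, X.psi_even a b ha hb]
  refine mul_mem (hfive a ha) ?_
  rw [cw, MulAut.conj_apply]
  exact hKn.conj_mem _ (hfive b hb) _

theorem Exc.five_even (X : S.Exc) {a : Perm (Fin 5)} (ha : Perm.sign a = 1) :
    X.lf (pr a 1 (ha.trans Perm.sign_one.symm)) = S.five a ∧
      X.lf (pr 1 a (Perm.sign_one.trans ha.symm)) = S.cw (S.five a) :=
  ⟨(X.lf_even a 1 ha Perm.sign_one).trans (by rw [map_one, map_one, mul_one]),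
    (X.lf_even 1 a Perm.sign_one ha).trans (by rw [map_one, one_mul])⟩

/-- The centraliser of the second alternating group is the first one. -/
theorem Exc.cent_half (X : S.Exc) {g : G}
    (hg : ∀ b, Perm.sign b = 1 → g * S.cw (S.five b) = S.cw (S.five b) * g) :
    ∃ a, Perm.sign a = 1 ∧ g = S.five a := by
  have hcomm : ∀ b, Perm.sign b = 1 → S.cw g * S.five b = S.five b * S.cw g := by
    intro b hb
    have := congrArg S.cw (hg b hb)
    rwa [map_mul, map_mul, S.cw_cw] at this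
  obtain ⟨v, a, hv, ha, hva⟩ := S.cent_V_eq X.exc X.cn (g := S.cw g)
    (S.mem_RV.2 fun b hb => hcomm b (v4_facts.1 b hb).1)
  have hvb : ∀ b, Perm.sign b = 1 → v * b = b * v := by
    intro b hb
    refine S.five_inj ?_
    have h := hcomm b hb
    have hc : Commute (S.five b) (S.cw (S.five a)) := S.halves_comm X.exc X.cn hb ha
    rw [hva, mul_assoc, ← hc.eq, ← mul_assoc, ← mul_assoc] at h
    rw [map_mul, map_mul]
    exact mul_right_cancel h
  have hv1 : v = 1 := v4_facts.2.2.1 v (hvb c3 (by decide +kernel)) (hvb x5 v4_facts.2.2.2.2.1)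
  rw [hv1, map_one, one_mul] at hva
  exact ⟨a, ha, by rw [← S.cw_cw g, hva, S.cw_cw]⟩

theorem Exc.sylow_three (_X : S.Exc) : ∃ P : Sylow 3 G, (P : Subgroup G) = S.DG := by
  haveI : Fact (Nat.Prime 3) := ⟨Nat.prime_three⟩
  obtain ⟨P, hP⟩ := (IsPGroup.of_card (n := 2) (by rw [S.card_DG]; norm_num) : IsPGroup 3 S.DG).exists_le_sylow
  refine ⟨P, (Subgroup.eq_of_le_of_card_ge hP ?_).symm⟩
  obtain ⟨n, hn⟩ := IsPGroup.iff_card.1 P.2
  have : n ≤ 2 := by
    by_contra hn'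
    exact S.not27 ((show 3 ^ 3 ∣ Nat.card (P : Subgroup G) from hn ▸ pow_dvd_pow 3 (by omega)).trans
      (Subgroup.card_subgroup_dvd_card _))
  rw [hn, S.card_DG]
  exact (Nat.pow_le_pow_right (by norm_num) this).trans (by norm_num)

/-- A normal subgroup of odd order is trivial. -/
theorem Exc.odd_normal (X : S.Exc) (W : Subgroup G) [hW : W.Normal] (hodd : Odd (Nat.card W)) : W = ⊥ := by
  haveI : Fact (Nat.Prime 3) := ⟨Nat.prime_three⟩
  have hA : ∀ a, Perm.sign a = 1 → S.five a ∈ W → a = 1 := by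
    intro a ha hm
    rcases alt5_bot_or_all (H := W.comap (S.five.comp (alternatingGroup (Fin 5)).subtype))
      (hW.comap _) with h | h
    · exact congrArg Subtype.val (h ⟨a, Perm.mem_alternatingGroup.2 ha⟩ hm)
    · exfalso
      have hx : S.five x5 ∈ W := h ⟨x5, Perm.mem_alternatingGroup.2 v4_facts.2.2.2.2.1⟩
      haveI : Fact (Nat.Prime 2) := ⟨Nat.prime_two⟩
      have ho : orderOf (S.five x5) = 2 := orderOf_eq_prime (by rw [← map_pow, pow_two, alt5_facts.2.2.1, map_one])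
        (fun e => alt5_facts.2.2.2.1 (S.five_inj (e.trans (map_one _).symm)))
      have := ho ▸ Subgroup.orderOf_dvd_natCard W hx
      exact Nat.not_even_iff_odd.2 hodd (even_iff_two_dvd.2 this)
  have hcw : ∀ x ∈ W, S.cw x ∈ W := fun x hx => by
    rw [cw, MulAut.conj_apply]; exact hW.conj_mem x hx _
  have hline : ∀ i j : Fin 3, S.e (zm ^ (i : ℕ) * um ^ (j : ℕ)) ∈ W → j = 0 := by
    intro i j hm
    refine alt5_facts.1 j (hA _ (alt5_facts.2.2.2.2 j) ?_)
    have hc : Commute (S.e zm ^ (i : ℕ)) (S.five (c3 ^ (j : ℕ) * x5 * (c3 ^ (j : ℕ))⁻¹)) :=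
      (S.five_comm _).symm.pow_left _
    have e : S.e (zm ^ (i : ℕ) * um ^ (j : ℕ)) * (S.five x5 * (S.e (zm ^ (i : ℕ) * um ^ (j : ℕ)))⁻¹ * (S.five x5)⁻¹) =
        S.five (c3 ^ (j : ℕ) * x5 * (c3 ^ (j : ℕ))⁻¹ * x5⁻¹) := by
      have hu : S.five c3 = S.e um := rfl
      rw [map_mul, map_pow, map_pow, map_mul _ _ x5⁻¹, map_inv]
      have h2 : S.e zm ^ (i : ℕ) * S.five (c3 ^ (j : ℕ) * x5 * (c3 ^ (j : ℕ))⁻¹) * (S.e zm ^ (i : ℕ))⁻¹ =
          S.five (c3 ^ (j : ℕ) * x5 * (c3 ^ (j : ℕ))⁻¹) := by rw [hc.eq, mul_inv_cancel_right]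
      rw [← h2, map_mul, map_mul, map_inv, map_pow, hu]
      group
    rw [← e]
    exact W.mul_mem hm (hW.conj_mem _ (W.inv_mem hm) _)
  have hD : ∀ q ∈ d9, S.e q ∈ W → q = 1 := by
    intro q hq hm
    obtain ⟨i, j, rfl⟩ := d9_ij q hq
    have hj := hline i j hm
    have hm' := hcw _ hm
    rw [S.cw_ij, (ij_d9 i j).2.1] at hm'
    have hi := hline j i hm'
    subst hi hj
    simp
  have hd3 : ∀ q ∈ d9, q ^ 3 = 1 := by decide +kernel
  have h3 : ¬ 3 ∣ Nat.card W := by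
    intro h
    obtain ⟨⟨x, hx⟩, hxo⟩ := exists_prime_orderOf_dvd_card' (G := W) 3 h
    rw [Subgroup.orderOf_mk] at hxo
    obtain ⟨P, hP⟩ := X.sylow_three
    obtain ⟨Q, hQ⟩ := (IsPGroup.of_card (n := 1) (by rw [Nat.card_zpowers, hxo, pow_one]) :
      IsPGroup 3 (Subgroup.zpowers x)).exists_le_sylow
    obtain ⟨k, hk⟩ := MulAction.exists_smul_eq G Q P
    obtain ⟨q, hq, hqe⟩ : k * x * k⁻¹ ∈ S.DG := by
      rw [← hP, ← hk]
      exact Subgroup.smul_mem_pointwise_smul _ (MulAut.conj k) _ (hQ (Subgroup.mem_zpowers x))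
    have h1 := hD q hq (hqe ▸ hW.conj_mem x hx k)
    rw [h1, map_one, eq_comm, conj_eq_one_iff] at hqe
    rw [hqe, orderOf_one] at hxo
    omega
  have hcz : ∀ g ∈ W, g * S.e zm = S.e zm * g → g = 1 := by
    intro g hg hgz
    obtain ⟨i, τ, rfl⟩ := S.cent_z_split hgz
    have hτ : τ = 1 := by
      have key : ∀ a, Perm.sign a = 1 → a * τ * a⁻¹ * τ⁻¹ = 1 := by
        intro a ha
        refine hA _ (by simp [Perm.sign_mul, Perm.sign_inv, ha]) ?_
        have e : S.five a * (S.e zm ^ (i : ℕ) * S.five τ) * (S.five a)⁻¹ * (S.e zm ^ (i : ℕ) * S.five τ)⁻¹ =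
            S.five (a * τ * a⁻¹ * τ⁻¹) := by
          have h2 : S.five a * S.e zm ^ (i : ℕ) = S.e zm ^ (i : ℕ) * S.five a :=
            ((S.five_comm a).pow_right _).eq
          have h3 : S.e zm ^ (i : ℕ) * S.five (a * τ * a⁻¹ * τ⁻¹) * (S.e zm ^ (i : ℕ))⁻¹ =
              S.five (a * τ * a⁻¹ * τ⁻¹) := by
            rw [((S.five_comm _).symm.pow_left (i : ℕ)).eq, mul_inv_cancel_right]
          rw [← h3, ← mul_assoc (S.five a), h2, map_mul, map_mul, map_mul, map_inv, map_inv]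
          group
        rw [← e]
        exact W.mul_mem (hW.conj_mem _ hg _) (W.inv_mem hg)
      exact v4_facts.2.2.1 τ
        (mul_inv_eq_iff_eq_mul.1 (mul_inv_eq_one.1 (key c3 (by decide +kernel)))).symm
        (mul_inv_eq_iff_eq_mul.1 (mul_inv_eq_one.1 (key x5 v4_facts.2.2.2.2.1))).symm
    subst hτ
    rw [map_one, mul_one, ← map_pow] at hg ⊢
    rw [hD _ ((by decide +kernel : ∀ i : Fin 3, zm ^ (i : ℕ) ∈ d9) i) hg, map_one]
  have hDN : S.DG ≤ Subgroup.normalizer (W : Set G) := by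
    rw [Subgroup.normalizer_eq_top_iff.2 hW]; exact le_top
  have hDcomm : IsMulCommutative S.DG := ⟨⟨fun a b => by
    obtain ⟨qa, hqa, ha⟩ := S.mem_DG.1 a.2
    obtain ⟨qb, hqb, hb⟩ := S.mem_DG.1 b.2
    refine Subtype.ext ?_
    show (a : G) * b = b * a
    rw [← ha, ← hb, S.e_comm_iff]
    exact (by decide +kernel : ∀ a ∈ d9, ∀ b ∈ d9, a * b = b * a) qa hqa qb hqb⟩⟩
  have hnc : ¬ IsCyclic S.DG := by
    intro hcy
    obtain ⟨g, hg⟩ := IsCyclic.exists_ofOrder_eq_natCard (α := S.DG)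
    rw [S.card_DG] at hg
    obtain ⟨q, hq, hgq⟩ := S.mem_DG.1 g.2
    have hle := orderOf_le_of_pow_eq_one (by norm_num)
      (show g ^ 3 = 1 from Subtype.ext (by rw [Subgroup.coe_pow, ← hgq, ← map_pow, hd3 q hq, map_one]; rfl))
    omega
  have hcop : (Nat.card S.DG).Coprime (Nat.card W) := by
    rw [S.card_DG, show 9 = 3 ^ 2 by norm_num]
    exact ((Nat.Prime.coprime_iff_not_dvd Nat.prime_three).2 h3).pow_left 2
  rw [eq_bot_iff]
  refine (Cfsg.Lib.Coprime.le_iSup_centralizer_of_not_isCyclic hnc hDN hcop).trans (iSup_le ?_)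
  rintro ⟨d, hd, hd1⟩ x ⟨hx, hxd⟩
  rw [Subgroup.mem_bot]
  obtain ⟨q, hq, rfl⟩ := S.mem_DG.1 hd
  have hxq : x * S.e q = S.e q * x := mem_cent_singleton.1 hxd
  have hq1 : q ≠ 1 := fun e => hd1 (by rw [e, map_one])
  rcases mixed_norm q hq with h' | h' | ⟨k, -, rfl, -, hk⟩
  · refine hcz x hx ?_
    rcases (line_gen q hq hq1).1 h' with e | e
    · rw [← e]; exact hxq
    · rw [← e, map_mul]; exact (Commute.mul_right hxq hxq).eq
  · have hu : x * S.e um = S.e um * x := by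
      rcases (line_gen q hq hq1).2 h' with e | e
      · rw [← e]; exact hxq
      · rw [← e, map_mul]; exact (Commute.mul_right hxq hxq).eq
    have h := hcz _ (hcw x hx) (by rw [← S.cw_u, ← map_mul, ← map_mul, hu])
    exact S.cw.injective (h.trans (map_one _).symm)
  · refine hcz x hx ?_
    have hkN : S.e k ∈ Subgroup.normalizer (S.DG : Set G) :=
      mem_normalizer_of_forall (S.DG_norm_e fun p hp => (hk p hp).1)
    have h2 : ((S.e k)⁻¹ * x * S.e k) * S.e (zm * um) = S.e (zm * um) * ((S.e k)⁻¹ * x * S.e k) := by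
      rw [map_mul _ (k * (zm * um)), map_mul _ k, map_inv] at hxq
      calc _ = (S.e k)⁻¹ * (x * (S.e k * S.e (zm * um) * (S.e k)⁻¹)) * S.e k := by group
        _ = _ := by rw [hxq]; group
    obtain ⟨d', hd', k', hk', h3'⟩ := S.cent_y h2
    have hd'k : S.e (d' * k') ∈ Subgroup.normalizer (S.DG : Set G) :=
      mem_normalizer_of_forall (S.DG_norm_e fun p hp =>
        (by decide +kernel : ∀ d ∈ d9, ∀ k ∈ [1, sm], ∀ p ∈ d9, (d * k) * p * (d * k)⁻¹ ∈ d9)
          d' hd' k' hk' p hp)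
    have hmem : (S.e k)⁻¹ * x * S.e k ∈ Subgroup.normalizer (S.DG : Set G) := by
      rcases h3' with h3' | h3' <;> rw [h3']
      · exact hd'k
      · exact mul_mem S.w_mem_ND hd'k
    have hxN : x ∈ Subgroup.normalizer (S.DG : Set G) := by
      have := mul_mem (mul_mem hkN hmem) (inv_mem hkN)
      rwa [show S.e k * ((S.e k)⁻¹ * x * S.e k) * (S.e k)⁻¹ = x by group] at this
    have hzD : S.e zm ∈ S.DG := ⟨zm, mem_D9.2 (by decide +kernel), rfl⟩
    have h5 : x * S.e zm * x⁻¹ * (S.e zm)⁻¹ ∈ W := by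
      rw [show x * S.e zm * x⁻¹ * (S.e zm)⁻¹ = x * (S.e zm * x⁻¹ * (S.e zm)⁻¹) by group]
      exact W.mul_mem hx (hW.conj_mem _ (W.inv_mem hx) _)
    obtain ⟨q', hq', e'⟩ := S.mem_DG.1 (S.DG.mul_mem (conj_mem_normalizer hxN hzD) (S.DG.inv_mem hzD))
    have h6 := hD q' hq' (e' ▸ h5)
    rw [h6, map_one] at e'
    exact mul_inv_eq_iff_eq_mul.1 (mul_inv_eq_one.1 e'.symm)

set_option maxHeartbeats 3200000 in
/-- The exceptional group. -/
theorem Exc.result (X : S.Exc) {K1 : Subgroup G} [hK1n : K1.Normal] (hK1 : K1.index = 2)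
    (hs : S.e sm ∉ K1) (hw : S.w ∈ K1) :
    ∃ N : Subgroup G, N.Normal ∧ Cfsg.generalizedFittingSubgroup G = N ∧
      Nonempty (N ≃* alternatingGroup (Fin 5) × alternatingGroup (Fin 5)) ∧
      (∀ K : Subgroup G, K.Normal → K ≤ N → K = ⊥ ∨ K = N) ∧ N.index = 4 ∧ ∀ g : G, g ^ 2 ∈ N := by
  haveI : Fact (Nat.Prime 2) := ⟨Nat.prime_two⟩
  haveI : Fact (Nat.Prime 3) := ⟨Nat.prime_three⟩
  obtain ⟨K2, hK2n, hK2, hw2⟩ := X.exists_K2 hK1 hs hw
  haveI := hK2n
  set K3 := K1 ⊓ K2 with hK3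
  haveI hK3n : K3.Normal := Subgroup.normal_inf_normal K1 K2
  have hMK : X.MG ≤ K3 := by
    rintro _ ⟨x, hx, rfl⟩; exact ⟨X.even_mem hK1 hx, X.even_mem hK2 hx⟩
  have hRK : ∀ x : L0, X.lf x ∈ K3 → x ∈ M0 := by
    intro x hx
    have h1 := (X.mem_K1 hK1 hs hw x).1 hx.1
    refine ⟨?_, h1⟩
    rcases two_cases' x.right with e | e
    · exact e
    · exfalso
      apply hw2
      have hmem : X.lf ⟨x.left, 1⟩ ∈ K2 := X.even_mem hK2 ⟨rfl, h1⟩
      have e' : x = ⟨x.left, 1⟩ * w0 := SemidirectProduct.ext (by simp [w0]) (by simp [w0, e])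
      have h2 := hx.2
      rw [e', map_mul, X.lf_w] at h2
      simpa using K2.mul_mem (K2.inv_mem hmem) h2
  have hA0M : A0 ≤ M0 := fun x hx => ⟨hx.1, (v4_facts.1 _ hx.2.1).1⟩
  have hAK : X.AG ≤ K3 := (Subgroup.map_mono hA0M).trans hMK
  -- `A` is a Sylow subgroup of `K3`
  obtain ⟨P, hP⟩ := X.TG_sylow
  obtain ⟨SA, hSA⟩ := (((hP ▸ P.2 : IsPGroup 2 X.TG).to_le X.AG_le_TG).of_equiv
    (Subgroup.subgroupOfEquivOfLe hAK).symm).exists_le_sylow
  have hSAeq : (SA : Subgroup K3) = X.AG.subgroupOf K3 := by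
    refine le_antisymm ?_ hSA
    obtain ⟨P', hP'⟩ := (SA.2.map K3.subtype).exists_le_sylow
    obtain ⟨k, hk⟩ := MulAction.exists_smul_eq G P' P
    have hkP : ∀ y ∈ (P' : Subgroup G), k * y * k⁻¹ ∈ X.TG := fun y hy => by
      rw [← hP, ← hk]; exact Subgroup.smul_mem_pointwise_smul _ (MulAut.conj k) _ hy
    have hkA : k ∈ Subgroup.normalizer (X.AG : Set G) := X.AG_weakly fun a ha =>
      hkP a (hP' ⟨⟨a, hAK ha⟩, hSA (Subgroup.mem_subgroupOf.2 ha), rfl⟩)
    intro y hy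
    obtain ⟨t, ht, hte⟩ := hkP _ (hP' (Subgroup.mem_map_of_mem K3.subtype hy))
    have htM : t ∈ M0 := hRK t (hte ▸ hK3n.conj_mem _ y.2 k)
    have htA : t ∈ A0 := by
      have hb : Perm.sign t.left.1.2 = 1 := (t.left.2 : Perm.sign t.left.1.1 = _).symm.trans htM.2
      refine ⟨htM.1, ?_, ?_⟩
      · exact (Q_classes.2.2.2 _ ht.1).resolve_right (by rw [htM.2]; decide)
      · exact (Q_classes.2.2.2 _ ht.2).resolve_right (by rw [hb]; decide)
    have := conj_mem_normalizer (inv_mem hkA) (hte ▸ X.mem_AG.2 htA)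
    rw [Subgroup.mem_subgroupOf]
    simp only [Subgroup.subtype_apply] at this
    rwa [show k⁻¹ * (k * (y : G) * k⁻¹) * k⁻¹⁻¹ = (y : G) by group] at this
  -- the two four-groups are strongly closed
  have hAc : ∀ a ∈ X.AG, ∀ b ∈ X.AG, a * b = b * a := by
    rintro _ ⟨a, ha, rfl⟩ _ ⟨b, hb, rfl⟩
    rw [← map_mul, ← map_mul]
    refine congrArg X.lf (SemidirectProduct.ext (Subtype.ext (Prod.ext ?_ ?_)) ?_)
    · show a.left.1.1 * (swA a.right b.left).1.1 = b.left.1.1 * (swA b.right a.left).1.1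
      rw [ha.1, hb.1, map_one]
      exact (by decide +kernel : ∀ p ∈ v4l, ∀ q ∈ v4l, p * q = q * p) _ ha.2.1 _ hb.2.1
    · show a.left.1.2 * (swA a.right b.left).1.2 = b.left.1.2 * (swA b.right a.left).1.2
      rw [ha.1, hb.1, map_one]
      exact (by decide +kernel : ∀ p ∈ v4l, ∀ q ∈ v4l, p * q = q * p) _ ha.2.2 _ hb.2.2
    · show a.right * b.right = b.right * a.right
      exact mul_comm _ _
  have hclosed : ∀ V : Subgroup L0, V ≤ A0 → (∀ n ∈ M0, ∀ x ∈ V, n ∈ N0 → n * x * n⁻¹ ∈ V) →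
      Cfsg.IsStronglyClosed ((V.map X.lf).subgroupOf K3) (SA : Subgroup K3) := by
    intro V hV hconj
    refine ⟨fun y hy => hSAeq.symm ▸ Subgroup.mem_subgroupOf.2 (Subgroup.map_mono hV hy), ?_⟩
    intro y hy g hg
    rw [hSAeq] at hg
    obtain ⟨x, hx, hxe⟩ := Subgroup.mem_subgroupOf.1 hy
    obtain ⟨n, hn, hne⟩ := fusion_weakly_closed SA (X.AG.subgroupOf K3) hSA
      (fun a ha b hb => Subtype.ext (hAc _ ha _ hb))
      (fun g hg' => mem_normalizer_of_forall fun a ha => hSAeq ▸ hg' a ha)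
      (x := y) (Subgroup.mem_subgroupOf.2 (hxe ▸ X.mem_AG.2 (hV hx))) hg
    rw [← hne]
    have hnN : (n : G) ∈ Subgroup.normalizer (X.AG : Set G) := mem_normalizer_of_forall fun a ha =>
      Subgroup.mem_subgroupOf.1 (conj_mem_normalizer hn (show (⟨a, hAK ha⟩ : K3) ∈ X.AG.subgroupOf K3 from ha))
    rw [X.norm_A] at hnN
    obtain ⟨n0, hn0, hn0e⟩ := hnN
    refine Subgroup.mem_subgroupOf.2 ⟨n0 * x * n0⁻¹, hconj n0 (hRK n0 (hn0e ▸ n.2)) x hx hn0, ?_⟩
    simp only [map_mul, map_inv, Subgroup.coe_mul, InvMemClass.coe_inv]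
    rw [hn0e, hxe]
  have hV1 := hclosed V10 (fun x hx => hx.1) fun n hn x hx hn0 => ⟨N0_normalises hn0 hx.1, by
    rw [conj_formula n x hx.1.1, hn.1, map_one]
    show n.left.1.2 * x.left.1.2 * n.left.1.2⁻¹ = 1
    rw [hx.2, mul_one, mul_inv_cancel]⟩
  have hV2 := hclosed V20 (fun x hx => hx.1) fun n hn x hx hn0 => ⟨N0_normalises hn0 hx.1, by
    rw [conj_formula n x hx.1.1, hn.1, map_one]
    show n.left.1.1 * x.left.1.1 * n.left.1.1⁻¹ = 1
    rw [hx.2, mul_one, mul_inv_cancel]⟩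
  have hO : Cfsg.oddCore K3 = ⊥ := by
    haveI : ((Cfsg.oddCore K3).map K3.subtype).Normal := ConjAct.normal_of_characteristic_of_normal
    refine (Subgroup.map_eq_bot_iff_of_injective _ K3.subtype_injective).1 (X.odd_normal _ ?_)
    rw [Subgroup.card_map_of_injective K3.subtype_injective]
    exact Cfsg.Lib.ZStar.odd_card_oddCore
  have hprod := Cfsg.Lib.Goldschmidt.Product.productHolds K3 SA _ _ hV1 hV2
    (fun a ha b hb => Subtype.ext (hAc _ ((Subgroup.map_mono (fun x hx => hx.1) : V10.map X.lf ≤ X.AG) ha) _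
      ((Subgroup.map_mono (fun x hx => hx.1) : V20.map X.lf ≤ X.AG) hb)))
    (by
      rw [eq_bot_iff]
      intro y hy
      obtain ⟨x, hx, hxe⟩ := Subgroup.mem_subgroupOf.1 hy.1
      obtain ⟨x', hx', hxe'⟩ := Subgroup.mem_subgroupOf.1 hy.2
      have e := X.lf_inj (hxe.trans hxe'.symm)
      subst e
      refine Subgroup.mem_bot.2 (Subtype.ext ?_)
      rw [← hxe, show x = 1 from SemidirectProduct.ext (Subtype.ext (Prod.ext hx'.2 hx.2)) hx.1.1, map_one]
      rfl)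
  rw [hO, le_bot_iff] at hprod
  set N1 := Subgroup.normalClosure (((V10.map X.lf).subgroupOf K3 : Subgroup K3) : Set K3)
  set N2 := Subgroup.normalClosure (((V20.map X.lf).subgroupOf K3 : Subgroup K3) : Set K3)
  haveI hN1n : N1.Normal := Subgroup.normalClosure_normal
  haveI hN2n : N2.Normal := Subgroup.normalClosure_normal
  have hcomm : ∀ a ∈ N1, ∀ b ∈ N2, a * b = b * a := fun a ha b hb =>
    (Subgroup.mem_centralizer_iff.1 (Subgroup.commutator_eq_bot_iff_le_centralizer.1 hprod ha) b hb).symm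
  have hfK : ∀ a, Perm.sign a = 1 → S.five a ∈ K3 ∧ S.cw (S.five a) ∈ K3 := fun a ha =>
    ⟨hMK ⟨pr a 1 (ha.trans Perm.sign_one.symm), ⟨rfl, ha⟩, (X.five_even ha).1⟩,
      hMK ⟨pr 1 a (Perm.sign_one.trans ha.symm), ⟨rfl, Perm.sign_one⟩, (X.five_even ha).2⟩⟩
  let f1 : alternatingGroup (Fin 5) →* K3 :=
    (S.five.comp (alternatingGroup (Fin 5)).subtype).codRestrict K3 fun a => (hfK a.1 a.2).1
  let f2 : alternatingGroup (Fin 5) →* K3 :=
    ((S.cw.toMonoidHom.comp S.five).comp (alternatingGroup (Fin 5)).subtype).codRestrict K3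
      fun a => (hfK a.1 a.2).2
  obtain ⟨v, hv, hv1, hvs⟩ := v_elem
  have h1in : ∀ a, f1 a ∈ N1 := by
    refine (alt5_bot_or_all (H := N1.comap f1) (hN1n.comap f1)).resolve_left fun h => hv1 ?_
    refine congrArg Subtype.val (h ⟨v, Perm.mem_alternatingGroup.2 hvs⟩ (Subgroup.subset_normalClosure ?_))
    exact Subgroup.mem_subgroupOf.2 ⟨pr v 1 (hvs.trans Perm.sign_one.symm), ⟨⟨rfl, hv, v4.one_mem⟩, rfl⟩,
      (X.five_even hvs).1⟩
  have h2in : ∀ a, f2 a ∈ N2 := by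
    refine (alt5_bot_or_all (H := N2.comap f2) (hN2n.comap f2)).resolve_left fun h => hv1 ?_
    refine congrArg Subtype.val (h ⟨v, Perm.mem_alternatingGroup.2 hvs⟩ (Subgroup.subset_normalClosure ?_))
    exact Subgroup.mem_subgroupOf.2 ⟨pr 1 v (Perm.sign_one.trans hvs.symm), ⟨⟨rfl, v4.one_mem, hv⟩, rfl⟩,
      (X.five_even hvs).2⟩
  have hN1five : ∀ y ∈ N1, ∃ a, Perm.sign a = 1 ∧ (y : G) = S.five a := fun y hy =>
    X.cent_half fun b hb => congrArg Subtype.val (hcomm y hy _ (h2in ⟨b, Perm.mem_alternatingGroup.2 hb⟩))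
  have hN2five : ∀ y ∈ N2, ∃ a, Perm.sign a = 1 ∧ (y : G) = S.cw (S.five a) := by
    intro y hy
    obtain ⟨a, ha, e⟩ := X.cent_half (g := S.cw (y : G)) fun b hb => by
      rw [← map_mul, ← map_mul]
      exact congrArg S.cw (congrArg Subtype.val (hcomm _ (h1in ⟨b, Perm.mem_alternatingGroup.2 hb⟩) y hy)).symm
    exact ⟨a, ha, by rw [← e, S.cw_cw]⟩
  have hMconjK : ∀ g ∈ K3, ∀ m ∈ X.MG, g * m * g⁻¹ ∈ X.MG := by
    rintro g hg _ ⟨⟨⟨⟨a, b⟩, hp⟩, i⟩, ⟨rfl, ha⟩, rfl⟩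
    have hb : Perm.sign b = 1 := (hp : Perm.sign a = Perm.sign b).symm.trans ha
    rw [X.lf_apply, X.psi_even a b ha hb]
    obtain ⟨a', ha', e1⟩ := hN1five _ (hN1n.conj_mem _ (h1in ⟨a, Perm.mem_alternatingGroup.2 ha⟩) ⟨g, hg⟩)
    obtain ⟨b', hb', e2⟩ := hN2five _ (hN2n.conj_mem _ (h2in ⟨b, Perm.mem_alternatingGroup.2 hb⟩) ⟨g, hg⟩)
    refine ⟨pr a' b' (ha'.trans hb'.symm), ⟨rfl, ha'⟩, ?_⟩
    rw [X.lf_even a' b' ha' hb', ← e1, ← e2]
    show g * S.five a * g⁻¹ * (g * S.cw (S.five b) * g⁻¹) = g * (S.five a * S.cw (S.five b)) * g⁻¹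
    group
  have hMconjR : ∀ g ∈ X.lf.range, ∀ m ∈ X.MG, g * m * g⁻¹ ∈ X.MG := by
    rintro _ ⟨x, rfl⟩ _ ⟨y, hy, rfl⟩
    exact ⟨x * y * x⁻¹, M0_normal x hy, by rw [map_mul, map_mul, map_inv]⟩
  have hsR : S.e sm ∈ X.lf.range := ⟨s0, X.lf_s⟩
  have hdecomp : ∀ g : G, ∃ k ∈ K3, ∃ t ∈ X.lf.range, g = k * t := by
    intro g
    have hsK : ∀ k : G, k ∈ K1 → ∃ k' ∈ K3, ∃ t ∈ X.lf.range, k = k' * t := by
      intro k hk
      by_cases h2 : k ∈ K2
      · exact ⟨k, ⟨hk, h2⟩, 1, one_mem _, (mul_one k).symm⟩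
      · refine ⟨k * S.w, ⟨K1.mul_mem hk hw, ?_⟩, S.w, X.w_mem, by rw [mul_assoc, S.w_sq, mul_one]⟩
        exact (Subgroup.mul_mem_iff_of_index_two hK2).2 (iff_of_false h2 hw2)
    by_cases h1 : g ∈ K1
    · exact hsK g h1
    · have hs2 : S.e sm * S.e sm = 1 := by rw [← map_mul, model_facts.2.2.1, map_one]
      obtain ⟨k', hk', t, ht, e⟩ := hsK (g * S.e sm)
        ((Subgroup.mul_mem_iff_of_index_two hK1).2 (iff_of_false h1 hs))
      exact ⟨k', hk', t * S.e sm, mul_mem ht hsR, by rw [← mul_assoc, ← e, mul_assoc, hs2, mul_one]⟩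
  haveI hMn : X.MG.Normal := ⟨fun m hm g => by
    obtain ⟨k, hk, t, ht, rfl⟩ := hdecomp g
    rw [show k * t * m * (k * t)⁻¹ = k * (t * m * t⁻¹) * k⁻¹ by group]
    exact hMconjK k hk _ (hMconjR t ht m hm)⟩
  -- the whole group
  obtain ⟨P3, hP3⟩ := X.sylow_three
  have hDM : (P3 : Subgroup G) ≤ X.MG := by
    rw [hP3]
    rintro _ ⟨q, hq, rfl⟩
    obtain ⟨x, hx, e⟩ := X.dl_D.2 q hq
    refine ⟨x, ⟨(dl_facts.1 x hx).1.1, ?_⟩, e⟩
    exact (fix4_facts.2.2.2.1 _ (dl_facts.1 x hx).1.2.1).2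
  have hR : X.lf.range = ⊤ := by
    refine top_le_iff.1 (le_of_eq_of_le (Sylow.normalizer_sup_eq_top' P3 hDM).symm (sup_le ?_ ?_))
    · intro g hg
      exact X.ND_range (by rw [← hP3]; exact hg)
    · exact Subgroup.map_le_range X.lf M0
  have hK3eq : K3 = X.MG := by
    refine le_antisymm (fun g hg => ?_) hMK
    obtain ⟨x, rfl⟩ : g ∈ X.lf.range := hR ▸ Subgroup.mem_top g
    exact ⟨x, hRK x hg, rfl⟩
  have hidx : X.MG.index = 4 := by
    rw [← hK3eq]
    have h1 : K3.relIndex K1 * K1.index = K3.index := Subgroup.relIndex_mul_index inf_le_left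
    have h2 : K3.relIndex K1 = K2.relIndex K1 := Subgroup.inf_relIndex_left K1 K2
    have h3 : K2.relIndex K1 ∣ 2 := hK2 ▸ Subgroup.relIndex_dvd_index_of_normal K2 K1
    have h4 : K2.relIndex K1 = 2 := by
      rcases (Nat.dvd_prime Nat.prime_two).1 h3 with h | h
      · exact absurd (Subgroup.relIndex_eq_one.1 h hw) hw2
      · exact h
    rw [← h1, h2, h4, hK1]
  have hsq : ∀ g : G, g ^ 2 ∈ X.MG := by
    intro g
    rw [pow_two, ← hK3eq]
    exact ⟨(Subgroup.mul_mem_iff_of_index_two hK1).2 Iff.rfl, (Subgroup.mul_mem_iff_of_index_two hK2).2 Iff.rfl⟩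
  have hMnsol : ¬ Group.IsSolvable X.MG := by
    intro h
    let j : alternatingGroup (Fin 5) →* X.MG :=
      (S.five.comp (alternatingGroup (Fin 5)).subtype).codRestrict X.MG fun a =>
        ⟨pr a.1 1 (a.2.trans Perm.sign_one.symm), ⟨rfl, a.2⟩, (X.five_even a.2).1⟩
    haveI := h
    have hj : Function.Injective j := fun a b e =>
      Subtype.ext (S.five_inj (congrArg Subtype.val e))
    haveI := Group.isSolvable_of_isSolvable_injective hj
    haveI : IsSimpleGroup (alternatingGroup (Fin 5)) := alternatingGroup.isSimpleGroup_five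
    exact alt5_facts.2.1 (congrArg Subtype.val (IsSimpleGroup.comm_iff_isSolvable.2 ‹Group.IsSolvable (alternatingGroup (Fin 5))›
      (⟨x5, Perm.mem_alternatingGroup.2 v4_facts.2.2.2.2.1⟩ : alternatingGroup (Fin 5))
      ⟨c3, Perm.mem_alternatingGroup.2 (by decide +kernel)⟩))
  -- minimality
  have hmin : ∀ K : Subgroup G, K.Normal → K ≤ X.MG → K = ⊥ ∨ K = X.MG := by
    intro K hK hle
    haveI := hK
    refine or_iff_not_imp_left.2 fun hne => le_antisymm hle ?_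
    have hsw : ∀ a b : Perm (Fin 5), ∀ h : Perm.sign a = Perm.sign b,
        X.lf (pr a b h) ∈ K → X.lf (pr b a h.symm) ∈ K := by
      intro a b h hm
      have := hK.conj_mem _ hm (X.lf w0)
      rwa [← map_inv, ← map_mul, ← map_mul, conj_formula w0 _ rfl,
        show (⟨w0.left * swA w0.right (pr a b h).left * w0.left⁻¹, 1⟩ : L0) = pr b a h.symm from
          SemidirectProduct.ext (by simp [w0, pr]; rfl) rfl] at this
    have hfive : ∀ a, Perm.sign a = 1 → S.five a ∈ K := by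
      have key : ∀ a, Perm.sign a = 1 → a ≠ 1 → S.five a ∈ K → ∀ b, Perm.sign b = 1 → S.five b ∈ K := by
        intro a ha ha1 hm b hb
        rcases alt5_bot_or_all (H := K.comap (S.five.comp (alternatingGroup (Fin 5)).subtype))
          (hK.comap _) with h | h
        · exact absurd (congrArg Subtype.val (h ⟨a, Perm.mem_alternatingGroup.2 ha⟩ hm)) ha1
        · exact h ⟨b, Perm.mem_alternatingGroup.2 hb⟩
      obtain ⟨k, hk, hk1⟩ := K.bot_or_exists_ne_one.resolve_left hne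
      obtain ⟨⟨⟨⟨a, b⟩, hp⟩, i⟩, ⟨rfl, ha⟩, rfl⟩ := hle hk
      have hb : Perm.sign b = 1 := (hp : Perm.sign a = Perm.sign b).symm.trans ha
      obtain ⟨a', b', ha', hb', ha1, hm⟩ : ∃ a' b', Perm.sign a' = 1 ∧ ∃ hb' : Perm.sign b' = 1,
          a' ≠ 1 ∧ S.five a' * S.cw (S.five b') ∈ K := by
        by_cases ha1 : a = 1
        · refine ⟨b, a, hb, ha, fun hb1 => hk1 ?_, ?_⟩
          · subst ha1 hb1
            rw [show (⟨⟨(1, 1), hp⟩, 1⟩ : L0) = 1 from rfl, map_one]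
          · have := hsw a b (ha.trans hb.symm) hk
            rwa [X.lf_even b a hb ha] at this
        · refine ⟨a, b, ha, hb, ha1, ?_⟩
          have h' : X.lf (pr a b (ha.trans hb.symm)) ∈ K := hk
          rwa [X.lf_even a b ha hb] at h'
      obtain ⟨c, hc, hca⟩ : ∃ c, Perm.sign c = 1 ∧ c * a' ≠ a' * c := by
        by_contra h
        push Not at h
        exact ha1 (v4_facts.2.2.1 a' (h c3 (by decide +kernel)).symm (h x5 v4_facts.2.2.2.2.1).symm)
      refine key (c * a' * c⁻¹ * a'⁻¹) (by simp [Perm.sign_mul, Perm.sign_inv, hc]) (fun e => hca ?_) ?_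
      · exact mul_inv_eq_iff_eq_mul.1 (mul_inv_eq_one.1 e)
      · have hc2 : Commute (S.five c) (S.cw (S.five b')) := S.halves_comm X.exc X.cn hc hb'
        have := K.mul_mem (hK.conj_mem _ hm (S.five c)) (K.inv_mem hm)
        convert this using 1
        calc S.five (c * a' * c⁻¹ * a'⁻¹)
            = S.five c * S.five a' * (S.cw (S.five b') * (S.five c)⁻¹ * (S.cw (S.five b'))⁻¹) * (S.five a')⁻¹ := by
              rw [← hc2.inv_left.eq, mul_inv_cancel_right, map_mul, map_mul, map_mul, map_inv, map_inv]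
          _ = _ := by group
    rintro _ ⟨⟨⟨⟨a, b⟩, hp⟩, i⟩, ⟨rfl, ha⟩, rfl⟩
    have hb : Perm.sign b = 1 := (hp : Perm.sign a = Perm.sign b).symm.trans ha
    rw [X.lf_apply, X.psi_even a b ha hb]
    refine mul_mem (hfive a ha) ?_
    rw [cw, MulAut.conj_apply]
    exact hK.conj_mem _ (hfive b hb) _
  have hcent : Subgroup.centralizer (X.MG : Set G) = ⊥ := by
    rw [eq_bot_iff]
    intro g hg
    rw [Subgroup.mem_bot]
    obtain ⟨a, ha, rfl⟩ := X.cent_half (g := g) fun b hb =>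
      (Subgroup.mem_centralizer_iff.1 hg _ ⟨pr 1 b (Perm.sign_one.trans hb.symm), ⟨rfl, Perm.sign_one⟩,
        (X.five_even hb).2⟩).symm
    have hc : ∀ b, Perm.sign b = 1 → a * b = b * a := fun b hb => S.five_inj (by
      rw [map_mul, map_mul]
      exact (Subgroup.mem_centralizer_iff.1 hg _ ⟨pr b 1 (hb.trans Perm.sign_one.symm), ⟨rfl, hb⟩,
        (X.five_even hb).1⟩).symm)
    rw [v4_facts.2.2.1 a (hc c3 (by decide +kernel)) (hc x5 v4_facts.2.2.2.2.1), map_one]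
  have hF : Cfsg.generalizedFittingSubgroup G = X.MG := by
    have hfit : Cfsg.fittingSubgroup G ≤ X.MG := by
      refine sSup_le fun N hN => ?_
      obtain ⟨hNn, hNil⟩ := hN
      haveI := hNn
      haveI := hNil
      rcases hmin _ (Subgroup.normal_inf_normal N X.MG) inf_le_right with h | h
      · refine le_trans ?_ (bot_le (a := X.MG))
        rw [← hcent]
        intro n hn
        rw [Subgroup.mem_centralizer_iff]
        intro m hm
        have h' : m * n * m⁻¹ * n⁻¹ ∈ N ⊓ X.MG := ⟨N.mul_mem (hNn.conj_mem n hn m) (N.inv_mem hn), by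
          rw [show m * n * m⁻¹ * n⁻¹ = m * (n * m⁻¹ * n⁻¹) by group]
          exact X.MG.mul_mem hm (hMn.conj_mem _ (X.MG.inv_mem hm) n)⟩
        rw [h, Subgroup.mem_bot] at h'
        exact mul_inv_eq_iff_eq_mul.1 (mul_inv_eq_one.1 h')
      · exfalso
        haveI : Group.IsSolvable N := inferInstance
        exact hMnsol (Group.isSolvable_of_isSolvable_injective (Subgroup.inclusion_injective (h ▸ inf_le_left : X.MG ≤ N)))
    have hlay : Cfsg.layer G ≤ X.MG := by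
      refine sSup_le fun L hL => ?_
      have hp : ⁅L, L⁆ = L := Cfsg.Lib.Core.IsComponent.commutator_eq hL
      rw [← hp, Subgroup.commutator_le]
      intro a _ b _
      rw [commutatorElement_def, show a * b * a⁻¹ * b⁻¹ = a ^ 2 * (a⁻¹ * b) ^ 2 * (b⁻¹) ^ 2 by
        simp only [pow_two]; group]
      exact mul_mem (mul_mem (hsq a) (hsq _)) (hsq _)
    rcases hmin _ inferInstance (sup_le hlay hfit) with h | h
    · exfalso
      have hle := Cfsg.Lib.Core.centralizer_generalizedFitting_le (G := G)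
      rw [show Cfsg.generalizedFittingSubgroup G = ⊥ from h] at hle
      have : S.w = 1 := Subgroup.mem_bot.1 (hle (Subgroup.mem_centralizer_iff.2 fun x hx => by
        rw [Subgroup.mem_bot.1 hx, one_mul, mul_one]))
      exact hw2 (this ▸ one_mem K2)
    · exact h
  refine ⟨X.MG, hMn, hF, ⟨((M0.equivMapOfInjective X.lf X.lf_inj).symm.trans M0equiv)⟩, hmin, hidx, hsq⟩

end Cfg

end Cfsg.Lib.SymEightThree
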