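import Mathlib.GroupTheory.Perm.Fin

set_option autoImplicit false

/-!
Finite facts on the symmetric group of degree six.
-/

namespace Cfsg.Lib.SymEightThree.SixFacts

open Equiv

set_option maxRecDepth 10000
set_option synthInstance.maxSize 2000

/-- The number of fixed points. -/
def nfix (p : Perm (Fin 6)) : ℕ := ((List.finRange 6).filter fun i => p i = i).length

/-- The transpositions and the products of three disjoint ones. -/
def odds : List (Perm (Fin 6)) :=
  [swap 0 1, swap 0 2, swap 0 3, swap 0 4, swap 0 5, swap 1 2, swap 1 3, swap 1 4, swap 1 5, swap 2 3,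
    swap 2 4, swap 2 5, swap 3 4, swap 3 5, swap 4 5,
    swap 0 1 * swap 2 3 * swap 4 5, swap 0 1 * swap 2 4 * swap 3 5, swap 0 1 * swap 2 5 * swap 3 4,
    swap 0 2 * swap 1 3 * swap 4 5, swap 0 2 * swap 1 4 * swap 3 5, swap 0 2 * swap 1 5 * swap 3 4,
    swap 0 3 * swap 1 2 * swap 4 5, swap 0 3 * swap 1 4 * swap 2 5, swap 0 3 * swap 1 5 * swap 2 4,
    swap 0 4 * swap 1 2 * swap 3 5, swap 0 4 * swap 1 3 * swap 2 5, swap 0 4 * swap 1 5 * swap 2 3,
    swap 0 5 * swap 1 2 * swap 3 4, swap 0 5 * swap 1 3 * swap 2 4, swap 0 5 * swap 1 4 * swap 2 3]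

/-- Representatives of the classes of elements of order three. -/
def zreps : List (Perm (Fin 6)) := [swap 0 1 * swap 1 2, swap 0 1 * swap 1 2 * (swap 3 4 * swap 4 5)]

/-- Representatives of the classes of involutions. -/
def ireps : List (Perm (Fin 6)) := [swap 0 1, swap 0 1 * swap 2 3, swap 0 1 * swap 2 3 * swap 4 5]

theorem six_x : ∀ Z ∈ zreps, ∀ R : Perm (Fin 6), R * Z = Z * R → R * R = 1 → R ≠ 1 →
    ∀ W : Perm (Fin 6), W * W = 1 → (W * Z * W) * Z = Z * (W * Z * W) →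
    R * (W * Z * W) * R = (W * Z * W) * (W * Z * W) → W * Z * W ≠ Z → W * Z * W ≠ Z * Z →
    ∃ X ∈ odds, nfix X = nfix R ∧ X * R = R * X ∧ X * W = W * X ∧
      X * (R * (W * R * W)) * (X * (R * (W * R * W))) = 1 ∧
      nfix (X * (R * (W * R * W))) = nfix W ∧
      ∃ T ∈ odds, nfix T = nfix R ∧ nfix (X * W * T) = nfix R ∧ X * T = T * X ∧
        X * W * T * (X * W * T) = 1 ∧ T * (X * W * T) = X * W * T * T ∧
        X * (X * W * T) = X * W * T * X := by
  decide +kernel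

theorem zconj : ∀ Z : Perm (Fin 6), Z ^ 3 = 1 → Z ≠ 1 → ∃ g : Perm (Fin 6), g * Z * g⁻¹ ∈ zreps := by
  decide +kernel

theorem rconj : ∀ R : Perm (Fin 6), R * R = 1 → R ≠ 1 → ∃ g : Perm (Fin 6), g * R * g⁻¹ ∈ ireps := by
  decide +kernel

theorem ireps_nfix : ∀ g ∈ ireps, ∀ h ∈ ireps, nfix g = nfix h → g = h := by decide +kernel

theorem odds_facts : ∀ X ∈ odds, X * X = 1 ∧ X ≠ 1 := by decide +kernel

theorem nfix_conj (g R : Perm (Fin 6)) : nfix (g * R * g⁻¹) = nfix R := by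
  have h : ∀ p : Perm (Fin 6), nfix p = (Finset.univ.filter fun i => p i = i).card := fun p => by
    rw [nfix, ← List.toFinset_card_of_nodup ((List.nodup_finRange 6).filter _)]
    congr 1
    ext i
    simp
  rw [h, h]
  refine Finset.card_bij' (fun i _ => g⁻¹ i) (fun i _ => g i) ?_ ?_ ?_ ?_ <;> intro i hi <;>
    simp only [Finset.mem_filter, Finset.mem_univ, true_and] at hi ⊢
  · rw [Perm.mul_apply, Perm.mul_apply] at hi
    exact g.injective (hi.trans (by simp))
  · simp [Perm.mul_apply, hi]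
  · simp
  · simp

/-- Involutions with equally many fixed points are conjugate. -/
theorem conj_of_nfix {R X : Perm (Fin 6)} (hR : R * R = 1) (hR1 : R ≠ 1) (hX : X * X = 1)
    (h : nfix X = nfix R) : ∃ g : Perm (Fin 6), g * R * g⁻¹ = X := by
  have hX1 : X ≠ 1 := by
    rintro rfl
    obtain ⟨g, hg⟩ := rconj R hR hR1
    have h6 : nfix (g * R * g⁻¹) = 6 := by rw [nfix_conj, ← h]; decide +kernel
    exact (by decide +kernel : ∀ x ∈ ireps, nfix x ≠ 6) _ hg h6
  obtain ⟨g, hg⟩ := rconj R hR hR1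
  obtain ⟨k, hk⟩ := rconj X hX hX1
  have e := ireps_nfix _ hg _ hk (by rw [nfix_conj, nfix_conj, h])
  refine ⟨k⁻¹ * g, ?_⟩
  calc k⁻¹ * g * R * (k⁻¹ * g)⁻¹ = k⁻¹ * (g * R * g⁻¹) * k := by group
    _ = k⁻¹ * (k * X * k⁻¹) * k := by rw [e]
    _ = X := by group

end Cfsg.Lib.SymEightThree.SixFacts
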