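import Cfsg.Agent.Lib.SymEightThree.Classes
import Cfsg.Agent.Lib.SymEightThree.SixFacts

set_option autoImplicit false

/-!
When the centraliser of `s` covers the symmetric group of degree six, a subgroup of index two avoids `s`.
-/

namespace Cfsg.Lib.SymEightThree

open Equiv
open Cfsg.Lib.AltEightThree (mem_cent_singleton)

set_option synthInstance.maxSize 2000

/-- An element of order four in the model. -/
def q4 : H720 := (1, swap 0 1 * swap 1 2 * swap 2 3)

theorem q4_facts : q4 ^ 4 = 1 ∧ q4 * q4 ≠ 1 ∧ (∃ k : H720, k * am * k⁻¹ = q4 * q4) := by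
  refine ⟨by decide +kernel, by decide +kernel, by decide +kernel⟩

/-- The element of the model of the 2-group. -/
def m32 (a b : ZMod 2) (k : DihedralGroup 4) : M32 :=
  (Multiplicative.ofAdd a, Multiplicative.ofAdd b, k)

/-- The centre of the model of the 2-group. -/
def eight : List M32 :=
  [m32 0 0 (.r 0), m32 0 1 (.r 0), m32 1 0 (.r 0), m32 1 1 (.r 0),
    m32 0 0 (.r 2), m32 0 1 (.r 2), m32 1 0 (.r 2), m32 1 1 (.r 2)]

theorem eight_facts : (∀ p : M32, (∀ q, p * q = q * p) ↔ p ∈ eight) ∧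
    (∀ p : M32, p ≠ 1 → p ∈ eight ∨ ∃ q, p * q * p⁻¹ * q⁻¹ ∈ eight ∧ p * q * p⁻¹ * q⁻¹ ≠ 1) ∧
    (∀ p : M32, p * p = 1 ∨ p * p = m32 0 0 (.r 2)) ∧
    m32 0 0 (.r 1) * m32 0 0 (.r 1) = m32 0 0 (.r 2) ∧ m32 0 0 (.r 2) ≠ 1 ∧
    m32 1 1 (.r 0) ≠ m32 0 0 (.r 2) := by
  refine ⟨by decide +kernel, by decide +kernel, by decide +kernel, by decide +kernel, by decide +kernel,
    by decide +kernel⟩

/-- The central elements certainly conjugate to `s`. -/
def base : List M32 := [m32 0 1 (.r 0), m32 1 0 (.r 0)]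

/-- The element `q` of the model. -/
def cq : M32 := m32 0 0 (.r 2)
/-- The element `q s` of the model. -/
def cqs : M32 := m32 0 1 (.r 2)

theorem lists_facts : ∀ L ∈ [base, base ++ [cqs], base ++ [cq, cqs]], L ⊆ eight ∧ L.Nodup ∧
    m32 0 1 (.r 0) ∈ L ∧ m32 1 0 (.r 0) ∈ L ∧ m32 0 0 (.r 0) ∉ L ∧ m32 1 1 (.r 0) ∉ L ∧
    m32 1 0 (.r 2) ∉ L ∧ m32 1 1 (.r 2) ∉ L := by
  decide +kernel

theorem lists_mem : cq ∉ base ∧ cqs ∉ base ∧ cq ∉ base ++ [cqs] ∧ cqs ∈ base ++ [cqs] ∧
    cq ∈ base ++ [cq, cqs] ∧ cqs ∈ base ++ [cq, cqs] ∧ base.length = 2 ∧ (base ++ [cqs]).length = 3 ∧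
    (base ++ [cq, cqs]).length = 4 := by
  decide +kernel

namespace Cfg

variable {G : Type*} [Group G] [Finite G] (S : Cfg G)

/-- The centraliser of `s`. -/
abbrev Cen : Subgroup G := Subgroup.centralizer ({S.e sm} : Set G)

omit [Finite G] in
theorem ws_comm : S.w * S.e sm = S.e sm * S.w := by
  conv_rhs => rw [← S.w_s]
  rw [mul_assoc _ S.w S.w, S.w_sq, mul_one]

/-- The lift of an involution centralising the dihedral group of `r` and `w`. -/
theorem exists_x
    (ψ : S.Cen →* Perm (Fin 6)) (hψ : Function.Surjective ψ)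
    (hker : ∀ g, ψ g = 1 → (g : G) = 1 ∨ (g : G) = S.e sm) :
    ∃ x c : G, c * S.e rm * c⁻¹ = x ∧ c * S.e sm = S.e sm * c ∧ x * S.w = S.w * x ∧
      x * S.e rm = S.e rm * x ∧ ¬ S.Cs (x * (S.e rm * (S.w * S.e rm * S.w))) ∧
      ¬ S.Cs (x * (S.e rm * (S.w * S.e rm * S.w)) * S.e sm) := by
  classical
  have he : ∀ p : H720, p * sm = sm * p → S.e p ∈ S.Cen := fun p hp =>
    mem_cent_singleton.2 (S.e_comm_iff.2 hp)
  let rC : S.Cen := ⟨S.e rm, he rm (by decide +kernel)⟩
  let zC : S.Cen := ⟨S.e zm, he zm (by decide +kernel)⟩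
  let uC : S.Cen := ⟨S.e um, he um (by decide +kernel)⟩
  let wC : S.Cen := ⟨S.w, mem_cent_singleton.2 S.ws_comm⟩
  let sC : S.Cen := ⟨S.e sm, mem_cent_singleton.2 rfl⟩
  have hs2 : S.e sm * S.e sm = 1 := by rw [← map_mul, model_facts.2.2.1, map_one]
  have hne : ∀ p : H720, p ≠ 1 → p ≠ sm → ∀ h : S.e p ∈ S.Cen, ψ ⟨S.e p, h⟩ ≠ 1 := by
    intro p h1 h2 h he1
    rcases hker _ he1 with e | e
    · exact h1 (S.e_inj (e.trans (map_one _).symm))
    · exact h2 (S.e_inj e)
  have hzn : ψ zC ≠ 1 := hne _ (by decide +kernel) (by decide +kernel) _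
  obtain ⟨g0, hg0⟩ := SixFacts.zconj (ψ zC)
    (by rw [← map_pow, show zC ^ 3 = 1 from Subtype.ext (by simp [zC, ← map_pow, model_facts.1]), map_one]) hzn
  set θ : S.Cen →* Perm (Fin 6) := (MulAut.conj g0).toMonoidHom.comp ψ with hθ
  have hθs : Function.Surjective θ := (MulAut.conj g0).surjective.comp hψ
  have hθk : ∀ a b : S.Cen, θ a = θ b → (a : G) = b ∨ (a : G) = b * S.e sm := by
    intro a b h
    rcases hker (b⁻¹ * a) (by rw [map_mul, map_inv, inv_mul_eq_one]; exact ((MulAut.conj g0).injective h).symm) with e | e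
    · exact Or.inl (inv_mul_eq_one.1 e).symm
    · exact Or.inr (inv_mul_eq_iff_eq_mul.1 e)
  have hwzw : wC * zC * wC = uC := Subtype.ext S.w_z
  have hU : θ wC * θ zC * θ wC = θ uC := by rw [← map_mul, ← map_mul, hwzw]
  have hsep : ∀ p q : H720, p ≠ q → p ≠ q * sm → ∀ (hp : S.e p ∈ S.Cen) (hq : S.e q ∈ S.Cen),
      θ ⟨S.e p, hp⟩ ≠ θ ⟨S.e q, hq⟩ := by
    intro p q h1 h2 hp hq h
    rcases hθk _ _ h with e | e
    · exact h1 (S.e_inj e)
    · exact h2 (S.e_inj (e.trans (map_mul _ _ _).symm))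
  have hr2 : θ rC * θ rC = 1 := by
    rw [← map_mul, show rC * rC = 1 from Subtype.ext (by simp [rC, ← map_mul, model_facts.2.2.2.1]), map_one]
  have hr1 : θ rC ≠ 1 := by
    intro h
    exact hsep rm 1 (by decide +kernel) (by decide +kernel) rC.2 (by rw [map_one]; exact one_mem _)
      (h.trans (by rw [show (⟨S.e 1, _⟩ : S.Cen) = 1 from Subtype.ext (map_one S.e), map_one]))
  have hw2 : θ wC * θ wC = 1 := by
    rw [← map_mul, show wC * wC = 1 from Subtype.ext S.w_sq, map_one]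
  obtain ⟨X, hXo, hXR, hXr, hXw, hY2, hYW, T, hTo, hTR, hT2R, hXT, hT22, -, hXT2⟩ :=
    SixFacts.six_x (θ zC) hg0 (θ rC)
      (by rw [← map_mul, ← map_mul, show rC * zC = zC * rC from
        Subtype.ext (S.e_comm_iff.2 model_facts.2.2.2.2.2.2.2.2.2.2.2.1)])
      hr2 hr1 (θ wC) hw2
      (by rw [hU, ← map_mul, ← map_mul, show uC * zC = zC * uC from
        Subtype.ext (S.e_comm_iff.2 model_facts.2.2.2.2.2.1.symm)])
      (by rw [hU, ← map_mul, ← map_mul, ← map_mul, show rC * uC * rC = uC * uC from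
        Subtype.ext (by simp only [rC, uC, Subgroup.coe_mul, ← map_mul]; congr 1; decide +kernel)])
      (by rw [hU]; exact hsep um zm (by decide +kernel) (by decide +kernel) _ _)
      (by
        rw [hU, ← map_mul, show zC * zC = ⟨S.e (zm * zm), he _ (by decide +kernel)⟩ from
          Subtype.ext (map_mul _ _ _).symm]
        exact hsep um (zm * zm) (by decide +kernel) (by decide +kernel) _ _)
  -- lifts of the conjugates of `r`
  have lift : ∀ Y : Perm (Fin 6), Y * Y = 1 → SixFacts.nfix Y = SixFacts.nfix (θ rC) →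
      ∃ a : S.Cen, θ a = Y ∧ ∃ c : S.Cen, c * rC * c⁻¹ = a := by
    intro Y hY hn
    obtain ⟨g, hg⟩ := SixFacts.conj_of_nfix hr2 hr1 hY hn
    obtain ⟨c, rfl⟩ := hθs g
    exact ⟨_, by rw [map_mul, map_mul, map_inv, hg], c, rfl⟩
  have comm : ∀ a b : S.Cen, (∃ c : S.Cen, c * rC * c⁻¹ = a) → θ a * θ b = θ b * θ a →
      (a : G) * b = b * a := by
    rintro a b ⟨c, rfl⟩ h
    rcases hθk (c * rC * c⁻¹ * b) (b * (c * rC * c⁻¹)) (by rw [map_mul θ _ b, h, ← map_mul]) with e | e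
    · exact e
    · exfalso
      apply S.not_cs_a
      have hcs : (c : G) * S.e sm = S.e sm * c := mem_cent_singleton.1 c.2
      have h1 : S.Cs ((c : G) * S.e rm * (c : G)⁻¹) := S.cs_conj _ S.cs_r
      rw [← S.cs_conj_iff ((b : G)⁻¹)] at h1
      simp only [Subgroup.coe_mul, InvMemClass.coe_inv, rC] at e
      rw [inv_inv, mul_assoc (b : G)⁻¹, e] at h1
      have h2 : S.Cs ((c : G) * S.e am * (c : G)⁻¹) := by
        convert h1 using 1
        rw [← am_eq.1, map_mul, ← mul_assoc (b : G)⁻¹, inv_mul_cancel_left,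
          ← mul_assoc (c : G) (S.e rm) (S.e sm)]
        calc (c : G) * S.e rm * S.e sm * (c : G)⁻¹ = (c : G) * S.e rm * ((c : G)⁻¹ * ((c : G) * S.e sm)) * (c : G)⁻¹ := by group
          _ = (c : G) * S.e rm * (c : G)⁻¹ * S.e sm := by rw [hcs]; group
      exact (S.cs_conj_iff _).1 h2
  have hXsq := (SixFacts.odds_facts X hXo).1
  have hTsq := (SixFacts.odds_facts T hTo).1
  obtain ⟨x, hx, c, hc⟩ := lift X hXsq hXR
  obtain ⟨t, ht, ct⟩ := lift T hTsq hTR
  obtain ⟨t2, ht2, ct2⟩ := lift (X * θ wC * T) hT22 hT2R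
  refine ⟨x, c, congrArg Subtype.val hc, mem_cent_singleton.1 c.2, ?_,
    comm x rC ⟨c, hc⟩ (by rw [hx]; exact hXr), ?_⟩
  · have hxt : Commute (x : G) t := comm x t ⟨c, hc⟩ (by rw [hx, ht]; exact hXT)
    have hxt2 : Commute (x : G) t2 := comm x t2 ⟨c, hc⟩ (by rw [hx, ht2]; exact hXT2)
    have hxs : Commute (x : G) (S.e sm) := mem_cent_singleton.1 x.2
    have hxw : θ wC = θ (x * t2 * t) := by
      rw [map_mul, map_mul, hx, ht, ht2]
      calc θ wC = (X * X) * θ wC * (T * T) := by rw [hXsq, hTsq, one_mul, mul_one]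
        _ = _ := by group
    rcases hθk _ _ hxw with e | e
    · exact ((show (wC : G) = x * t2 * t from e) ▸ (((Commute.refl (x : G)).mul_right hxt2).mul_right hxt)).eq
    · exact ((show (wC : G) = x * t2 * t * S.e sm from e) ▸
        ((((Commute.refl (x : G)).mul_right hxt2).mul_right hxt).mul_right hxs)).eq
  · have hw1 : θ wC ≠ 1 := by
      intro h
      rcases hθk wC 1 (h.trans (map_one θ).symm) with e | e
      · exact S.w_not_range ⟨1, by rw [map_one]; exact e.symm⟩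
      · exact S.w_not_range ⟨sm, by rw [← one_mul (S.e sm)]; exact e.symm⟩
    obtain ⟨g, hg⟩ := SixFacts.conj_of_nfix hw2 hw1 hY2 hYW
    obtain ⟨d, rfl⟩ := hθs g
    have hds : (d : G) * S.e sm = S.e sm * d := mem_cent_singleton.1 d.2
    have hy : θ (x * (rC * (wC * rC * wC))) = θ (d * wC * d⁻¹) := by
      simp only [map_mul, map_inv, hx]; exact hg.symm
    have h0 : ¬ S.Cs ((d : G) * S.w * (d : G)⁻¹) := fun h => S.not_cs_w ((S.cs_conj_iff _).1 h)
    have h1 : ¬ S.Cs ((d : G) * S.w * (d : G)⁻¹ * S.e sm) := by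
      rw [mul_assoc _ _ (S.e sm), show (d : G)⁻¹ * S.e sm = S.e sm * (d : G)⁻¹ from
        (show Commute (d : G) (S.e sm) from hds).inv_left.eq, ← mul_assoc, mul_assoc (d : G)]
      exact fun h => S.not_cs_ws ((S.cs_conj_iff _).1 h)
    rcases hθk _ _ hy with e | e <;> simp only [Subgroup.coe_mul, InvMemClass.coe_inv] at e <;>
      show ¬ S.Cs ((x : G) * (S.e rm * (S.w * S.e rm * S.w))) ∧ _ <;> rw [e]
    · exact ⟨h0, h1⟩
    · exact ⟨h1, by rw [mul_assoc _ (S.e sm), hs2, mul_one]; exact h0⟩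

/-- The case in which the centraliser of `s` covers the symmetric group of degree six. -/
theorem six_case (h1440 : Nat.card (Subgroup.centralizer ({S.e sm} : Set G)) = 1440)
    (ψ : S.Cen →* Perm (Fin 6)) (hψ : Function.Surjective ψ)
    (hker : ∀ g, ψ g = 1 → (g : G) = 1 ∨ (g : G) = S.e sm) :
    S.IsEight ∧ ∃ K : Subgroup G, K.Normal ∧ K.index = 2 ∧ S.e sm ∉ K := by
  classical
  haveI : Fact (Nat.Prime 2) := ⟨Nat.prime_two⟩
  obtain ⟨x, c, hc, hcs, hxw, hxr, hy0, hy1⟩ := S.exists_x ψ hψ hker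
  have hs2 : S.e sm * S.e sm = 1 := by rw [← map_mul, model_facts.2.2.1, map_one]
  have hr2 : S.e rm * S.e rm = 1 := by rw [← map_mul, model_facts.2.2.2.1, map_one]
  have hx2 : x * x = 1 := by
    rw [← hc]
    calc c * S.e rm * c⁻¹ * (c * S.e rm * c⁻¹) = c * (S.e rm * S.e rm) * c⁻¹ := by group
      _ = 1 := by rw [hr2]; group
  have hxs : Commute x (S.e sm) := by
    rw [← hc]
    exact ((Commute.mul_left hcs (S.e_comm_iff.2 (by decide +kernel))).mul_left
      (show Commute c (S.e sm) from hcs).inv_left)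
  set q := S.e rm * (S.w * S.e rm * S.w) with hq
  obtain ⟨r', hr', hr'c, hr'2⟩ : ∃ r' : H720, S.w * S.e rm * S.w = S.e r' ∧
      r' * rm = rm * r' ∧ r' * r' = 1 := by
    rcases S.par with h | h
    · exact ⟨gm, h, by decide +kernel, by decide +kernel⟩
    · exact ⟨gm * sm, h, by decide +kernel, by decide +kernel⟩
  obtain ⟨t, ht⟩ : ∃ t : G, t = S.w * S.e rm := ⟨_, rfl⟩
  have htt : t * t = q := by
    rw [ht, hq, hr', ← map_mul, ← hr'c, map_mul, ← hr']
    group
  have hq2 : q * q = 1 := by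
    rw [hq, hr', ← map_mul, ← map_mul, show rm * r' * (rm * r') = 1 by
      rw [mul_assoc rm r', ← mul_assoc r' rm r', hr'c, mul_assoc rm r' r', hr'2, mul_one, model_facts.2.2.2.1],
      map_one]
  have ht4 : t ^ 4 = 1 := by rw [show (4 : ℕ) = 2 * 2 from rfl, pow_mul, pow_two, pow_two, htt, hq2]
  have htw : S.w * t * S.w = t⁻¹ := by
    rw [ht, ← mul_assoc, S.w_sq, one_mul, mul_inv_rev, S.w_inv, ← eq_inv_of_mul_eq_one_right hr2]
  have hsr : Commute (S.e sm) (S.e rm) := S.e_comm_iff.2 (by decide +kernel)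
  have hst : Commute (S.e sm) t := ht ▸ (show Commute (S.e sm) S.w from S.ws_comm.symm).mul_right hsr
  have hxt : Commute x t := ht ▸ (show Commute x S.w from hxw).mul_right hxr
  let φ16 : M16 →* G := (two (S.e sm) hs2).noncommCoprod (dih t S.w ht4 S.w_sq htw)
    fun i d => two_comm hs2 (dih_comm ht4 S.w_sq htw hst S.ws_comm.symm d) i
  let φ : M32 →* G := (two x hx2).noncommCoprod φ16 fun i d => two_comm hx2
    (((hxs.pow_right _).mul_right (dih_comm ht4 S.w_sq htw hxt hxw d.2))) i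
  have hval : ∀ a b : ZMod 2, φ (m32 a b (.r 0)) = x ^ a.val * S.e sm ^ b.val ∧
      φ (m32 a b (.r 2)) = x ^ a.val * (S.e sm ^ b.val * q) := by
    intro a b
    refine ⟨?_, ?_⟩
    · show x ^ a.val * (S.e sm ^ b.val * t ^ (0 : ZMod 4).val) = _
      rw [ZMod.val_zero, pow_zero, mul_one]
    · show x ^ a.val * (S.e sm ^ b.val * t ^ (2 : ZMod 4).val) = _
      rw [show (2 : ZMod 4).val = 2 from rfl, pow_two, htt]
  have v0 : (0 : ZMod 2).val = 0 := rfl
  have v1 : (1 : ZMod 2).val = 1 := rfl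
  have n1 : ¬ S.Cs (1 : G) := by
    intro h
    exact absurd (S.e_inj ((isConj_one_left.1 h).trans (map_one S.e).symm)) (by decide +kernel)
  have c00 : ¬ S.Cs (φ (m32 0 0 (.r 0))) := by rw [(hval 0 0).1, v0]; simpa using n1
  have c01 : S.Cs (φ (m32 0 1 (.r 0))) := by rw [(hval 0 1).1, v0, v1]; simpa using S.cs_s
  have c10 : S.Cs (φ (m32 1 0 (.r 0))) := by
    rw [(hval 1 0).1, v0, v1]; simpa [← hc] using S.cs_conj c S.cs_r
  have cxs : x * S.e sm = c * S.e am * c⁻¹ := by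
    rw [← am_eq.1, map_mul, ← hc]
    calc c * S.e rm * c⁻¹ * S.e sm = c * S.e rm * (c⁻¹ * (S.e sm * c)) * c⁻¹ := by group
      _ = c * S.e rm * (c⁻¹ * (c * S.e sm)) * c⁻¹ := by rw [hcs]
      _ = _ := by group
  have c11 : ¬ S.Cs (φ (m32 1 1 (.r 0))) := by
    rw [(hval 1 1).1, v1, pow_one, pow_one, cxs, S.cs_conj_iff]; exact S.not_cs_a
  have d10 : ¬ S.Cs (φ (m32 1 0 (.r 2))) := by rw [(hval 1 0).2, v0, v1]; simpa using hy0
  have hsq' : Commute (S.e sm) q := by rw [← htt]; exact hst.mul_right hst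
  have d11 : ¬ S.Cs (φ (m32 1 1 (.r 2))) := by
    rw [(hval 1 1).2, v1, pow_one, pow_one, hsq'.eq, ← mul_assoc]; exact hy1
  have d00 : φ (m32 0 0 (.r 2)) = q := by rw [(hval 0 0).2, v0]; simp
  have d01 : φ (m32 0 1 (.r 2)) = q * S.e sm := by rw [(hval 0 1).2, v0, v1, ← hsq'.eq]; simp
  -- the homomorphism is injective
  have hinj : Function.Injective φ := by
    rw [injective_iff_map_eq_one]
    intro p hp
    by_contra hp1
    have h8 : ∀ p ∈ eight, p ≠ 1 → φ p ≠ 1 := by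
      intro p hp hp1 h
      simp only [eight, List.mem_cons, List.not_mem_nil, or_false] at hp
      rcases hp with rfl | rfl | rfl | rfl | rfl | rfl | rfl | rfl
      · exact hp1 rfl
      · exact n1 (h ▸ c01)
      · exact n1 (h ▸ c10)
      · rw [(hval 1 1).1, v1, pow_one, pow_one, cxs, mul_inv_eq_one, mul_eq_left] at h
        exact absurd (S.e_inj (h.trans (map_one S.e).symm)) (by decide +kernel)
      · rw [d00, hq, hr', ← map_mul] at h
        have e := S.e_inj (h.trans (map_one S.e).symm)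
        rcases S.par with h' | h' <;>
          (rw [S.e_inj (hr'.symm.trans h')] at e; exact absurd e (by decide +kernel))
      · rw [d01, hq, hr', ← map_mul, ← map_mul] at h
        have e := S.e_inj (h.trans (map_one S.e).symm)
        rcases S.par with h' | h' <;>
          (rw [S.e_inj (hr'.symm.trans h')] at e; exact absurd e (by decide +kernel))
      · rw [(hval 1 0).2, v0, v1, pow_zero, one_mul, pow_one] at h
        exact hy1 (by rw [h, one_mul]; exact S.cs_s)
      · rw [(hval 1 1).2, v1, pow_one, pow_one, hsq'.eq, ← mul_assoc] at h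
        exact hy0 (by rw [eq_inv_of_mul_eq_one_left h, inv_eq_of_mul_eq_one_right hs2]; exact S.cs_s)
    rcases eight_facts.2.1 p hp1 with h | ⟨y, h, h'⟩
    · exact h8 p h hp1 hp
    · exact h8 _ h h' (by simp [hp])
  have hM : IsPGroup 2 M32 := IsPGroup.of_card (n := 5) (by rw [Nat.card_eq_fintype_card]; rfl)
  have hM32 : Nat.card M32 = 32 := by rw [Nat.card_eq_fintype_card]; rfl
  -- the parity of the index of the 2-group
  have par : ∀ L ∈ [base, base ++ [cqs], base ++ [cq, cqs]],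
      (S.Cs (φ cq) ↔ cq ∈ L) → (S.Cs (φ cqs) ↔ cqs ∈ L) → φ.range.index % 2 = L.length % 2 := by
    intro L hL' h1 h2
    obtain ⟨hL, hnd, k1, k2, k3, k4, k5, k6⟩ := lists_facts L hL'
    rw [parity_two φ hinj hM hs2 L.toFinset (m := 45) ?_ (by norm_num) (by rw [h1440, hM32]),
      List.toFinset_card_of_nodup hnd]
    intro p
    rw [List.mem_toFinset, eight_facts.1]
    have hv : ∀ p ∈ eight, S.Cs (φ p) ↔ p ∈ L := by
      intro p hp
      simp only [eight, List.mem_cons, List.not_mem_nil, or_false] at hp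
      rcases hp with rfl | rfl | rfl | rfl | rfl | rfl | rfl | rfl
      exacts [iff_of_false c00 k3, iff_of_true c01 k1, iff_of_true c10 k2, iff_of_false c11 k4, h1, h2,
        iff_of_false d10 k5, iff_of_false d11 k6]
    exact ⟨fun h => ⟨hL h, (hv p (hL h)).2 h⟩, fun h => (hv p h.1).1 h.2⟩
  have hH : Nat.card S.e.range = 720 := by
    rw [← Nat.card_congr (MonoidHom.ofInjective S.e_inj).toEquiv, Nat.card_eq_fintype_card, Fintype.card_prod,
      Fintype.card_perm, Fintype.card_perm, Fintype.card_fin, Fintype.card_fin]; rfl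
  have hG : S.e.range.index * 720 = φ.range.index * 32 := by
    rw [← hH, Subgroup.index_mul_card, ← hM32, Nat.card_congr (MonoidHom.ofInjective hinj).toEquiv,
      Subgroup.index_mul_card]
  have hidx : ∀ k, Nat.card {h : S.e.range // IsConj (S.e sm) (h : G)} = k →
      (S.e.range.index + 2 * k) % 4 = 2 →
      ∃ K : Subgroup G, K.Normal ∧ K.index = 2 ∧ S.e sm ∉ K := fun k hk h4 =>
    Count.index_two S.e.range hs2 (f := 2 * k) (by rw [h1440, hk, hH]; ring) h4 (by omega)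
  rcases S.par with h | h
  · refine ⟨h, ?_⟩
    have e0 : S.e (rm * gm) = q := by rw [map_mul, ← h, hq]
    have q0 : ¬ S.Cs q := by
      rw [← e0, S.cs_e (show ∃ k : H720, k * (rm * gm) * k⁻¹ = gm * sm by decide +kernel)]
      exact S.not_cs_eight h
    have q1 : q * S.e sm = S.e em := by
      rw [← e0, ← map_mul]; congr 1
    by_cases hb : S.Cs (S.e em)
    · have hp := par _ (by simp) (iff_of_false (show ¬ S.Cs (φ (m32 0 0 (.r 2))) by rw [d00]; exact q0) lists_mem.2.2.1)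
        (iff_of_true (show S.Cs (φ (m32 0 1 (.r 2))) by rw [d01, q1]; exact hb) lists_mem.2.2.2.1)
      rw [lists_mem.2.2.2.2.2.2.2.1] at hp
      exact hidx 58 ((S.count_values.1 h).1 hb) (by omega)
    · have hp := par _ (by simp) (iff_of_false (show ¬ S.Cs (φ (m32 0 0 (.r 2))) by rw [d00]; exact q0) lists_mem.1)
        (iff_of_false (show ¬ S.Cs (φ (m32 0 1 (.r 2))) by rw [d01, q1]; exact hb) lists_mem.2.1)
      rw [lists_mem.2.2.2.2.2.2.1] at hp
      exact hidx 13 ((S.count_values.1 h).2 hb) (by omega)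
  · exfalso
    have q0 : q = S.e em := by rw [hq, h, ← map_mul]; congr 1
    have q1 : S.Cs (q * S.e sm) := by
      rw [q0, ← map_mul, S.cs_e (show ∃ k : H720, k * (em * sm) * k⁻¹ = gm * sm by decide +kernel)]
      exact S.cs_exc h
    obtain ⟨K, hKn, hK, hsK⟩ : ∃ K : Subgroup G, K.Normal ∧ K.index = 2 ∧ S.e sm ∉ K := by
      by_cases ha : S.Cs (S.e em)
      · have hp := par _ (by simp) (iff_of_true (show S.Cs (φ (m32 0 0 (.r 2))) by rw [d00, q0]; exact ha) lists_mem.2.2.2.2.1)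
          (iff_of_true (show S.Cs (φ (m32 0 1 (.r 2))) by rw [d01]; exact q1) lists_mem.2.2.2.2.2.1)
        rw [lists_mem.2.2.2.2.2.2.2.2] at hp
        exact hidx 85 ((S.count_values.2 h).1 ha) (by omega)
      · have hp := par _ (by simp) (iff_of_false (show ¬ S.Cs (φ (m32 0 0 (.r 2))) by rw [d00, q0]; exact ha) lists_mem.2.2.1)
          (iff_of_true (show S.Cs (φ (m32 0 1 (.r 2))) by rw [d01]; exact q1) lists_mem.2.2.2.1)
        rw [lists_mem.2.2.2.2.2.2.2.1] at hp
        exact hidx 40 ((S.count_values.2 h).2 ha) (by omega)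
    have hcsK : ∀ y, S.Cs y → y ∉ K := by
      intro y hy hyK
      obtain ⟨g, rfl⟩ := isConj_iff.1 hy
      have := hKn.conj_mem _ hyK g⁻¹
      exact hsK (by rwa [show g⁻¹ * (g * S.e sm * g⁻¹) * g⁻¹⁻¹ = S.e sm by group] at this)
    have ha : ¬ S.Cs (S.e em) := by
      intro ha
      refine hcsK _ ha ?_
      rw [show em = rm * (gm * sm) by decide +kernel, map_mul, Subgroup.mul_mem_iff_of_index_two hK]
      exact iff_of_false (hcsK _ S.cs_r) (hcsK _ (S.cs_exc h))
    have hp := par _ (by simp) (iff_of_false (show ¬ S.Cs (φ (m32 0 0 (.r 2))) by rw [d00, q0]; exact ha) lists_mem.2.2.1)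
      (iff_of_true (show S.Cs (φ (m32 0 1 (.r 2))) by rw [d01]; exact q1) lists_mem.2.2.2.1)
    rw [lists_mem.2.2.2.2.2.2.2.1] at hp
    -- an element of order four moved into the Sylow subgroup
    have hT : IsPGroup 2 φ.range := hM.of_surjective φ.rangeRestrict φ.rangeRestrict_surjective
    let P : Sylow 2 G := hT.toSylow (by omega)
    obtain ⟨Q, hQ⟩ := (show IsPGroup 2 (Subgroup.zpowers (S.e q4)) by
      rintro ⟨y, k, rfl⟩
      refine ⟨2, Subtype.ext ?_⟩
      show (S.e q4 ^ k) ^ (2 ^ 2) = 1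
      rw [← zpow_natCast, ← zpow_mul, mul_comm, zpow_mul, zpow_natCast, show 2 ^ 2 = 4 by norm_num, ← map_pow,
        q4_facts.1, map_one, one_zpow]).exists_le_sylow
    obtain ⟨g, hg⟩ := MulAction.exists_smul_eq G Q P
    obtain ⟨p, hp4⟩ : g * S.e q4 * g⁻¹ ∈ φ.range := by
      show g * S.e q4 * g⁻¹ ∈ P
      rw [← hg]
      exact Subgroup.smul_mem_pointwise_smul _ (MulAut.conj g) _ (hQ (Subgroup.mem_zpowers _))
    have hsq : IsConj (S.e am) (φ (p * p)) := by
      obtain ⟨k, hk⟩ := q4_facts.2.2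
      rw [map_mul, hp4]
      refine isConj_iff.2 ⟨g * S.e k, ?_⟩
      calc g * S.e k * S.e am * (g * S.e k)⁻¹ = g * (S.e k * S.e am * (S.e k)⁻¹) * g⁻¹ := by group
        _ = g * S.e (q4 * q4) * g⁻¹ := by rw [← hk, map_mul, map_mul, map_inv]
        _ = _ := by rw [map_mul]; group
    rcases eight_facts.2.2.1 p with e | e
    · rw [e, map_one] at hsq
      exact absurd (S.e_inj ((isConj_one_left.1 hsq).trans (map_one S.e).symm)) (by decide +kernel)
    rw [e] at hsq
    refine eight_facts.2.2.2.2.2 (square_fixed φ hinj hM (by omega) eight_facts.2.2.2.1 eight_facts.2.2.2.2.1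
      eight_facts.2.2.1 ((eight_facts.1 _).2 (by decide +kernel)) ((eight_facts.1 _).2 (by decide +kernel)) ?_)
    refine hsq.symm.trans ?_
    rw [(hval 1 1).1, v1, pow_one, pow_one, cxs]
    exact isConj_iff.2 ⟨c, rfl⟩

end Cfg

end Cfsg.Lib.SymEightThree
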