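import Cfsg.Agent.Lib.SymEightThree.Classes

set_option autoImplicit false

/-!
When the centraliser of `s` is the normaliser of `D`, the configuration is the exceptional one.
-/

namespace Cfsg.Lib.SymEightThree

open Equiv
open Cfsg.Lib.AltEightThree (mem_cent_singleton card_cent_conj)

set_option synthInstance.maxSize 2000

/-- An element of the model of the 2-group of order sixteen. -/
def m16 (b : ZMod 2) (k : DihedralGroup 4) : M16 := (Multiplicative.ofAdd b, k)

/-- The centre of the model of the 2-group of order sixteen. -/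
def four16 : List M16 := [m16 0 (.r 0), m16 1 (.r 0), m16 0 (.r 2), m16 1 (.r 2)]

theorem four16_facts : (∀ p : M16, (∀ q, p * q = q * p) ↔ p ∈ four16) ∧
    (∀ p : M16, p ≠ 1 → p ∈ four16 ∨ ∃ q, p * q * p⁻¹ * q⁻¹ ∈ four16 ∧ p * q * p⁻¹ * q⁻¹ ≠ 1) ∧
    (∀ p : M16, p * p = 1 ∨ p * p = m16 0 (.r 2)) ∧
    m16 0 (.r 1) * m16 0 (.r 1) = m16 0 (.r 2) ∧ m16 0 (.r 2) ≠ 1 ∧ m16 1 (.r 0) ≠ m16 0 (.r 2) := by
  refine ⟨by decide +kernel, by decide +kernel, by decide +kernel, by decide +kernel, by decide +kernel,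
    by decide +kernel⟩

theorem lists16 : [m16 1 (.r 0), m16 0 (.r 2), m16 1 (.r 2)] ⊆ four16 ∧
    [m16 1 (.r 0), m16 0 (.r 2), m16 1 (.r 2)].Nodup ∧
    m16 0 (.r 0) ∉ [m16 1 (.r 0), m16 0 (.r 2), m16 1 (.r 2)] := by
  decide +kernel

namespace Cfg

variable {G : Type*} [Group G] [Finite G] (S : Cfg G)

/-- The configuration in which the centraliser of `s` is the normaliser of `D`. -/
theorem small_case (h144 : Nat.card (Subgroup.centralizer ({S.e sm} : Set G)) = 144) :
    S.IsExc ∧ ¬ S.Cs (S.e em) := by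
  classical
  haveI : Fact (Nat.Prime 2) := ⟨Nat.prime_two⟩
  have hexc : S.IsExc := by
    rcases S.par with h | h
    · exfalso
      obtain ⟨g, hg⟩ := isConj_iff.1 (S.cs_eight h)
      let H : Subgroup G := (S.e.comp (MonoidHom.inr (Perm (Fin 3)) (Perm (Fin 5)))).range
      have hle : H ≤ Subgroup.centralizer ({S.e gm} : Set G) := by
        rintro _ ⟨τ, rfl⟩
        rw [mem_cent_singleton, MonoidHom.comp_apply, S.e_comm_iff]
        exact Prod.ext (by simp [gm]) (by simp [gm])
      have hH : Nat.card H = 120 := by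
        rw [← Nat.card_congr (MonoidHom.ofInjective (f := S.e.comp (MonoidHom.inr (Perm (Fin 3)) (Perm (Fin 5))))
          (S.e_inj.comp fun a b h => congrArg Prod.snd h)).toEquiv, Nat.card_eq_fintype_card, Fintype.card_perm,
          Fintype.card_fin]
        rfl
      have h := Subgroup.card_dvd_of_le hle
      rw [hH, ← hg, card_cent_conj, h144] at h
      exact absurd h (by decide)
    · exact h
  refine ⟨hexc, fun ha => ?_⟩
  have hs2 : S.e sm * S.e sm = 1 := by rw [← map_mul, model_facts.2.2.1, map_one]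
  have hr2 : S.e rm * S.e rm = 1 := by rw [← map_mul, model_facts.2.2.2.1, map_one]
  have hws : S.w * S.e sm = S.e sm * S.w := by
    conv_rhs => rw [← S.w_s]
    rw [mul_assoc _ S.w S.w, S.w_sq, mul_one]
  obtain ⟨t, ht⟩ : ∃ t : G, t = S.w * S.e rm := ⟨_, rfl⟩
  have htt : t * t = S.e em := by
    have hc : S.w * S.e rm * S.w = S.e (gm * sm) := hexc
    rw [show em = gm * sm * rm by decide +kernel, map_mul _ (gm * sm) rm, ← hc, ht]
    group
  have ht4 : t ^ 4 = 1 := by
    rw [show (4 : ℕ) = 2 * 2 from rfl, pow_mul, pow_two, pow_two, htt, ← map_mul,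
      show em * em = (1 : H720) by decide +kernel, map_one]
  have htw : S.w * t * S.w = t⁻¹ := by
    rw [ht, ← mul_assoc, S.w_sq, one_mul, mul_inv_rev, S.w_inv, ← eq_inv_of_mul_eq_one_right hr2]
  have hsr : Commute (S.e sm) (S.e rm) := S.e_comm_iff.2 (by decide +kernel)
  have hst : Commute (S.e sm) t := ht ▸ (show Commute (S.e sm) S.w from hws.symm).mul_right hsr
  let φ : M16 →* G := (two (S.e sm) hs2).noncommCoprod (dih t S.w ht4 S.w_sq htw)
    fun i d => two_comm hs2 (dih_comm ht4 S.w_sq htw hst hws.symm d) i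
  have v00 : φ (m16 0 (.r 0)) = 1 := by
    show S.e sm ^ (0 : ℕ) * t ^ (0 : ℕ) = _; rw [pow_zero, pow_zero, mul_one]
  have v10 : φ (m16 1 (.r 0)) = S.e sm := by
    show S.e sm ^ (1 : ℕ) * t ^ (0 : ℕ) = _; rw [pow_zero, pow_one, mul_one]
  have v02 : φ (m16 0 (.r 2)) = S.e em := by
    show S.e sm ^ (0 : ℕ) * t ^ (2 : ℕ) = _; rw [pow_zero, one_mul, pow_two, htt]
  have v12 : φ (m16 1 (.r 2)) = S.e (sm * em) := by
    show S.e sm ^ (1 : ℕ) * t ^ (2 : ℕ) = _; rw [pow_one, pow_two, htt, map_mul]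
  have n1 : ¬ S.Cs (1 : G) := by
    intro h
    exact absurd (S.e_inj ((isConj_one_left.1 h).trans (map_one S.e).symm)) (by decide +kernel)
  have hse : S.Cs (S.e (sm * em)) := by
    rw [S.cs_e (show ∃ k : H720, k * (sm * em) * k⁻¹ = gm * sm by decide +kernel)]
    exact S.cs_exc hexc
  have hv : ∀ p ∈ four16, S.Cs (φ p) ↔ p ∈ [m16 1 (.r 0), m16 0 (.r 2), m16 1 (.r 2)] := by
    intro p hp
    simp only [four16, List.mem_cons, List.not_mem_nil, or_false] at hp
    rcases hp with rfl | rfl | rfl | rfl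
    exacts [iff_of_false (v00.symm ▸ n1) lists16.2.2, iff_of_true (v10.symm ▸ S.cs_s) (by simp),
      iff_of_true (v02.symm ▸ ha) (by simp), iff_of_true (v12.symm ▸ hse) (by simp)]
  have hinj : Function.Injective φ := by
    rw [injective_iff_map_eq_one]
    intro p hp
    by_contra hp1
    have h4 : ∀ p ∈ four16, p ≠ 1 → φ p ≠ 1 := by
      intro p hp4 hp1 h
      have hm : p ∈ [m16 1 (.r 0), m16 0 (.r 2), m16 1 (.r 2)] := by
        simp only [four16, List.mem_cons, List.not_mem_nil, or_false] at hp4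
        rcases hp4 with rfl | rfl | rfl | rfl
        exacts [absurd rfl hp1, by simp, by simp, by simp]
      exact n1 (h ▸ (hv p hp4).2 hm)
    rcases four16_facts.2.1 p hp1 with h | ⟨y, h, h'⟩
    · exact h4 p h hp1 hp
    · exact h4 _ h h' (by simp [hp])
  have hM : IsPGroup 2 M16 := IsPGroup.of_card (n := 4) (by rw [Nat.card_eq_fintype_card]; rfl)
  have hodd : φ.range.index % 2 = 1 := by
    rw [parity_two φ hinj hM hs2 [m16 1 (.r 0), m16 0 (.r 2), m16 1 (.r 2)].toFinset (m := 9) ?_ (by norm_num)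
      (by rw [h144, Nat.card_eq_fintype_card (α := M16)]; rfl), List.toFinset_card_of_nodup lists16.2.1]
    · rfl
    intro p
    rw [List.mem_toFinset, four16_facts.1]
    exact ⟨fun h => ⟨lists16.1 h, (hv p (lists16.1 h)).2 h⟩, fun h => (hv p h.1).1 h.2⟩
  refine four16_facts.2.2.2.2.2 (square_fixed φ hinj hM hodd four16_facts.2.2.2.1 four16_facts.2.2.2.2.1
    four16_facts.2.2.1 ((four16_facts.1 _).2 (by decide +kernel)) ((four16_facts.1 _).2 (by decide +kernel)) ?_)
  rw [v02, v10]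
  exact ha.symm

end Cfg

end Cfsg.Lib.SymEightThree
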