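import Cfsg.Agent.Lib.SymEightThree.Build
import Cfsg.Agent.Lib.SymEightThree.CentS
import Cfsg.Agent.Lib.SymEightThree.Six
import Cfsg.Agent.Lib.SymEightThree.Small
import Cfsg.Agent.Lib.SymEightThree.Eight
import Cfsg.Agent.Lib.SymEightThree.Final

set_option autoImplicit false

/-!
The recognition of the symmetric group of degree eight and of the exceptional group.
-/

namespace Cfsg.Lib.SymEightThree

open Equiv

namespace Cfg

variable {G : Type*} [Group G] (S : Cfg G)

theorem flip_conj {p : H720} (hp : p * sm = sm * p) :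
    S.w * S.e sm * S.e p * (S.w * S.e sm) = S.w * S.e p * S.w := by
  have hs2 : S.e sm * S.e sm = 1 := by rw [← map_mul, model_facts.2.2.1, map_one]
  have hws : S.w * S.e sm = S.e sm * S.w := by
    conv_rhs => rw [← S.w_s]
    rw [mul_assoc _ S.w S.w, S.w_sq, mul_one]
  calc S.w * S.e sm * S.e p * (S.w * S.e sm) = S.w * (S.e sm * S.e p) * (S.e sm * S.w) := by
        rw [← hws]; simp only [mul_assoc]
    _ = S.w * (S.e p * (S.e sm * S.e sm)) * S.w := by
        rw [← S.e_comm_iff.2 hp]; simp only [mul_assoc]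
    _ = _ := by rw [hs2, mul_one]

/-- The configuration with `w s` in place of `w`. -/
def flip : Cfg G where
  e := S.e
  w := S.w * S.e sm
  e_inj := S.e_inj
  norm := S.norm
  w_sq := by
    have hs2 : S.e sm * S.e sm = 1 := by rw [← map_mul, model_facts.2.2.1, map_one]
    have h := S.flip_conj (p := 1) (by rw [one_mul, mul_one])
    rw [map_one, mul_one, mul_one, S.w_sq] at h
    exact h
  w_z := (S.flip_conj model_facts.2.2.2.2.2.2.1.symm).trans S.w_z
  w_s := (S.flip_conj rfl).trans S.w_s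
  par := by
    rw [S.flip_conj (model_facts.2.2.2.2.2.2.2.2.1.symm)]
    exact S.par
  card_y := S.card_y
  not27 := S.not27

end Cfg

/-- The recognition theorem from a configuration. -/
theorem recognise {G : Type*} [Group G] [Finite G] (S : Cfg G) (P : Sylow 3 G) (hP : Nat.card P = 9)
    (D : Subgroup G) (hD : D = S.DG)
    [hcn : ((Subgroup.centralizer (D : Set G)).subgroupOf (Subgroup.normalizer (D : Set G))).Normal]
    (eNC : Subgroup.normalizer (D : Set G) ⧸ (Subgroup.centralizer (D : Set G)).subgroupOf (Subgroup.normalizer (D : Set G)) ≃* DihedralGroup 4) :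
    Nonempty (G ≃* Equiv.Perm (Fin 8)) ∨
      ∃ N : Subgroup G, N.Normal ∧ Cfsg.generalizedFittingSubgroup G = N ∧
        Nonempty (N ≃* alternatingGroup (Fin 5) × alternatingGroup (Fin 5)) ∧
        (∀ K : Subgroup G, K.Normal → K ≤ N → K = ⊥ ∨ K = N) ∧
        N.index = 4 ∧ ∀ g : G, g ^ 2 ∈ N := by
  subst hD
  obtain ⟨h144, h | ⟨h1440, ψ, hψ, hker⟩⟩ := S.cent_s_cases eNC
  · obtain ⟨hexc, hem⟩ := S.small_case (by rw [h]; exact h144)
    right
    have X : S.Exc := ⟨hexc, h, hem⟩
    obtain ⟨K, hK, hK2, hsK⟩ := X.exists_K1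
    haveI := hK
    by_cases hw : S.w ∈ K
    · exact X.result hK2 hsK hw
    · have hexc' : S.flip.IsExc :=
        (S.flip_conj (model_facts.2.2.2.2.2.2.2.2.1.symm)).trans hexc
      have X' : S.flip.Exc := ⟨hexc', h, hem⟩
      exact X'.result hK2 hsK ((Subgroup.mul_mem_iff_of_index_two hK2).2 (iff_of_false hw hsK))
  · obtain ⟨h8, K, hK, hK2, hsK⟩ := S.six_case h1440 ψ hψ hker
    haveI := hK
    exact Or.inl (S.equiv_sym h8 hK2 hsK P hP)

end Cfsg.Lib.SymEightThree
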