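import Cfsg.Agent.Lib.SymEightThree.Frame
import Mathlib.GroupTheory.Sylow
import Mathlib.GroupTheory.SpecificGroups.Cyclic

set_option autoImplicit false

/-!
The centralisers of the elements of order three and the basic fusion facts.
-/

namespace Cfsg.Lib.SymEightThree

open Equiv
open Cfsg.Lib.AltEightThree (c3 t34 mem_cent_singleton mem_normalizer_of_forall conj_mem_normalizer
  card_cent_conj)

set_option synthInstance.maxSize 2000

/-- The model of `α = r s`. -/
def am : H720 := (1, t01 * t34)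
/-- The double transposition fixing the last point. -/
def vm : H720 := (1, swap 0 1 * swap 2 3)

theorem am_eq : rm * sm = am ∧ sm * rm = am := by decide +kernel

/-- The model of `D`. -/
def D9 : Subgroup H720 where
  carrier := {p | p ∈ d9}
  one_mem' := by decide +kernel
  mul_mem' := fun {a b} ha hb =>
    (by decide +kernel : ∀ a ∈ d9, ∀ b ∈ d9, a * b ∈ d9) a ha b hb
  inv_mem' := fun {a} ha => (by decide +kernel : ∀ a ∈ d9, a⁻¹ ∈ d9) a ha

theorem mem_D9 {p : H720} : p ∈ D9 ↔ p ∈ d9 := Iff.rfl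

instance : DecidablePred (· ∈ D9) := fun p => inferInstanceAs (Decidable (p ∈ d9))

theorem card_D9 : Nat.card D9 = 9 := by
  rw [Nat.card_eq_fintype_card]; decide +kernel

theorem d9_ij : ∀ q ∈ d9, ∃ i j : Fin 3, q = zm ^ (i : ℕ) * um ^ (j : ℕ) := by decide +kernel

theorem ij_d9 : ∀ i j : Fin 3, zm ^ (i : ℕ) * um ^ (j : ℕ) ∈ d9 ∧
    um ^ (i : ℕ) * zm ^ (j : ℕ) = zm ^ (j : ℕ) * um ^ (i : ℕ) ∧
    (zm ^ (i : ℕ) * um ^ (j : ℕ) = zm ^ (j : ℕ) * um ^ (i : ℕ) →
      zm ^ (i : ℕ) * um ^ (j : ℕ) ∈ [1, zm * um, (zm * um) * (zm * um)]) := by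
  decide +kernel

theorem sm_d9 : ∀ q ∈ d9, q * sm = sm * q ∧ q * (zm * um) = (zm * um) * q ∧ (q * sm) ^ 9 ≠ 1 ∧
    q * sm ∉ d9 ∧ q * zm = zm * q ∧ q * um = um * q := by
  decide +kernel

theorem v_cent : ∀ p : H720, p * zm = zm * p → p * vm = vm * p → p ^ 9 = 1 →
    p ∈ [1, zm, zm * zm] := by
  decide +kernel

theorem cent_pair : ∀ p : H720, p * zm = zm * p → p * um = um * p →
    p ∈ d9 ∨ ∃ q ∈ d9, p = q * sm := by
  decide +kernel

theorem conj_reps : (∃ k : H720, k * sm * k⁻¹ = rm) ∧ (∃ k : H720, k * am * k⁻¹ = vm) :=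
  ⟨⟨(1, swap 0 3 * swap 1 4), by decide +kernel⟩, ⟨(1, swap 2 4 * swap 3 4), by decide +kernel⟩⟩

theorem mixed_shape : ∀ q ∈ d9, q ∈ [1, zm, zm * zm] ∨ q ∈ [um, um * um] ∨
    ∃ k : H720, q = k * (zm * um) * k⁻¹ := by
  intro q hq
  have h : ∀ q ∈ d9, q ∈ [1, zm, zm * zm] ∨ q ∈ [um, um * um] ∨
      ∃ k ∈ [1, rm, gm, gm * rm], q = k * (zm * um) * k⁻¹ := by decide +kernel
  rcases h q hq with h | h | ⟨k, -, hk⟩
  exacts [Or.inl h, Or.inr (Or.inl h), Or.inr (Or.inr ⟨k, hk⟩)]

namespace Cfg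

variable {G : Type*} [Group G] (S : Cfg G)

/-- Conjugate to `s`. -/
def Cs (x : G) : Prop := IsConj (S.e sm) x

theorem cs_conj {x : G} (g : G) (h : S.Cs x) : S.Cs (g * x * g⁻¹) :=
  h.trans (isConj_iff.2 ⟨g, rfl⟩)

theorem cs_conj_iff {x : G} (g : G) : S.Cs (g * x * g⁻¹) ↔ S.Cs x := by
  refine ⟨fun h => ?_, S.cs_conj g⟩
  have := S.cs_conj g⁻¹ h
  rwa [show g⁻¹ * (g * x * g⁻¹) * g⁻¹⁻¹ = x by group] at this

theorem cs_cw {x : G} : S.Cs (S.cw x) ↔ S.Cs x := by
  rw [cw, MulAut.conj_apply]; exact S.cs_conj_iff _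

theorem cs_e {p q : H720} (h : ∃ k : H720, k * p * k⁻¹ = q) : S.Cs (S.e p) ↔ S.Cs (S.e q) := by
  obtain ⟨k, rfl⟩ := h
  rw [map_mul, map_mul, map_inv, S.cs_conj_iff]

theorem cs_s : S.Cs (S.e sm) := IsConj.refl _

theorem cs_r : S.Cs (S.e rm) := (S.cs_e conj_reps.1).1 S.cs_s

theorem w_not_range : S.w ∉ S.e.range := by
  rintro ⟨p, hp⟩
  have h := S.w_z
  rw [← hp, ← map_mul, ← map_mul] at h
  refine (by decide +kernel : ∀ p : H720, p * p = 1 → p * zm * p ≠ um) p (S.e_inj ?_) (S.e_inj h)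
  rw [map_mul, hp, S.w_sq, map_one]

theorem cw_ij (i j : ℕ) : S.cw (S.e (zm ^ i * um ^ j)) = S.e (um ^ i * zm ^ j) := by
  rw [map_mul, map_mul, map_mul, map_pow, map_pow, map_pow, map_pow, map_pow, map_pow, S.cw_z, S.cw_u]

/-- The elements of `D`. -/
def DG : Subgroup G := D9.map S.e

theorem mem_DG {x : G} : x ∈ S.DG ↔ ∃ q ∈ d9, S.e q = x := Iff.rfl

theorem card_DG : Nat.card S.DG = 9 := by
  rw [DG, Subgroup.card_map_of_injective S.e_inj, card_D9]

theorem DG_le_cent {x : G} (hz : S.e zm * x = x * S.e zm) (hu : S.e um * x = x * S.e um) :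
    S.DG ≤ Subgroup.centralizer ({x} : Set G) := by
  rintro _ ⟨q, hq, rfl⟩
  obtain ⟨i, j, rfl⟩ := d9_ij q hq
  rw [mem_cent_singleton, map_mul, map_pow, map_pow]
  exact (((show Commute (S.e zm) x from hz).pow_left i).mul_left
    ((show Commute (S.e um) x from hu).pow_left j)).eq

theorem cent_zu_pair {g : G} (hz : g * S.e zm = S.e zm * g) (hu : g * S.e um = S.e um * g) :
    ∃ q ∈ d9, g = S.e q ∨ g = S.e (q * sm) := by
  obtain ⟨p, rfl, hp⟩ := S.cent_z hz
  rcases cent_pair p hp (S.e_comm_iff.1 hu) with h | ⟨q, hq, rfl⟩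
  · exact ⟨p, h, Or.inl rfl⟩
  · exact ⟨q, hq, Or.inr rfl⟩

variable [Finite G]

include S in
/-- A centraliser containing a subgroup of order nine contains a second element of order dividing
nine commuting with a given element of order three. -/
theorem no_nine {x a : G} (ha : a * x = x * a) (ha3 : a ^ 3 = 1) (ha1 : a ≠ 1)
    (H : ∀ q : G, q * x = x * q → q * a = a * q → q ^ 9 = 1 → q ∈ Subgroup.zpowers a) :
    ¬ 9 ∣ Nat.card (Subgroup.centralizer ({x} : Set G)) := by
  intro h9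
  haveI : Fact (Nat.Prime 3) := ⟨Nat.prime_three⟩
  set C := Subgroup.centralizer ({x} : Set G)
  let a' : C := ⟨a, mem_cent_singleton.2 ha⟩
  have hA : IsPGroup 3 (Subgroup.zpowers a') := by
    refine IsPGroup.of_card (n := 1) ?_
    rw [Nat.card_zpowers, pow_one]
    exact orderOf_eq_prime (Subtype.ext (by simpa [a'] using ha3)) (fun h => ha1 (congrArg Subtype.val h))
  obtain ⟨Q, hQ⟩ := hA.exists_le_sylow
  have hQ9 : Nat.card (Q : Subgroup C) = 3 ^ 2 := by
    have h1 : 3 ^ 2 ∣ Nat.card (Q : Subgroup C) := Q.pow_dvd_card_of_pow_dvd_card (by simpa using h9)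
    obtain ⟨n, hn⟩ := IsPGroup.iff_card.1 Q.2
    have h2 : n ≤ 2 := by
      by_contra hn'
      apply S.not27
      have h27 : 3 ^ 3 ∣ Nat.card (Q : Subgroup C) := hn ▸ pow_dvd_pow 3 (by omega)
      exact (h27.trans (Subgroup.card_subgroup_dvd_card _)).trans (Subgroup.card_subgroup_dvd_card C)
    rw [hn] at h1
    rw [hn, show n = 2 from le_antisymm h2 ((Nat.pow_dvd_pow_iff_le_right (by norm_num)).1 h1)]
  have haQ : a' ∈ (Q : Subgroup C) := hQ (Subgroup.mem_zpowers _)
  have hle : (Q : Subgroup C) ≤ Subgroup.zpowers a' := by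
    intro q hq
    have hc : q * a' = a' * q := congrArg Subtype.val
      ((IsPGroup.isMulCommutative_of_card_eq_prime_sq hQ9).is_comm.comm (⟨q, hq⟩ : (Q : Subgroup C)) ⟨a', haQ⟩)
    have h9' : q ^ 9 = 1 := by
      have := orderOf_dvd_natCard (⟨q, hq⟩ : (Q : Subgroup C))
      rw [hQ9, Subgroup.orderOf_mk] at this
      exact orderOf_dvd_iff_pow_eq_one.1 (by norm_num at this ⊢; exact this)
    obtain ⟨k, hk⟩ := H (q : G) (mem_cent_singleton.1 q.2) (congrArg Subtype.val hc)
      (by rw [← Subgroup.coe_pow, h9']; rfl)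
    exact ⟨k, Subtype.ext (by simpa [a'] using hk)⟩
  have h := Subgroup.card_le_of_le hle
  rw [hQ9, Nat.card_zpowers] at h
  have : orderOf a' ≤ 3 :=
    orderOf_le_of_pow_eq_one (by norm_num) (Subtype.ext (by simpa [a'] using ha3))
  omega

theorem nine_of_cs {x : G} (h : S.Cs x) : 9 ∣ Nat.card (Subgroup.centralizer ({x} : Set G)) := by
  obtain ⟨g, rfl⟩ := isConj_iff.1 h
  rw [card_cent_conj, ← S.card_DG]
  exact Subgroup.card_dvd_of_le (S.DG_le_cent
    (by rw [← map_mul, ← map_mul, model_facts.2.2.2.2.2.2.1])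
    (by rw [← map_mul, ← map_mul, model_facts.2.2.2.2.2.2.2.1]))

/-- The involutions of the alternating group of degree five are not conjugate to `s`. -/
theorem not_cs_v : ¬ S.Cs (S.e vm) := by
  intro h
  refine S.no_nine (a := S.e zm) ?_ (by rw [← map_pow, model_facts.1, map_one]) ?_ ?_ (S.nine_of_cs h)
  · rw [← map_mul, ← map_mul]; congr 1
  · exact fun h => absurd (S.e_inj (h.trans (map_one S.e).symm)) (by decide +kernel)
  · intro q hq hqz h9
    obtain ⟨p, rfl, hp⟩ := S.cent_z hqz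
    have h := v_cent p hp (S.e_comm_iff.1 hq) (S.e_inj (by rw [map_pow, h9, map_one]))
    simp only [List.mem_cons, List.not_mem_nil, or_false] at h
    rcases h with rfl | rfl | rfl
    · rw [map_one]; exact one_mem _
    · exact Subgroup.mem_zpowers _
    · rw [map_mul]; exact mul_mem (Subgroup.mem_zpowers _) (Subgroup.mem_zpowers _)

theorem not_cs_a : ¬ S.Cs (S.e am) := fun h => S.not_cs_v ((S.cs_e conj_reps.2).1 h)

/-- The centraliser of `z u`. -/
theorem cent_y {g : G} (hg : g * S.e (zm * um) = S.e (zm * um) * g) :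
    ∃ q ∈ d9, ∃ k ∈ [1, sm], g = S.e (q * k) ∨ g = S.w * S.e (q * k) := by
  classical
  let P18 := {p : H720 // p ∈ d9 ∨ ∃ q ∈ d9, p = q * sm}
  set C := Subgroup.centralizer ({S.e (zm * um)} : Set G)
  have hcomm : ∀ p : P18, S.e p.1 * S.e (zm * um) = S.e (zm * um) * S.e p.1 := by
    intro p
    rw [S.e_comm_iff]
    rcases p.2 with h | ⟨q, hq, e⟩
    · exact (sm_d9 _ h).2.1
    · rw [e, mul_assoc, (by decide +kernel : sm * (zm * um) = zm * um * sm), ← mul_assoc,
        (sm_d9 _ hq).2.1, mul_assoc]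
  have hw : S.w * S.e (zm * um) = S.e (zm * um) * S.w := by
    have h := S.cw_ij 1 1
    rw [pow_one, pow_one, cw_apply, (by decide +kernel : um * zm = zm * um)] at h
    conv_rhs => rw [← h]
    rw [mul_assoc _ S.w S.w, S.w_sq, mul_one]
  let f : P18 ⊕ P18 → C := Sum.elim (fun p => ⟨S.e p.1, mem_cent_singleton.2 (hcomm p)⟩)
    (fun p => ⟨S.w * S.e p.1, mem_cent_singleton.2 (by
      rw [mul_assoc, hcomm p, ← mul_assoc, hw, mul_assoc])⟩)
  have hf : Function.Injective f := by
    rintro (p | p) (q | q) h <;> have h' := congrArg Subtype.val h <;>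
      simp only [f, Sum.elim_inl, Sum.elim_inr] at h'
    · exact congrArg Sum.inl (Subtype.ext (S.e_inj h'))
    · exact absurd ⟨p.1 * q.1⁻¹, by rw [map_mul, h', map_inv, mul_inv_cancel_right]⟩ S.w_not_range
    · exact absurd ⟨q.1 * p.1⁻¹, by rw [map_mul, ← h', map_inv, mul_inv_cancel_right]⟩ S.w_not_range
    · exact congrArg Sum.inr (Subtype.ext (S.e_inj (mul_left_cancel h')))
  have hb : Function.Bijective f := by
    refine hf.bijective_of_nat_card_le ?_
    rw [Nat.card_sum, show Nat.card C = 36 from S.card_y, Nat.card_eq_fintype_card]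
    decide +kernel
  obtain ⟨x, hx⟩ := hb.2 ⟨g, mem_cent_singleton.2 hg⟩
  have key : ∀ p : P18, ∃ q ∈ d9, ∃ k ∈ [1, sm], p.1 = q * k := by
    intro p
    rcases p.2 with h | ⟨q, hq, e⟩
    · exact ⟨p.1, h, 1, by simp, by rw [mul_one]⟩
    · exact ⟨q, hq, sm, by simp, e⟩
  rcases x with p | p <;> obtain ⟨q, hq, k, hk, e⟩ := key p <;> refine ⟨q, hq, k, hk, ?_⟩
  · exact Or.inl (by rw [← e]; exact (congrArg Subtype.val hx).symm)
  · exact Or.inr (by rw [← e]; exact (congrArg Subtype.val hx).symm)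

/-- Powers of `z u` are the elements of order dividing nine in its centraliser commuting with `w`. -/
theorem y_part {q : G} (hq : q * S.w = S.w * q) (hy : q * S.e (zm * um) = S.e (zm * um) * q)
    (h9 : q ^ 9 = 1) : q ∈ Subgroup.zpowers (S.e (zm * um)) := by
  obtain ⟨d, hd, k, hk, h⟩ := S.cent_y hy
  have hr : q ∈ S.e.range := by
    rcases h with rfl | rfl
    · exact ⟨_, rfl⟩
    exfalso
    apply S.w_not_range
    set g := S.w * S.e (d * k)
    have h2 : g ^ 2 ∈ S.e.range := by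
      have hwk : S.e (d * k) * S.w = S.w * S.e (d * k) := by
        have := hq
        simp only [g, mul_assoc] at this
        exact mul_left_cancel this
      refine ⟨(d * k) * (d * k), ?_⟩
      rw [pow_two, map_mul]
      simp only [g]
      rw [mul_assoc S.w, ← mul_assoc (S.e (d * k)) S.w, hwk, ← mul_assoc S.w, ← mul_assoc S.w, S.w_sq,
        one_mul]
    have hg : g ∈ S.e.range := by
      have : g = g ^ 9 * ((g ^ 2) ^ 4)⁻¹ := by rw [← pow_mul]; group
      rw [this, h9, one_mul]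
      exact inv_mem (pow_mem h2 4)
    have := mul_mem hg (inv_mem (⟨d * k, rfl⟩ : S.e (d * k) ∈ S.e.range))
    simpa only [g, mul_inv_cancel_right] using this
  obtain ⟨p, rfl⟩ := hr
  have hp : p = d * k := by
    rcases h with h | h
    · exact S.e_inj h
    · exact absurd ⟨p * (d * k)⁻¹, by rw [map_mul, h, map_inv, mul_inv_cancel_right]⟩ S.w_not_range
  have hp9 : p ^ 9 = 1 := S.e_inj (by rw [map_pow, h9, map_one])
  simp only [List.mem_cons, List.not_mem_nil, or_false] at hk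
  rcases hk with rfl | rfl
  swap
  · exact absurd (hp ▸ hp9) (sm_d9 d hd).2.2.1
  rw [mul_one] at hp
  subst hp
  obtain ⟨i, j, rfl⟩ := d9_ij p hd
  have h' : zm ^ (i : ℕ) * um ^ (j : ℕ) = zm ^ (j : ℕ) * um ^ (i : ℕ) := by
    rw [← (ij_d9 i j).2.1]
    refine S.e_inj ?_
    rw [← S.cw_ij, cw_apply, ← hq, mul_assoc, S.w_sq, mul_one]
  have hmem := (ij_d9 i j).2.2 h'
  simp only [List.mem_cons, List.not_mem_nil, or_false] at hmem
  rcases hmem with e | e | e <;> rw [e]
  · rw [map_one]; exact one_mem _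
  · exact Subgroup.mem_zpowers _
  · rw [map_mul S.e (zm * um)]; exact mul_mem (Subgroup.mem_zpowers _) (Subgroup.mem_zpowers _)

theorem y_ne : S.e (zm * um) ≠ 1 := fun h =>
  absurd (S.e_inj (h.trans (map_one S.e).symm)) (by decide +kernel)

theorem y_cube : S.e (zm * um) ^ 3 = 1 := by
  rw [← map_pow, (by decide +kernel : (zm * um) ^ 3 = (1 : H720)), map_one]

theorem w_comm_y : S.w * S.e (zm * um) = S.e (zm * um) * S.w := by
  have h := S.cw_ij 1 1
  rw [pow_one, pow_one, cw_apply, (by decide +kernel : um * zm = zm * um)] at h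
  conv_rhs => rw [← h]
  rw [mul_assoc _ S.w S.w, S.w_sq, mul_one]

/-- The involution exchanging `z` and `u` is not conjugate to `s`. -/
theorem not_cs_w : ¬ S.Cs S.w := fun h =>
  S.no_nine S.w_comm_y.symm S.y_cube S.y_ne (fun _ hq hy h9 => S.y_part hq hy h9) (S.nine_of_cs h)

theorem not_cs_ws : ¬ S.Cs (S.w * S.e sm) := by
  have hsy : S.e (zm * um) * S.e sm = S.e sm * S.e (zm * um) := by
    rw [← map_mul, ← map_mul, (by decide +kernel : sm * (zm * um) = zm * um * sm)]
  refine fun h => S.no_nine ?_ S.y_cube S.y_ne ?_ (S.nine_of_cs h)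
  · rw [← mul_assoc, ← S.w_comm_y, mul_assoc, hsy, mul_assoc]
  intro q hq hy h9
  refine S.y_part ?_ hy h9
  have hsq : q * S.e sm = S.e sm * q := by
    obtain ⟨d, hd, k, hk, h⟩ := S.cent_y hy
    have hdk : S.e (d * k) * S.e sm = S.e sm * S.e (d * k) := by
      rw [← map_mul, ← map_mul]
      congr 1
      simp only [List.mem_cons, List.not_mem_nil, or_false] at hk
      rcases hk with rfl | rfl
      · rw [mul_one]; exact (sm_d9 d hd).1
      · rw [← mul_assoc sm d sm, ← (sm_d9 d hd).1]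
    rcases h with rfl | rfl
    · exact hdk
    · have hws : S.w * S.e sm = S.e sm * S.w := by
        conv_rhs => rw [← S.w_s]
        rw [mul_assoc _ S.w S.w, S.w_sq, mul_one]
      rw [mul_assoc, hdk, ← mul_assoc, hws, mul_assoc]
  have hs2 : S.e sm * S.e sm = 1 := by rw [← map_mul, model_facts.2.2.1, map_one]
  calc q * S.w = q * (S.w * S.e sm) * S.e sm := by rw [mul_assoc q, mul_assoc S.w, hs2, mul_one]
    _ = S.w * (S.e sm * q) * S.e sm := by rw [hq, mul_assoc S.w]
    _ = S.w * q := by rw [← hsq, mul_assoc S.w, mul_assoc q, hs2, mul_one]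

/-- An element of `D` not on the lines of `z` and `u` has centraliser of order thirty-six. -/
theorem ND_forms {g : G} (hg : g ∈ Subgroup.normalizer (S.DG : Set G)) :
    g ∈ S.e.range ∨ S.w * g ∈ S.e.range := by
  obtain ⟨q, hq, hgq⟩ := conj_mem_normalizer hg (show S.e zm ∈ S.DG from ⟨zm, mem_D9.2 (by decide +kernel), rfl⟩)
  rcases mixed_shape q hq with h | h | ⟨k, rfl⟩
  · refine Or.inl (S.norm g ?_)
    rw [← hgq]
    simp only [List.mem_cons, List.not_mem_nil, or_false] at h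
    rcases h with rfl | rfl | rfl
    · rw [map_one]; exact one_mem _
    · exact Subgroup.mem_zpowers _
    · rw [map_mul]; exact mul_mem (Subgroup.mem_zpowers _) (Subgroup.mem_zpowers _)
  · refine Or.inr (S.norm _ ?_)
    rw [show S.w * g * S.e zm * (S.w * g)⁻¹ = S.w * (g * S.e zm * g⁻¹) * S.w⁻¹ by group, ← hgq, S.w_inv,
      ← cw_apply]
    simp only [List.mem_cons, List.not_mem_nil, or_false] at h
    rcases h with rfl | rfl
    · rw [S.cw_u]; exact Subgroup.mem_zpowers _
    · rw [map_mul, map_mul, S.cw_u]; exact mul_mem (Subgroup.mem_zpowers _) (Subgroup.mem_zpowers _)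
  · exfalso
    have hmem : ∀ τ : Perm (Fin 5), S.e (1, τ) ∈ Subgroup.centralizer ({S.e zm} : Set G) := by
      intro τ
      rw [mem_cent_singleton, S.e_comm_iff]
      exact Prod.ext (by simp [zm]) (by simp [zm])
    have h := Nat.card_le_card_of_injective
      (fun τ : Perm (Fin 5) => (⟨S.e (1, τ), hmem τ⟩ : Subgroup.centralizer ({S.e zm} : Set G)))
      (fun τ τ' h => congrArg Prod.snd (S.e_inj (congrArg Subtype.val h)))
    have h36 : Nat.card (Subgroup.centralizer ({S.e zm} : Set G)) = 36 := by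
      rw [← card_cent_conj g, ← hgq, map_mul, map_mul, map_inv, card_cent_conj, S.card_y]
    rw [h36, Nat.card_eq_fintype_card, Fintype.card_perm, Fintype.card_fin] at h
    exact absurd h (by decide)

end Cfg

end Cfsg.Lib.SymEightThree
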