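import Cfsg.Agent.Lib.SymEightThree.Frame

set_option autoImplicit false

/-!
The frame from the hypotheses.
-/

namespace Cfsg.Lib.SymEightThree

open Equiv
open Cfsg.Lib.AltEightThree (c3 t34 mem_cent_singleton conj_mem_normalizer mem_normalizer_of_forall
  mem_normalizer_of_cent zpowers_three normal_order_three card_cent_conj)

set_option synthInstance.maxSize 2000
set_option maxHeartbeats 1000000

theorem cR_conj : ∀ a : Perm (Fin 3), a ^ 3 = 1 → a ≠ 1 → ∃ π : Perm (Fin 3), π * cR * π⁻¹ = a := by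
  decide +kernel

theorem split_zm : ∀ p : H720, p * zm = zm * p → p ^ 3 = 1 →
    p.2 ≠ 1 ∨ p = 1 ∨ p = zm ∨ p = zm * zm := by
  decide +kernel

theorem fst_zm : ∀ p : H720, p * zm = zm * p → p ^ 3 = 1 →
    ∃ a : Fin 3, p.1 = zm.1 ^ (a : ℕ) ∧ p.2 ^ 3 = 1 := by
  decide +kernel

theorem d9_of_comm : ∀ p : H720, p * zm = zm * p → p * um = um * p → p ^ 3 = 1 → p ∈ d9 := by
  decide +kernel

theorem cent_pair_sq : ∀ p : H720, p * zm = zm * p → p * um = um * p →
    p ^ 9 = 1 ∨ p ^ 9 = sm := by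
  decide +kernel

theorem invol_cent_pair : ∀ p : H720, p * zm = zm * p → p * um = um * p → p * p = 1 → p = 1 ∨ p = sm := by
  decide +kernel

theorem inv_form : ∀ p : H720, p * p = 1 → p * um = um * p → p * sm = sm * p → p * zm = zm * zm * p →
    ∃ j : Fin 3, p = zm ^ (j : ℕ) * gm * (zm ^ (j : ℕ))⁻¹ ∨
      p = zm ^ (j : ℕ) * (gm * sm) * (zm ^ (j : ℕ))⁻¹ := by
  decide +kernel

theorem d9_shape : ∀ q ∈ d9, q ∈ [1, zm, zm * zm] ∨ q = um ∨ q = um * um ∨
    ∃ k ∈ [1, rm, gm, gm * rm], q = k * (zm * um) * k⁻¹ := by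
  decide +kernel

theorem rm_moves : ∀ q ∈ d9, q ∈ [1, zm, zm * zm] ∨ q = um ∨ q = um * um ∨
    rm * q * rm ∉ [1, q, q * q] := by
  decide +kernel

theorem stab_card :
    (Finset.univ.filter fun p : H720 => ∀ q ∈ d9, p * q * p⁻¹ ∈ d9).card = 72 := by
  decide +kernel

theorem comm_test : ∀ a b : DihedralGroup 4 × Multiplicative (ZMod 2),
    a * a ≠ 1 → a * b * a⁻¹ * b⁻¹ ≠ 1 → a * a = a * b * a⁻¹ * b⁻¹ := by
  decide +kernel

theorem d9_norm : ∀ k ∈ [rm, gm], ∀ q ∈ d9, k * q * k⁻¹ ∈ d9 := by decide +kernel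

theorem rm_um : rm * um = um * um * rm := by decide +kernel

theorem small_facts : gm * um * gm = um ∧ gm * (zm * zm) * gm = zm ∧ rm * (um * um) * rm = um ∧
    rm⁻¹ = rm ∧ gm⁻¹ = gm ∧ um * um ≠ um ∧ zm * zm * zm = 1 ∧ sm ∉ d9 ∧ sm ≠ 1 ∧ sm * sm = 1 ∧
    zm ∉ [um, um * um] ∧ 1 ∈ d9 ∧ zm ∈ d9 ∧ um ∈ d9 := by
  decide +kernel

theorem conj_fix : ∀ j : Fin 3, zm ^ (j : ℕ) * zm * (zm ^ (j : ℕ))⁻¹ = zm ∧
    zm ^ (j : ℕ) * um * (zm ^ (j : ℕ))⁻¹ = um ∧ zm ^ (j : ℕ) * sm * (zm ^ (j : ℕ))⁻¹ = sm ∧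
    zm ^ (j : ℕ) * rm * (zm ^ (j : ℕ))⁻¹ = rm ∧
    zm ^ (j : ℕ) * (zm * um) * (zm ^ (j : ℕ))⁻¹ = zm * um := by
  decide +kernel

theorem conj_zm : ∀ p : H720, p * zm * p⁻¹ = zm ∨ p * zm * p⁻¹ = zm * zm := by
  decide +kernel

variable {G : Type*} [Group G]

/-- The normaliser of `z` in coordinates adapted to `D`. -/
theorem exists_coords [Finite G] (D : Subgroup G) (y z : G)
    (hgen : Subgroup.closure {y, z} = D) (hcomm : IsMulCommutative D) (hcard : Nat.card D = 9)
    (hexp : ∀ a ∈ D, a ^ 3 = 1)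
    (eL : Subgroup.normalizer (Subgroup.zpowers z : Set G) ≃* Perm (Fin 3) × Perm (Fin 5)) :
    ∃ e1 : H720 →* G, Function.Injective e1 ∧ e1 zm = z ∧
      (∀ g, g * z * g⁻¹ ∈ Subgroup.zpowers z → g ∈ e1.range) ∧ e1 um ∈ D := by
  classical
  have hyD : y ∈ D := hgen ▸ Subgroup.subset_closure (by simp)
  have hzD : z ∈ D := hgen ▸ Subgroup.subset_closure (by simp)
  have hcD : ∀ a ∈ D, ∀ b ∈ D, a * b = b * a := fun a ha b hb =>
    congrArg Subtype.val (hcomm.is_comm.comm ⟨a, ha⟩ ⟨b, hb⟩)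
  have hz3 : z ^ 3 = 1 := hexp z hzD
  have hsingle : ∀ a ∈ D, D ≠ Subgroup.zpowers a := by
    intro a ha h
    have h1 : Nat.card (Subgroup.zpowers a) ≤ 3 := by
      rw [Nat.card_zpowers]; exact orderOf_le_of_pow_eq_one (by norm_num) (hexp a ha)
    rw [← h, hcard] at h1
    omega
  have hyz : y ∉ Subgroup.zpowers z := fun h => hsingle z hzD (le_antisymm
    (by conv_lhs => rw [← hgen]
        rw [Subgroup.closure_le]
        rintro x (rfl | rfl)
        · exact h
        · exact Subgroup.mem_zpowers _) ((Subgroup.zpowers_le).mpr hzD))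
  have hz1 : z ≠ 1 := by
    rintro rfl
    refine hsingle y hyD (le_antisymm ?_ ((Subgroup.zpowers_le).mpr hyD))
    conv_lhs => rw [← hgen]
    rw [Subgroup.closure_le]
    rintro x (rfl | rfl)
    · exact Subgroup.mem_zpowers x
    · exact one_mem _
  set N := Subgroup.normalizer (Subgroup.zpowers z : Set G) with hN
  let e0 : H720 →* G := N.subtype.comp eL.symm.toMonoidHom
  have he0 : Function.Injective e0 := N.subtype_injective.comp eL.symm.injective
  have he0r : ∀ g, g * z * g⁻¹ ∈ Subgroup.zpowers z → g ∈ e0.range := by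
    intro g hg
    have hgN : g ∈ N := mem_normalizer_of_forall fun x hx => by
      obtain ⟨k, rfl⟩ := hx
      change MulAut.conj g (z ^ k) ∈ _
      rw [map_zpow]
      exact zpow_mem hg k
    exact ⟨eL ⟨g, hgN⟩, by simp [e0]⟩
  -- the image of `z`
  obtain ⟨P0, hP0⟩ := he0r z (by rw [mul_inv_cancel_right]; exact Subgroup.mem_zpowers _)
  have hP3 : P0 ^ 3 = 1 := he0 (by rw [map_pow, hP0, hz3, map_one])
  have hP1 : P0 ≠ 1 := fun h => hz1 (by rw [← hP0, h, map_one])
  have hconj : ∀ p : H720, p * P0 * p⁻¹ = 1 ∨ p * P0 * p⁻¹ = P0 ∨ p * P0 * p⁻¹ = P0 ^ 2 := by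
    intro p
    have h := conj_mem_normalizer (eL.symm p).2 (Subgroup.mem_zpowers z)
    have h' : e0 (p * P0 * p⁻¹) ∈ Subgroup.zpowers z := by
      rw [map_mul, map_mul, map_inv, hP0]; exact h
    rcases zpowers_three hz3 h' with h | h | h
    · exact Or.inl (he0 (by rw [h, map_one]))
    · exact Or.inr (Or.inl (he0 (by rw [h, hP0])))
    · exact Or.inr (Or.inr (he0 (by rw [h, map_pow, hP0])))
  have hP2 : P0.2 = 1 := normal_order_three P0.2 (by rw [← Prod.pow_snd, hP3]; rfl) fun π => by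
    rcases hconj (1, π) with h | h | h
    · exact Or.inl (by simpa using congrArg Prod.snd h)
    · exact Or.inr (Or.inl (by simpa using congrArg Prod.snd h))
    · exact Or.inr (Or.inr (by simpa using congrArg Prod.snd h))
  obtain ⟨π3, hπ3⟩ := cR_conj P0.1 (by rw [← Prod.pow_fst, hP3]; rfl)
    (fun h => hP1 (Prod.ext h hP2))
  have hconjz : MulAut.conj ((π3, 1) : H720) zm = P0 := by
    rw [MulAut.conj_apply]
    exact Prod.ext (by simpa [zm] using hπ3) (by simp [zm, hP2])
  let ea : H720 →* G := e0.comp (MulAut.conj ((π3, 1) : H720)).toMonoidHom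
  have hea : Function.Injective ea := he0.comp (MulAut.conj ((π3, 1) : H720)).injective
  have heaz : ea zm = z := by
    simp only [ea, MonoidHom.comp_apply, MulEquiv.coe_toMonoidHom, hconjz, hP0]
  have hear : ∀ g, g * z * g⁻¹ ∈ Subgroup.zpowers z → g ∈ ea.range := by
    intro g hg
    obtain ⟨p, rfl⟩ := he0r g hg
    exact ⟨(MulAut.conj ((π3, 1) : H720)).symm p, by simp only [ea, MonoidHom.comp_apply,
      MulEquiv.coe_toMonoidHom, MulEquiv.apply_symm_apply]⟩
  -- the second generator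
  obtain ⟨q0, hq0⟩ := hear y (by rw [hcD y hyD z hzD, mul_inv_cancel_right]; exact Subgroup.mem_zpowers _)
  have hq0c : q0 * zm = zm * q0 := hea (by rw [map_mul, map_mul, hq0, heaz]; exact hcD y hyD z hzD)
  have hq03 : q0 ^ 3 = 1 := hea (by rw [map_pow, hq0, hexp y hyD, map_one])
  have hτne : q0.2 ≠ 1 := by
    rcases split_zm q0 hq0c hq03 with h | h | h | h
    · exact h
    · exact absurd (by rw [← hq0, h, map_one]; exact one_mem _) hyz
    · exact absurd (by rw [← hq0, h, heaz]; exact Subgroup.mem_zpowers _) hyz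
    · exact absurd (by
        rw [← hq0, h, map_mul, heaz]
        exact mul_mem (Subgroup.mem_zpowers _) (Subgroup.mem_zpowers _)) hyz
  obtain ⟨a, ha, hτ3⟩ := fst_zm q0 hq0c hq03
  obtain ⟨π5, hπ5⟩ := AltEightThree.c3_conj q0.2 hτ3 hτne
  have hconj1 : MulAut.conj ((1, π5) : H720) zm = zm := by
    rw [MulAut.conj_apply]
    exact Prod.ext (by simp [zm]) (by simp [zm])
  have hconju : MulAut.conj ((1, π5) : H720) um = (zm ^ (a : ℕ))⁻¹ * q0 := by
    rw [MulAut.conj_apply]
    refine Prod.ext ?_ ?_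
    · simp [um, zm, ha]
    · simpa [um, zm] using hπ5
  refine ⟨ea.comp (MulAut.conj ((1, π5) : H720)).toMonoidHom,
    hea.comp (MulAut.conj ((1, π5) : H720)).injective, ?_, ?_, ?_⟩
  · simp only [MonoidHom.comp_apply, MulEquiv.coe_toMonoidHom, hconj1, heaz]
  · intro g hg
    obtain ⟨p, rfl⟩ := hear g hg
    exact ⟨(MulAut.conj ((1, π5) : H720)).symm p, by simp only [MonoidHom.comp_apply,
      MulEquiv.coe_toMonoidHom, MulEquiv.apply_symm_apply]⟩
  · simp only [MonoidHom.comp_apply, MulEquiv.coe_toMonoidHom, hconju, map_mul, map_inv, map_pow, heaz, hq0]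
    exact mul_mem (inv_mem (pow_mem hzD _)) hyD

/-- The frame exists. -/
theorem exists_cfg [Finite G] (P : Sylow 3 G) (D : Subgroup G) (hDP : D = P) (y z : G)
    (hgen : Subgroup.closure {y, z} = D) (hcomm : IsMulCommutative D) (hcard : Nat.card D = 9)
    (hexp : ∀ a ∈ D, a ^ 3 = 1)
    (eN : Subgroup.normalizer (D : Set G) ⧸ D.subgroupOf (Subgroup.normalizer (D : Set G)) ≃*
      DihedralGroup 4 × Multiplicative (ZMod 2))
    (hycard : Nat.card (Subgroup.centralizer ({y} : Set G)) = 36)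
    (eL : Subgroup.normalizer (Subgroup.zpowers z : Set G) ≃* Perm (Fin 3) × Perm (Fin 5)) :
    ∃ S : Cfg G, Subgroup.map S.e (Subgroup.closure {zm, um}) ≤ D := by
  classical
  obtain ⟨e1, he1, he1z, he1r, huD⟩ := exists_coords D y z hgen hcomm hcard hexp eL
  have hyD : y ∈ D := hgen ▸ Subgroup.subset_closure (by simp)
  have hzD : z ∈ D := hgen ▸ Subgroup.subset_closure (by simp)
  have hcD : ∀ a ∈ D, ∀ b ∈ D, a * b = b * a := fun a ha b hb =>
    congrArg Subtype.val (hcomm.is_comm.comm ⟨a, ha⟩ ⟨b, hb⟩)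
  have hz3 : z ^ 3 = 1 := hexp z hzD
  have hsingle : ∀ a ∈ D, D ≠ Subgroup.zpowers a := by
    intro a ha h
    have h1 : Nat.card (Subgroup.zpowers a) ≤ 3 := by
      rw [Nat.card_zpowers]; exact orderOf_le_of_pow_eq_one (by norm_num) (hexp a ha)
    rw [← h, hcard] at h1
    omega
  have hyz : y ∉ Subgroup.zpowers z := fun h => hsingle z hzD (le_antisymm
    (by conv_lhs => rw [← hgen]
        rw [Subgroup.closure_le]
        rintro x (rfl | rfl)
        · exact h
        · exact Subgroup.mem_zpowers _) ((Subgroup.zpowers_le).mpr hzD))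
  have hz1 : z ≠ 1 := by
    rintro rfl
    refine hsingle y hyD (le_antisymm ?_ ((Subgroup.zpowers_le).mpr hyD))
    conv_lhs => rw [← hgen]
    rw [Subgroup.closure_le]
    rintro x (rfl | rfl)
    · exact Subgroup.mem_zpowers x
    · exact one_mem _
  set N := Subgroup.normalizer (Subgroup.zpowers z : Set G) with hN
  have he1N : ∀ p, e1 p ∈ N := by
    intro p
    refine mem_normalizer_of_forall fun x hx => ?_
    obtain ⟨k, rfl⟩ := hx
    change MulAut.conj (e1 p) (z ^ k) ∈ _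
    rw [map_zpow]
    refine zpow_mem ?_ k
    rw [MulAut.conj_apply, ← he1z, ← map_inv, ← map_mul, ← map_mul]
    rcases conj_zm p with e | e <;> rw [e]
    · exact Subgroup.mem_zpowers _
    · rw [map_mul]; exact mul_mem (Subgroup.mem_zpowers _) (Subgroup.mem_zpowers _)
  have hd9 : ∀ q ∈ d9, e1 q ∈ D := by
    intro q hq
    have hz' : e1 zm ∈ D := he1z ▸ hzD
    simp only [d9, List.mem_cons, List.not_mem_nil, or_false] at hq
    rcases hq with rfl | rfl | rfl | rfl | rfl | rfl | rfl | rfl | rfl <;>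
      (try simp only [map_one, map_mul]) <;>
      first
      | exact one_mem _
      | exact hz'
      | exact huD
      | exact mul_mem hz' hz'
      | exact mul_mem huD huD
      | exact mul_mem hz' huD
      | exact mul_mem hz' (mul_mem huD huD)
      | exact mul_mem (mul_mem hz' hz') huD
      | exact mul_mem (mul_mem hz' hz') (mul_mem huD huD)
  have hDform : ∀ x ∈ D, ∃ q ∈ d9, x = e1 q := by
    intro x hx
    obtain ⟨q, rfl⟩ := he1r x (by rw [hcD x hx z hzD, mul_inv_cancel_right]; exact Subgroup.mem_zpowers _)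
    refine ⟨q, d9_of_comm q (he1 ?_) (he1 ?_) (he1 (by rw [map_pow, hexp _ hx, map_one])), rfl⟩
    · rw [map_mul, map_mul, he1z]; exact hcD _ hx z hzD
    · rw [map_mul, map_mul]; exact hcD _ hx _ huD
  have hconjk : ∀ k q : H720, Nat.card (Subgroup.centralizer ({e1 (k * q * k⁻¹)} : Set G)) =
      Nat.card (Subgroup.centralizer ({e1 q} : Set G)) := fun k q => by
    rw [map_mul, map_mul, map_inv, card_cent_conj]
  have hzbig : 36 < Nat.card (Subgroup.centralizer ({z} : Set G)) := by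
    have hmem : ∀ τ : Perm (Fin 5), e1 (1, τ) ∈ Subgroup.centralizer ({z} : Set G) := by
      intro τ
      rw [mem_cent_singleton, ← he1z, ← map_mul, ← map_mul]
      congr 1
    have h := Nat.card_le_card_of_injective
      (fun τ : Perm (Fin 5) => (⟨e1 (1, τ), hmem τ⟩ : Subgroup.centralizer ({z} : Set G)))
      (fun τ τ' h => congrArg Prod.snd (he1 (congrArg Subtype.val h)))
    rw [Nat.card_eq_fintype_card, Fintype.card_perm, Fintype.card_fin] at h
    exact lt_of_lt_of_le (by decide) h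
  set ND := Subgroup.normalizer (D : Set G) with hND
  have hNDcard : Nat.card ND = 144 := by
    have h1 := Subgroup.card_eq_card_quotient_mul_card_subgroup (D.subgroupOf ND)
    rw [Nat.card_congr eN.toEquiv, Nat.card_prod, DihedralGroup.nat_card,
      Nat.card_congr (Multiplicative.toAdd (α := ZMod 2)), Nat.card_zmod,
      Nat.card_congr (Subgroup.subgroupOfEquivOfLe Subgroup.le_normalizer).toEquiv, hcard] at h1
    exact h1
  let NDz : Subgroup ND := N.subgroupOf ND
  have hNDz : Nat.card NDz ≤ 72 := by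
    have hcl : ∀ g : NDz, ∃ p ∈ Finset.univ.filter (fun p : H720 => ∀ q ∈ d9, p * q * p⁻¹ ∈ d9),
        ((g : ND) : G) = e1 p := by
      intro g
      obtain ⟨p, hp⟩ := he1r _ (conj_mem_normalizer g.2 (Subgroup.mem_zpowers z))
      refine ⟨p, Finset.mem_filter.2 ⟨Finset.mem_univ _, fun q hq => ?_⟩, hp.symm⟩
      obtain ⟨q', hq', e⟩ := hDform _ (conj_mem_normalizer (g : ND).2 (hd9 q hq))
      rw [show ((g : ND) : G) = e1 p from hp.symm, ← map_inv, ← map_mul, ← map_mul] at e
      rwa [he1 e]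
    choose f hf hfe using hcl
    have h := Nat.card_le_card_of_injective
      (fun g => (⟨f g, hf g⟩ : {p // p ∈ Finset.univ.filter (fun p : H720 => ∀ q ∈ d9, p * q * p⁻¹ ∈ d9)}))
      (fun g g' h => Subtype.ext (Subtype.ext (by rw [hfe g, hfe g', show f g = f g' from congrArg Subtype.val h])))
    rw [Nat.card_eq_finsetCard, stab_card] at h
    exact h
  obtain ⟨g, hgN, hgz⟩ : ∃ g ∈ ND, g * z * g⁻¹ ∉ Subgroup.zpowers z := by
    by_contra hcon
    push Not at hcon
    have : NDz = ⊤ := by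
      rw [eq_top_iff]
      rintro ⟨x, hx⟩ -
      refine mem_normalizer_of_forall fun y hy => ?_
      obtain ⟨k, rfl⟩ := hy
      change MulAut.conj x (z ^ k) ∈ _
      rw [map_zpow]
      exact zpow_mem (hcon x hx) k
    rw [this, Subgroup.card_top, hNDcard] at hNDz
    omega
  -- the image of `z` is on the line of `u`
  obtain ⟨q, hq, hgq⟩ := hDform _ (conj_mem_normalizer hgN hzD)
  have hqz : q ∉ [1, zm, zm * zm] := by
    intro h
    apply hgz
    rw [hgq]
    simp only [List.mem_cons, List.not_mem_nil, or_false] at h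
    rcases h with rfl | rfl | rfl
    · rw [map_one]; exact one_mem _
    · rw [he1z]; exact Subgroup.mem_zpowers _
    · rw [map_mul, he1z]; exact mul_mem (Subgroup.mem_zpowers _) (Subgroup.mem_zpowers _)
  have hz'3 : (g * z * g⁻¹) ^ 3 = 1 := by rw [conj_pow, hz3, mul_one, mul_inv_cancel]
  have hqu : q = um ∨ q = um * um := by
    rcases rm_moves q hq with h | h | h | h
    · exact absurd h hqz
    · exact Or.inl h
    · exact Or.inr h
    exfalso
    -- an orbit of three lines would have length two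
    have hidx : NDz.index = 2 := by
      have h1 := Subgroup.card_mul_index NDz
      rw [hNDcard] at h1
      have h2 : NDz.index ≠ 1 := by
        rw [Ne, Subgroup.index_eq_one]
        intro htop
        have : (⟨g, hgN⟩ : ND) ∈ NDz := htop ▸ Subgroup.mem_top _
        exact hgz (conj_mem_normalizer this (Subgroup.mem_zpowers _))
      have h3 : NDz.index ≠ 0 := Subgroup.index_ne_zero_of_finite
      by_contra hne
      have h4 : Nat.card NDz * 3 ≤ 144 := le_of_le_of_eq (Nat.mul_le_mul_left _ (by omega)) h1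
      have h5 : 72 ≤ Nat.card NDz := by
        have hmem : ∀ p : {p : H720 // ∀ q ∈ d9, p * q * p⁻¹ ∈ d9}, e1 p.1 ∈ ND ∧ e1 p.1 ∈ N := by
          intro p
          refine ⟨mem_normalizer_of_forall fun x hx => ?_, ?_⟩
          · obtain ⟨q', hq', rfl⟩ := hDform x hx
            rw [← map_inv, ← map_mul, ← map_mul]
            exact hd9 _ (p.2 q' hq')
          · show e1 p.1 ∈ N
            exact he1N _
        have h := Nat.card_le_card_of_injective
          (fun p => (⟨⟨e1 p.1, (hmem p).1⟩, Subgroup.mem_subgroupOf.2 (hmem p).2⟩ : NDz))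
          (fun p p' h => Subtype.ext (he1 (congrArg (fun x : NDz => ((x : ND) : G)) h)))
        rwa [Nat.card_eq_fintype_card, Fintype.card_subtype, stab_card] at h
      omega
    haveI := Subgroup.normal_of_index_eq_two hidx
    have hrN : e1 rm ∈ ND := mem_normalizer_of_forall fun x hx => by
      obtain ⟨q', hq', rfl⟩ := hDform x hx
      rw [← map_inv, ← map_mul, ← map_mul]
      exact hd9 _ (d9_norm rm (by simp) q' hq')
    have hrz : (⟨e1 rm, hrN⟩ : ND) ∈ NDz := he1N _
    have hc := (inferInstance : NDz.Normal).conj_mem _ hrz (⟨g, hgN⟩⁻¹)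
    have hc' := conj_mem_normalizer (show (g⁻¹ * e1 rm * g⁻¹⁻¹ : G) ∈ N from hc) (Subgroup.mem_zpowers z)
    have hc'' : e1 (rm * q * rm) ∈ Subgroup.zpowers (g * z * g⁻¹) := by
      obtain ⟨k, hk⟩ := hc'
      dsimp only at hk
      refine ⟨k, ?_⟩
      calc (g * z * g⁻¹) ^ k = g * z ^ k * g⁻¹ := conj_zpow
        _ = e1 rm * (g * z * g⁻¹) * (e1 rm)⁻¹ := by rw [hk]; group
        _ = e1 (rm * q * rm) := by rw [hgq, ← map_inv, small_facts.2.2.2.1, map_mul, map_mul]
    refine h ?_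
    rcases zpowers_three hz'3 hc'' with e | e | e
    · rw [← map_one e1] at e; simp [he1 e]
    · rw [hgq] at e; simp [he1 e]
    · rw [hgq, pow_two, ← map_mul] at e; simp [he1 e]
  have hubig : 36 < Nat.card (Subgroup.centralizer ({e1 um} : Set G)) := by
    have : Nat.card (Subgroup.centralizer ({e1 q} : Set G)) =
        Nat.card (Subgroup.centralizer ({e1 um} : Set G)) := by
      rcases hqu with rfl | rfl
      · rfl
      · have := hconjk rm (um * um)
        rw [small_facts.2.2.2.1, small_facts.2.2.1] at this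
        exact this.symm
    rw [← this, ← hgq, card_cent_conj]; exact hzbig
  have hcasc : ∀ q ∈ d9, q = 1 ∨ (q ∈ [zm, zm * zm, um, um * um] ∧
      36 < Nat.card (Subgroup.centralizer ({e1 q} : Set G))) ∨
      Nat.card (Subgroup.centralizer ({e1 q} : Set G)) =
        Nat.card (Subgroup.centralizer ({e1 (zm * um)} : Set G)) := by
    intro q' hq'
    rcases d9_shape q' hq' with h | rfl | rfl | ⟨k, -, rfl⟩
    · simp only [List.mem_cons, List.not_mem_nil, or_false] at h
      rcases h with rfl | rfl | rfl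
      · exact Or.inl rfl
      · exact Or.inr (Or.inl ⟨by simp, by rw [he1z]; exact hzbig⟩)
      · refine Or.inr (Or.inl ⟨by simp, ?_⟩)
        have := hconjk gm (zm * zm)
        rw [small_facts.2.2.2.2.1, small_facts.2.1, he1z] at this
        rw [← this]; exact hzbig
    · exact Or.inr (Or.inl ⟨by simp, hubig⟩)
    · refine Or.inr (Or.inl ⟨by simp, ?_⟩)
      have := hconjk rm (um * um)
      rw [small_facts.2.2.2.1, small_facts.2.2.1] at this
      rw [← this]; exact hubig
    · exact Or.inr (Or.inr (hconjk _ _))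
  have hcy : Nat.card (Subgroup.centralizer ({e1 (zm * um)} : Set G)) = 36 := by
    obtain ⟨q', hq', rfl⟩ := hDform y hyD
    rcases hcasc q' hq' with rfl | ⟨-, h⟩ | h
    · exact absurd (by rw [map_one]; exact one_mem _) hyz
    · omega
    · omega
  -- exchange `z` and `u`
  have hgmem : ∀ k ∈ [rm, gm], e1 k ∈ ND := by
    intro k hk
    refine mem_normalizer_of_forall fun x hx => ?_
    obtain ⟨q', hq', rfl⟩ := hDform x hx
    rw [← map_inv, ← map_mul, ← map_mul]
    exact hd9 _ (d9_norm k hk q' hq')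
  obtain ⟨g1, hg1N, hg1z⟩ : ∃ g1 ∈ ND, g1 * z * g1⁻¹ = e1 um := by
    rcases hqu with rfl | rfl
    · exact ⟨g, hgN, hgq⟩
    · refine ⟨e1 rm * g, mul_mem (hgmem rm (by simp)) hgN, ?_⟩
      calc e1 rm * g * z * (e1 rm * g)⁻¹ = e1 rm * (g * z * g⁻¹) * (e1 rm)⁻¹ := by group
        _ = e1 (rm * (um * um) * rm⁻¹) := by simp only [hgq, map_mul, map_inv]
        _ = e1 um := by rw [small_facts.2.2.2.1, small_facts.2.2.1]
  obtain ⟨q1, hq1, hg1q⟩ := hDform _ (conj_mem_normalizer hg1N huD)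
  have hq1z : q1 = zm ∨ q1 = zm * zm := by
    have hinj := MulAut.conj g1 |>.injective
    have hne : ∀ q' : H720, q1 = q' → g1 * e1 um * g1⁻¹ = e1 q' := fun q' h => h ▸ hg1q
    rcases hcasc q1 hq1 with rfl | ⟨h, -⟩ | h
    · have := hne 1 rfl
      rw [map_one, conj_eq_one_iff] at this
      exact absurd (he1 (this.trans (map_one e1).symm)) (by decide +kernel)
    · simp only [List.mem_cons, List.not_mem_nil, or_false] at h
      rcases h with rfl | rfl | rfl | rfl
      · exact Or.inl rfl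
      · exact Or.inr rfl
      · refine absurd (he1 (hinj ?_)) (show um ≠ zm by decide +kernel)
        rw [MulAut.conj_apply, MulAut.conj_apply, he1z, hg1z, hg1q]
      · refine absurd (he1 (hinj ?_)) (show um ≠ zm * zm by decide +kernel)
        rw [MulAut.conj_apply, hg1q, map_mul, map_mul, map_mul, MulAut.conj_apply, he1z, hg1z]
    · have h' : Nat.card (Subgroup.centralizer ({e1 q1} : Set G)) =
          Nat.card (Subgroup.centralizer ({e1 um} : Set G)) := by rw [← hg1q, card_cent_conj]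
      omega
  obtain ⟨g2, hg2N, hg2z, hg2u⟩ : ∃ g2 ∈ ND, g2 * z * g2⁻¹ = e1 um ∧ g2 * e1 um * g2⁻¹ = z := by
    rcases hq1z with rfl | rfl
    · exact ⟨g1, hg1N, hg1z, by rw [hg1q, he1z]⟩
    · refine ⟨e1 gm * g1, mul_mem (hgmem gm (by simp)) hg1N, ?_, ?_⟩
      · calc e1 gm * g1 * z * (e1 gm * g1)⁻¹ = e1 gm * (g1 * z * g1⁻¹) * (e1 gm)⁻¹ := by group
          _ = e1 (gm * um * gm⁻¹) := by simp only [hg1z, map_mul, map_inv]
          _ = e1 um := by rw [small_facts.2.2.2.2.1, small_facts.1]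
      · calc e1 gm * g1 * e1 um * (e1 gm * g1)⁻¹ = e1 gm * (g1 * e1 um * g1⁻¹) * (e1 gm)⁻¹ := by group
          _ = e1 (gm * (zm * zm) * gm⁻¹) := by
            simp only [hg1q, map_mul, map_inv]
          _ = z := by rw [small_facts.2.2.2.2.1, small_facts.2.1, he1z]
  -- the square
  have hcommz : ∀ x : G, x * z = z * x → x * e1 um = e1 um * x →
      ∃ p : H720, x = e1 p ∧ p * zm = zm * p ∧ p * um = um * p := by
    intro x h1 h2
    obtain ⟨p, rfl⟩ := he1r x (by rw [h1, mul_inv_cancel_right]; exact Subgroup.mem_zpowers _)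
    exact ⟨p, rfl, he1 (by rw [map_mul, map_mul, he1z]; exact h1), he1 (by rw [map_mul, map_mul]; exact h2)⟩
  have hz2 : (g2 * g2) * z = z * (g2 * g2) := mul_inv_eq_iff_eq_mul.mp (by
    calc g2 * g2 * z * (g2 * g2)⁻¹ = g2 * (g2 * z * g2⁻¹) * g2⁻¹ := by group
      _ = z := by rw [hg2z, hg2u])
  have hu2 : (g2 * g2) * e1 um = e1 um * (g2 * g2) := mul_inv_eq_iff_eq_mul.mp (by
    calc g2 * g2 * e1 um * (g2 * g2)⁻¹ = g2 * (g2 * e1 um * g2⁻¹) * g2⁻¹ := by group
      _ = e1 um := by rw [hg2u, hg2z])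
  obtain ⟨p, hp, hpz, hpu⟩ := hcommz _ hz2 hu2
  set h := g2 * (g2 * g2) ^ 4 with hh
  have hhN : h ∈ ND := mul_mem hg2N (pow_mem (mul_mem hg2N hg2N) 4)
  have cz : Commute ((g2 * g2) ^ 4) z := (show Commute (g2 * g2) z from hz2).pow_left 4
  have cu : Commute ((g2 * g2) ^ 4) (e1 um) := (show Commute (g2 * g2) (e1 um) from hu2).pow_left 4
  have hhz : h * z * h⁻¹ = e1 um := by
    rw [hh, mul_inv_rev, show ∀ a b c d : G, a * b * c * (b⁻¹ * d) = a * (b * c * b⁻¹) * d from
      fun a b c d => by group, cz.eq, mul_inv_cancel_right, hg2z]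
  have hhu : h * e1 um * h⁻¹ = z := by
    rw [hh, mul_inv_rev, show ∀ a b c d : G, a * b * c * (b⁻¹ * d) = a * (b * c * b⁻¹) * d from
      fun a b c d => by group, cu.eq, mul_inv_cancel_right, hg2u]
  have hhs : h * e1 sm * h⁻¹ = e1 sm := by
    have hinv : ∀ x : G, x * e1 sm = e1 sm * x → (h * x * h⁻¹) * (h * e1 sm * h⁻¹) =
        (h * e1 sm * h⁻¹) * (h * x * h⁻¹) := fun x hx => by
      calc (h * x * h⁻¹) * (h * e1 sm * h⁻¹) = h * (x * e1 sm) * h⁻¹ := by group
        _ = h * (e1 sm * x) * h⁻¹ := by rw [hx]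
        _ = _ := by group
    have c1 := hinv (e1 um) (by rw [← map_mul, ← map_mul, model_facts.2.2.2.2.2.2.2.1])
    have c2 := hinv z (by rw [← he1z, ← map_mul, ← map_mul, model_facts.2.2.2.2.2.2.1])
    rw [hhu] at c1
    rw [hhz] at c2
    obtain ⟨p', hp', hpz', hpu'⟩ := hcommz _ c1.symm c2.symm
    have hp2 : p' * p' = 1 := he1 (by
      rw [map_mul, ← hp', map_one, show h * e1 sm * h⁻¹ * (h * e1 sm * h⁻¹) = h * (e1 sm * e1 sm) * h⁻¹ by group,
        ← map_mul, model_facts.2.2.1, map_one]; group)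
    rcases invol_cent_pair p' hpz' hpu' hp2 with rfl | rfl
    · rw [map_one, conj_eq_one_iff, ← map_one e1] at hp'
      exact absurd (he1 hp') small_facts.2.2.2.2.2.2.2.2.1
    · exact hp'
  have hrN : e1 rm ∈ ND := hgmem rm (by simp)
  have hh2 : h * h = 1 := by
    have he : h * h = e1 (p ^ 9) := by
      rw [map_pow, ← hp, hh]
      simp only [← pow_two, ← pow_mul, ← pow_succ']
    rcases cent_pair_sq p hpz hpu with e | e
    · rw [he, e, map_one]
    exfalso
    rw [e] at he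
    haveI : (D.subgroupOf ND).Normal := Subgroup.normal_subgroupOf_of_le_normalizer le_rfl
    let a : ND := ⟨h, hhN⟩
    let b : ND := ⟨e1 rm, hrN⟩
    set π := QuotientGroup.mk' (D.subgroupOf ND)
    have hku : ∀ x ∈ D, h * e1 rm * h⁻¹ * (e1 rm)⁻¹ ≠ x ∧
        h * e1 rm * h⁻¹ * (e1 rm)⁻¹ ≠ e1 sm * x := by
      intro x hx
      have hk : (h * e1 rm * h⁻¹ * (e1 rm)⁻¹) * e1 um * (h * e1 rm * h⁻¹ * (e1 rm)⁻¹)⁻¹ =
          e1 (um * um) := by
        have e1' : (e1 rm)⁻¹ * e1 um * e1 rm = e1 (um * um) := by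
          rw [← map_inv, ← map_mul, ← map_mul, small_facts.2.2.2.1, model_facts.2.2.2.2.2.2.2.2.2.2.2.2.2.1]
        have e2' : h⁻¹ * e1 (um * um) * h = z * z := by
          rw [map_mul, ← hhz]; group
        have e3' : e1 rm * (z * z) * (e1 rm)⁻¹ = z * z := by
          rw [mul_inv_eq_iff_eq_mul]
          have : Commute (e1 rm) z := show e1 rm * z = z * e1 rm by
            rw [← he1z, ← map_mul, ← map_mul, model_facts.2.2.2.2.2.2.2.2.2.2.2.1]
          exact (this.mul_right this).eq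
        calc _ = h * (e1 rm * (h⁻¹ * ((e1 rm)⁻¹ * e1 um * e1 rm) * h) * (e1 rm)⁻¹) * h⁻¹ := by group
          _ = h * (z * z) * h⁻¹ := by rw [e1', e2', e3']
          _ = h * z * h⁻¹ * (h * z * h⁻¹) := by group
          _ = e1 (um * um) := by rw [hhz, map_mul]
      constructor <;> intro hx' <;> rw [hx'] at hk <;>
        refine small_facts.2.2.2.2.2.1 (he1 (hk.symm.trans ?_))
      · rw [hcD x hx _ huD, mul_inv_cancel_right]
      · rw [show e1 sm * x * e1 um * (e1 sm * x)⁻¹ = e1 sm * (x * e1 um * x⁻¹) * (e1 sm)⁻¹ by group,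
          hcD x hx _ huD, mul_inv_cancel_right, mul_inv_eq_iff_eq_mul, ← map_mul, ← map_mul,
          model_facts.2.2.2.2.2.2.2.1]
    have h1 : π a * π a ≠ 1 := by
      rw [← map_mul]
      intro h1
      have h1' : h * h ∈ D := Subgroup.mem_subgroupOf.1
        ((QuotientGroup.eq_one_iff (N := D.subgroupOf ND) (a * a)).1 h1)
      obtain ⟨q', hq', e'⟩ := hDform _ (he ▸ h1')
      exact small_facts.2.2.2.2.2.2.2.1 (he1 e' ▸ hq')
    have h2 : π a * π b * (π a)⁻¹ * (π b)⁻¹ ≠ 1 := by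
      simp only [← map_inv, ← map_mul]
      intro h2
      exact (hku _ (Subgroup.mem_subgroupOf.1
        ((QuotientGroup.eq_one_iff (N := D.subgroupOf ND) (a * b * a⁻¹ * b⁻¹)).1 h2))).1 rfl
    have h3 := comm_test (eN (π a)) (eN (π b))
      (by rw [← map_mul]; exact fun h => h1 (eN.injective (h.trans (map_one eN).symm)))
      (by simp only [← map_inv, ← map_mul]; exact fun h => h2 (eN.injective (h.trans (map_one eN).symm)))
    simp only [← map_inv, ← map_mul] at h3
    have h3' : ((a * a : ND) : ND ⧸ D.subgroupOf ND) = ((a * b * a⁻¹ * b⁻¹ : ND) : ND ⧸ D.subgroupOf ND) :=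
      eN.injective h3
    have h4 : (h * h)⁻¹ * (h * e1 rm * h⁻¹ * (e1 rm)⁻¹) ∈ D :=
      Subgroup.mem_subgroupOf.1 (QuotientGroup.eq.1 h3')
    rw [he] at h4
    exact (hku _ h4).2 (by rw [mul_inv_cancel_left])
  have hinv : h⁻¹ = h := inv_eq_of_mul_eq_one_right hh2
  rw [hinv] at hhz hhu hhs
  -- the image of `r`
  have hcj : ∀ x y : G, h * (x * y) * h = h * x * h * (h * y * h) := fun x y => by
    calc h * (x * y) * h = h * x * (1 : G) * y * h := by group
      _ = _ := by rw [← hh2]; group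
  obtain ⟨p', hp'⟩ := he1r (h * e1 rm * h) (by
    have : h * e1 rm * h * z * (h * e1 rm * h)⁻¹ = z * z := by
      rw [show h * e1 rm * h * z * (h * e1 rm * h)⁻¹ =
        h * (e1 rm * (h * z * h⁻¹) * (e1 rm)⁻¹) * h⁻¹ by group, hinv, hhz, ← map_inv, ← map_mul, ← map_mul,
        small_facts.2.2.2.1, model_facts.2.2.2.2.2.2.2.2.2.2.2.2.2.1, map_mul, hcj, hhu]
    rw [this]
    exact mul_mem (Subgroup.mem_zpowers _) (Subgroup.mem_zpowers _))
  obtain ⟨j, hj⟩ := inv_form p'
    (he1 (by rw [map_mul, hp', ← hcj, ← map_mul, model_facts.2.2.2.1, map_one, mul_one, hh2]))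
    (he1 (by
      rw [map_mul, map_mul, hp', ← hhz, ← he1z, ← hcj, ← hcj, ← map_mul, ← map_mul,
        model_facts.2.2.2.2.2.2.2.2.2.2.2.1]))
    (he1 (by
      rw [map_mul, map_mul, hp', ← hhs, ← hcj, ← hcj, ← map_mul, ← map_mul,
        model_facts.2.2.2.2.2.2.2.2.1]))
    (he1 (by
      simp only [map_mul, hp', he1z]
      rw [← hhu, ← hcj, ← hcj, ← hcj, ← map_mul, ← map_mul, ← map_mul]
      rw [rm_um]))
  let e : H720 →* G := e1.comp (MulAut.conj (zm ^ (j : ℕ))).toMonoidHom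
  have hec : ∀ q, e q = e1 (zm ^ (j : ℕ) * q * (zm ^ (j : ℕ))⁻¹) := fun q => rfl
  obtain ⟨cz', cu', cs', cr', czu'⟩ := conj_fix j
  refine ⟨⟨e, h, he1.comp (MulAut.conj (zm ^ (j : ℕ))).injective, ?_, hh2, ?_, ?_, ?_, ?_, ?_⟩, ?_⟩
  · intro x hx
    rw [hec, cz', he1z] at hx
    obtain ⟨q, rfl⟩ := he1r x hx
    exact ⟨(MulAut.conj (zm ^ (j : ℕ))).symm q, by simp only [e, MonoidHom.comp_apply,
      MulEquiv.coe_toMonoidHom, MulEquiv.apply_symm_apply]⟩
  · rw [hec, hec, cz', cu', he1z, hhz]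
  · rw [hec, cs', hhs]
  · rw [hec, hec, hec, cr', ← hp']
    rcases hj with rfl | rfl
    · exact Or.inl rfl
    · exact Or.inr rfl
  · rw [hec, czu']; exact hcy
  · intro h27
    have h9 : Nat.card (P : Subgroup G) = 9 := by rw [← hDP]; exact hcard
    have := (P : Subgroup G).card_mul_index
    rw [h9] at this
    have hd : 3 ∣ (P : Subgroup G).index :=
      Nat.dvd_of_mul_dvd_mul_left (by norm_num : 0 < 9) (this ▸ h27)
    exact P.not_dvd_index hd
  · rw [MonoidHom.map_closure, Subgroup.closure_le]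
    rintro x ⟨q, hq, rfl⟩
    rcases hq with rfl | rfl
    · rw [hec, cz', he1z]; exact hzD
    · rw [hec, cu']; exact huD

end Cfsg.Lib.SymEightThree
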