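import Cfsg.Agent.Lib.SymEightThree.Halves
import Cfsg.Agent.Lib.Recog.SelfThree.Main
import Cfsg.Agent.Lib.Coprime.Generation

set_option autoImplicit false

/-!
In the exceptional configuration, the centraliser of the four-group `V` inside the first alternating
group of degree five is `V` times the second one.
-/

namespace Cfsg.Lib.SymEightThree

open Equiv
open Cfsg.Lib.AltEightThree (c3 t34 mem_cent_singleton conj_mem_normalizer mem_normalizer_of_forall)

set_option synthInstance.maxSize 2000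
set_option maxRecDepth 10000

/-- The elements of the four-group fixing the last point. -/
def v4l : List (Perm (Fin 5)) :=
  [1, swap 0 1 * swap 2 3, swap 0 2 * swap 1 3, swap 0 3 * swap 1 2]

/-- The four-group fixing the last point. -/
def v4 : Subgroup (Perm (Fin 5)) where
  carrier := {p | p ∈ v4l}
  one_mem' := by decide +kernel
  mul_mem' := fun {a b} ha hb => (by decide +kernel : ∀ a ∈ v4l, ∀ b ∈ v4l, a * b ∈ v4l) a ha b hb
  inv_mem' := fun {a} ha => (by decide +kernel : ∀ a ∈ v4l, a⁻¹ ∈ v4l) a ha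

instance : DecidablePred (· ∈ v4) := fun p => inferInstanceAs (Decidable (p ∈ v4l))

theorem card_v4 : Nat.card v4 = 4 := by
  rw [Nat.card_eq_fintype_card]; decide +kernel

theorem v4_facts : (∀ a ∈ v4l, Perm.sign a = 1 ∧ a * a = 1 ∧ c3 * a * c3⁻¹ ∈ v4l) ∧
    (∀ p : Perm (Fin 5), (∀ a ∈ v4l, p * a = a * p) → p ∈ v4l) ∧
    (∀ p : Perm (Fin 5), p * c3 = c3 * p → p * x5 = x5 * p → p = 1) ∧
    (∀ p : H720, p * zm = zm * p → ∃ i : Fin 3, p.1 = cR ^ (i : ℕ)) ∧
    Perm.sign x5 = 1 ∧ (∀ a ∈ v4l, a * c3 = c3 * a → a = 1) := by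
  refine ⟨by decide +kernel, by decide +kernel, by decide +kernel, by decide +kernel, by decide +kernel,
    by decide +kernel⟩

namespace Cfg

variable {G : Type*} [Group G] [Finite G] (S : Cfg G)

/-- The four-group `V`. -/
def VF : Subgroup G := v4.map S.five

omit [Finite G] in
theorem five_inj : Function.Injective S.five := fun _ _ h => congrArg Prod.snd (S.e_inj h)

omit [Finite G] in
theorem five_comm (τ : Perm (Fin 5)) : Commute (S.five τ) (S.e zm) :=
  S.e_comm_iff.2 (Prod.ext (by simp [zm]) (by simp [zm]))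

omit [Finite G] in
theorem card_VF : Nat.card S.VF = 4 := by
  rw [VF, Subgroup.card_map_of_injective S.five_inj, card_v4]

omit [Finite G] in
/-- An element centralising `z` is a power of `z` times an element of the symmetric group. -/
theorem cent_z_split {g : G} (h : g * S.e zm = S.e zm * g) :
    ∃ (i : Fin 3) (τ : Perm (Fin 5)), g = S.e zm ^ (i : ℕ) * S.five τ := by
  obtain ⟨p, rfl, hp⟩ := S.cent_z h
  obtain ⟨i, hi⟩ := v4_facts.2.2.2.1 p hp
  refine ⟨i, p.2, ?_⟩
  rw [five_apply, ← map_pow, ← map_mul]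
  exact congrArg S.e (Prod.ext (by simp [zm, hi]) (by simp [zm]))

/-- The centraliser of `V`. -/
def RV : Subgroup G := Subgroup.centralizer (S.VF : Set G)

omit [Finite G] in
theorem mem_RV {g : G} : g ∈ S.RV ↔ ∀ a ∈ v4l, g * S.five a = S.five a * g := by
  rw [RV, Subgroup.mem_centralizer_iff]
  exact ⟨fun h a ha => (h _ ⟨a, ha, rfl⟩).symm, by rintro h _ ⟨a, ha, rfl⟩; exact (h a ha).symm⟩

omit [Finite G] in
theorem z_mem_RV : S.e zm ∈ S.RV := S.mem_RV.2 fun a _ => (S.five_comm a).eq.symm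

omit [Finite G] in
theorem VF_le_RV : S.VF ≤ S.RV := by
  rintro _ ⟨a, ha, rfl⟩
  refine S.mem_RV.2 fun b hb => ?_
  rw [← map_mul, ← map_mul, (by decide +kernel : ∀ a ∈ v4l, ∀ b ∈ v4l, a * b = b * a) a ha b hb]

omit [Finite G] in
/-- The centraliser of `z` in the centraliser of `V`. -/
theorem cent_z_RV {g : G} (hg : g ∈ S.RV) (h : g * S.e zm = S.e zm * g) :
    ∃ (i : Fin 3) (a : Perm (Fin 5)), a ∈ v4l ∧ g = S.e zm ^ (i : ℕ) * S.five a := by
  obtain ⟨i, τ, rfl⟩ := S.cent_z_split h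
  refine ⟨i, τ, v4_facts.2.1 τ fun a ha => ?_, rfl⟩
  have h' := S.mem_RV.1 hg a ha
  refine S.five_inj ?_
  rw [map_mul, map_mul]
  refine mul_left_cancel (a := S.e zm ^ (i : ℕ)) ?_
  rw [← mul_assoc, h', ← mul_assoc, ← mul_assoc, ((S.five_comm a).pow_right _).eq]

set_option maxHeartbeats 1600000 in
/-- The centraliser of `V` is `V` times the second alternating group. -/
theorem cent_V_eq (h : S.IsExc)
    (hCN : Subgroup.centralizer ({S.e sm} : Set G) = Subgroup.normalizer (S.DG : Set G))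
    {g : G} (hg : g ∈ S.RV) :
    ∃ (v : Perm (Fin 5)) (a : Perm (Fin 5)), v ∈ v4l ∧ Perm.sign a = 1 ∧
      g = S.five v * S.cw (S.five a) := by
  classical
  haveI : Fact (Nat.Prime 3) := ⟨Nat.prime_three⟩
  have hc2 : ∀ a, Perm.sign a = 1 → S.cw (S.five a) ∈ S.RV := fun a ha =>
    S.mem_RV.2 fun b hb => (S.halves_comm h hCN (v4_facts.1 b hb).1 ha).eq.symm
  have hz3 : S.e zm ^ 3 = 1 := by rw [← map_pow, model_facts.1, map_one]
  have hzV : S.e zm ∉ S.VF := by
    rintro ⟨a, -, ha⟩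
    exact (show zm.1 ≠ (1 : Perm (Fin 3)) by decide +kernel) (congrArg Prod.fst (S.e_inj ha)).symm
  haveI hVn : (S.VF.subgroupOf S.RV).Normal := ⟨fun x hx r => by
    obtain ⟨a, ha, hxa⟩ := Subgroup.mem_subgroupOf.1 hx
    refine Subgroup.mem_subgroupOf.2 ⟨a, ha, ?_⟩
    have h' := S.mem_RV.1 r.2 a ha
    simp only [Subgroup.coe_mul, InvMemClass.coe_inv]
    rw [← hxa, h', mul_inv_cancel_right]⟩
  let zR : S.RV := ⟨S.e zm, S.z_mem_RV⟩
  have hz1 : (QuotientGroup.mk zR : S.RV ⧸ S.VF.subgroupOf S.RV) ≠ 1 := fun e =>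
    hzV (Subgroup.mem_subgroupOf.1 ((QuotientGroup.eq_one_iff zR).1 e))
  have hSC : Cfsg.Lib.Recog.SelfThree.SC (QuotientGroup.mk zR : S.RV ⧸ S.VF.subgroupOf S.RV) := by
    refine ⟨orderOf_eq_prime ?_ hz1, fun q hq => ?_⟩
    · rw [← QuotientGroup.mk_pow, show zR ^ 3 = 1 from Subtype.ext (by rw [Subgroup.coe_pow]; exact hz3),
        QuotientGroup.mk_one]
    obtain ⟨g, rfl⟩ := QuotientGroup.mk_surjective q
    rw [← QuotientGroup.mk_mul, ← QuotientGroup.mk_mul, QuotientGroup.eq] at hq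
    obtain ⟨v, hv, hv'⟩ := Subgroup.mem_subgroupOf.1 hq
    simp only [Subgroup.coe_mul, InvMemClass.coe_inv] at hv'
    have hzv : Commute (S.five v) (S.e zm) := S.five_comm v
    have e : (g : G) * S.e zm = S.e zm * g := by
      have h1 : S.five v = 1 := by
        have hvv : S.five v * S.five v = 1 := by rw [← map_mul, (v4_facts.1 v hv).2.1, map_one]
        have h3 : (S.five v * (S.e zm)) ^ 3 = 1 := by
          have hc := conj_pow (i := 3) (a := (g : G)⁻¹) (b := S.e zm)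
          rw [hz3, inv_inv, mul_one, inv_mul_cancel] at hc
          rw [hzv.eq, hv', show S.e zm * (((g : G) * S.e zm)⁻¹ * (S.e zm * g)) = (g : G)⁻¹ * S.e zm * g by
            have hgz : S.e zm * (S.e zm)⁻¹ = 1 := mul_inv_cancel _
            group]
          exact hc
        rw [hzv.mul_pow, hz3, mul_one, pow_succ, pow_two, hvv, one_mul] at h3
        exact h3
      rw [h1] at hv'
      exact inv_mul_eq_one.1 hv'.symm
    obtain ⟨i, a, ha, hga⟩ := S.cent_z_RV g.2 e
    refine ⟨(i : ℕ), ?_⟩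
    show (QuotientGroup.mk zR : S.RV ⧸ _) ^ ((i : ℕ) : ℤ) = _
    rw [zpow_natCast, ← QuotientGroup.mk_pow, QuotientGroup.eq, Subgroup.mem_subgroupOf]
    refine ⟨a, ha, ?_⟩
    simp only [Subgroup.coe_mul, InvMemClass.coe_inv, Subgroup.coe_pow, zR]
    rw [hga, inv_mul_cancel_left]
  set VR := S.VF.subgroupOf S.RV
  have hV4 : Nat.card VR = 4 := by
    rw [Nat.card_congr (Subgroup.subgroupOfEquivOfLe S.VF_le_RV).toEquiv, S.card_VF]
  let f2 : alternatingGroup (Fin 5) →* S.RV :=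
    ((S.cw.toMonoidHom.comp S.five).comp (alternatingGroup (Fin 5)).subtype).codRestrict S.RV
      fun a => hc2 a.1 a.2
  have hf2c : ∀ hc : c3 ∈ alternatingGroup (Fin 5), f2 ⟨c3, hc⟩ = zR := fun _ =>
    Subtype.ext (S.cw_u)
  have hc3a : c3 ∈ alternatingGroup (Fin 5) := Perm.mem_alternatingGroup.2 (by decide +kernel)
  have h60 : Nat.card (alternatingGroup (Fin 5)) = 60 := by
    rw [Nat.card_eq_fintype_card]; decide +kernel
  haveI : IsSimpleGroup (alternatingGroup (Fin 5)) := alternatingGroup.isSimpleGroup_five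
  -- a homomorphism of the second alternating group is injective or kills `z`
  have key : ∀ {M : Type _} [Group M] (φ : alternatingGroup (Fin 5) →* M),
      φ ⟨c3, hc3a⟩ ≠ 1 → Function.Injective φ := by
    intro M _ φ hφ
    rcases φ.normal_ker.eq_bot_or_eq_top with hk | hk
    · exact (MonoidHom.ker_eq_bot_iff φ).1 hk
    · exact absurd (MonoidHom.mem_ker.1 (hk ▸ Subgroup.mem_top _)) hφ
  let fQ : alternatingGroup (Fin 5) →* S.RV ⧸ VR := (QuotientGroup.mk' VR).comp f2
  have hfQ : Function.Injective fQ := key fQ (by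
    show (QuotientGroup.mk (f2 ⟨c3, hc3a⟩) : S.RV ⧸ VR) ≠ 1
    rw [hf2c]; exact hz1)
  rcases Cfsg.Lib.Recog.SelfThree.struct_of_sc hSC with ⟨N, hN, hN3, hidx⟩ | ⟨E, hE, hE3, -, ⟨φE⟩⟩ | ⟨-, h168⟩
  · exfalso
    haveI := hN
    have hne : QuotientGroup.mk' N (fQ ⟨c3, hc3a⟩) ≠ 1 := by
      intro e
      have e' : (QuotientGroup.mk zR : S.RV ⧸ VR) ∈ N := by
        rw [← hf2c hc3a]; exact (QuotientGroup.eq_one_iff _).1 e
      exact hN3 (hSC.1 ▸ Subgroup.orderOf_dvd_natCard N e')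
    have h6 := Nat.card_le_card_of_injective _ (key ((QuotientGroup.mk' N).comp fQ) hne)
    rw [h60, ← Subgroup.index_eq_card] at h6
    omega
  swap
  · exfalso
    have hd := Subgroup.card_dvd_of_injective fQ hfQ
    rw [h60, h168] at hd
    omega
  haveI := hE
  let χ : S.RV →* alternatingGroup (Fin 5) := φE.toMonoidHom.comp
    ((QuotientGroup.mk' E).comp (QuotientGroup.mk' VR))
  have hχ : Function.Surjective χ :=
    φE.surjective.comp ((QuotientGroup.mk'_surjective E).comp (QuotientGroup.mk'_surjective VR))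
  have hχk : χ.ker = E.comap (QuotientGroup.mk' VR) := by
    ext x
    show φE _ = 1 ↔ _
    rw [map_eq_one_iff _ φE.injective]
    exact QuotientGroup.eq_one_iff _
  set E0 := χ.ker with hE0
  have hR : Nat.card S.RV = 4 * (60 * Nat.card E) := by
    rw [Subgroup.card_eq_card_quotient_mul_card_subgroup VR, hV4,
      Subgroup.card_eq_card_quotient_mul_card_subgroup E, Nat.card_congr φE.toEquiv, h60]
    ring
  have hE0card : Nat.card E0 = 4 * Nat.card E := by
    have h1 := Subgroup.index_mul_card E0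
    rw [hE0, Subgroup.index_ker, MonoidHom.range_eq_top.2 hχ, Subgroup.card_top, h60, hR] at h1
    rw [hE0]; linarith
  have h3' : ¬ 3 ∣ Nat.card E0 := by
    rw [hE0card]; exact fun h => hE3 ((Nat.Coprime.dvd_mul_left (by norm_num)).1 h)
  -- the largest normal subgroup of order prime to three
  have hmax : ∀ N : Subgroup S.RV, N.Normal → ¬ 3 ∣ Nat.card N → N ≤ E0 := by
    intro N hN hN3
    have hNn : (N.map χ).Normal := hN.map χ hχ
    rcases hNn.eq_bot_or_eq_top with e | e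
    · intro x hx
      exact MonoidHom.mem_ker.2 (Subgroup.mem_bot.1 (e ▸ Subgroup.mem_map_of_mem χ hx))
    · exfalso
      have hd := Subgroup.card_map_dvd (f := χ) (H := N)
      rw [e, Subgroup.card_top, h60] at hd
      exact hN3 ((show 3 ∣ 60 by norm_num).trans hd)
  set EG : Subgroup G := E0.map S.RV.subtype with hEG
  have hEGcard : Nat.card EG = Nat.card E0 :=
    Subgroup.card_map_of_injective (Subgroup.subtype_injective _)
  have hEmem : ∀ x : S.RV, (x : G) ∈ EG ↔ x ∈ E0 := fun x =>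
    ⟨fun ⟨y, hy, e⟩ => by rwa [← Subtype.ext (e : (y : G) = x)], fun h => ⟨x, h, rfl⟩⟩
  have hEle : EG ≤ S.RV := Subgroup.map_subtype_le E0
  have hEconj : ∀ r ∈ S.RV, ∀ x ∈ EG, r * x * r⁻¹ ∈ EG := by
    intro r hr x hx
    exact (hEmem (⟨r, hr⟩ * ⟨x, hEle hx⟩ * ⟨r, hr⟩⁻¹)).2
      ((MonoidHom.normal_ker χ).conj_mem _ ((hEmem ⟨x, hEle hx⟩).1 hx) _)
  have hno3 : ∀ x ∈ EG, x ^ 3 = 1 → x = 1 := by
    intro x hx h3
    by_contra hx1
    refine h3' (hEGcard ▸ ?_)
    rw [← orderOf_eq_prime h3 hx1]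
    exact Subgroup.orderOf_dvd_natCard EG hx
  -- `D` normalises that subgroup
  have hd3 : ∀ q ∈ d9, S.e q ^ 3 = 1 := fun q hq => by
    rw [← map_pow, (by decide +kernel : ∀ q ∈ d9, q ^ 3 = 1) q hq, map_one]
  have hDR : ∀ q ∈ d9, ∀ x ∈ S.RV, S.e q * x * (S.e q)⁻¹ ∈ S.RV := by
    intro q hq x hx
    refine S.mem_RV.2 fun a ha => ?_
    have hb : ∀ q ∈ d9, ∀ a ∈ v4l, ∃ b ∈ v4l, q * (1, b) * q⁻¹ = (1, a) := by decide +kernel
    obtain ⟨b, hb, hba⟩ := hb q hq a ha
    have h' := S.mem_RV.1 hx b hb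
    rw [five_apply, ← hba, map_mul, map_mul, map_inv, ← five_apply]
    calc S.e q * x * (S.e q)⁻¹ * (S.e q * S.five b * (S.e q)⁻¹) = S.e q * (x * S.five b) * (S.e q)⁻¹ := by group
      _ = _ := by rw [h']; group
  have hDE : ∀ q ∈ d9, ∀ x ∈ EG, S.e q * x * (S.e q)⁻¹ ∈ EG := by
    intro q hq x hx
    set N' : Subgroup G := EG.map (MulAut.conj (S.e q)).toMonoidHom with hN'
    have hN'le : N' ≤ S.RV := by
      rintro _ ⟨y, hy, rfl⟩; exact hDR q hq y (hEle hy)
    have hn : (N'.subgroupOf S.RV).Normal := ⟨fun y hy r => by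
      obtain ⟨y0, hy0, e⟩ := Subgroup.mem_subgroupOf.1 hy
      refine Subgroup.mem_subgroupOf.2 ⟨((S.e q)⁻¹ * r * S.e q) * y0 * ((S.e q)⁻¹ * r * S.e q)⁻¹, ?_, ?_⟩
      · refine hEconj _ ?_ y0 hy0
        have := hDR q⁻¹ ((by decide +kernel : ∀ q ∈ d9, q⁻¹ ∈ d9) q hq) r r.2
        rwa [map_inv, inv_inv] at this
      · simp only [Subgroup.coe_mul, InvMemClass.coe_inv, MulEquiv.toMonoidHom_eq_coe, MonoidHom.coe_coe,
          MulAut.conj_apply] at e ⊢
        rw [← e]; group⟩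
    have h3N : ¬ 3 ∣ Nat.card (N'.subgroupOf S.RV) := by
      rw [Nat.card_congr (Subgroup.subgroupOfEquivOfLe hN'le).toEquiv,
        Subgroup.card_map_of_injective (MulAut.conj (S.e q)).injective, hEGcard]
      exact h3'
    have hm : S.e q * x * (S.e q)⁻¹ ∈ N' := ⟨x, hx, rfl⟩
    exact (hEmem ⟨_, hN'le hm⟩).2 (hmax _ hn h3N (Subgroup.mem_subgroupOf.2 hm))
  -- the fixed points of `z` and `u`
  have hcz : ∀ x ∈ EG, x * S.e zm = S.e zm * x → x ∈ S.VF := by
    intro x hx hxz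
    obtain ⟨i, a, ha, rfl⟩ := S.cent_z_RV (hEle hx) hxz
    have hV : S.five a ∈ EG := by
      refine (hEmem ⟨_, S.VF_le_RV ⟨a, ha, rfl⟩⟩).2 (MonoidHom.mem_ker.2 ?_)
      show φE (QuotientGroup.mk' E (QuotientGroup.mk' VR ⟨S.five a, S.VF_le_RV ⟨a, ha, rfl⟩⟩)) = 1
      rw [show QuotientGroup.mk' VR ⟨S.five a, S.VF_le_RV ⟨a, ha, rfl⟩⟩ = 1 from
        (QuotientGroup.eq_one_iff _).2 (Subgroup.mem_subgroupOf.2 ⟨a, ha, rfl⟩), map_one, map_one]
    have h0 : S.e zm ^ (i : ℕ) = 1 := by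
      refine hno3 _ ?_ (by rw [← pow_mul, mul_comm, pow_mul, hz3, one_pow])
      have := EG.mul_mem hx (EG.inv_mem hV)
      rwa [mul_inv_cancel_right] at this
    rw [h0, one_mul]; exact ⟨a, ha, rfl⟩
  have hcu : ∀ x ∈ EG, x * S.e um = S.e um * x → x = 1 := by
    intro x hx hxu
    obtain ⟨i, τ, hτ⟩ := S.cent_z_split (g := S.cw x)
      (by rw [← S.cw_u, ← map_mul, ← map_mul, hxu])
    have hx' : x = S.e um ^ (i : ℕ) * S.cw (S.five τ) := by
      rw [← S.cw_cw x, hτ, map_mul, map_pow, S.cw_z]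
    have hcomm : ∀ a : Perm (Fin 5), Perm.sign a = 1 → a * τ * a⁻¹ * τ⁻¹ = 1 := by
      intro a ha
      let Y : Subgroup (alternatingGroup (Fin 5)) :=
        EG.comap ((S.cw.toMonoidHom.comp S.five).comp (alternatingGroup (Fin 5)).subtype)
      have hY : Y.Normal := ⟨fun y hy r => by
        show S.cw (S.five (r.1 * y.1 * r.1⁻¹)) ∈ EG
        rw [map_mul, map_mul, map_mul, map_mul, map_inv, map_inv]
        exact hEconj _ (hc2 r.1 r.2) _ hy⟩
      have hsign : Perm.sign (a * τ * a⁻¹ * τ⁻¹) = 1 := by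
        simp only [Perm.sign_mul, Perm.sign_inv, ha, one_mul, mul_one, Int.units_mul_self]
      have hmem : S.cw (S.five (a * τ * a⁻¹ * τ⁻¹)) ∈ EG := by
        have := EG.mul_mem (hEconj _ (hc2 a ha) x hx) (EG.inv_mem hx)
        convert this using 1
        have hcu : Commute (S.cw (S.five a)) (S.e um ^ (i : ℕ)) := by
          rw [← S.cw_z, ← map_pow]; exact ((S.five_comm a).pow_right _).map S.cw
        simp only [map_mul, map_inv, hx', mul_inv_rev]
        rw [← mul_assoc (S.cw (S.five a)), hcu.eq]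
        have hcu' : Commute (S.cw (S.five a) * S.cw (S.five τ) * (S.cw (S.five a))⁻¹ * (S.cw (S.five τ))⁻¹)
            (S.e um ^ (i : ℕ)) := by
          rw [← map_inv, ← map_inv, ← map_mul, ← map_mul, ← map_mul, ← map_inv, ← map_inv, ← map_mul,
            ← map_mul, ← map_mul, ← S.cw_z, ← map_pow]
          exact ((S.five_comm _).pow_right _).map S.cw
        calc S.cw (S.five a) * S.cw (S.five τ) * (S.cw (S.five a))⁻¹ * (S.cw (S.five τ))⁻¹
            = S.e um ^ (i : ℕ) * (S.cw (S.five a) * S.cw (S.five τ) * (S.cw (S.five a))⁻¹ * (S.cw (S.five τ))⁻¹) *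
                (S.e um ^ (i : ℕ))⁻¹ := by rw [← hcu'.eq, mul_inv_cancel_right]
          _ = _ := by group
      rcases hY.eq_bot_or_eq_top with e | e
      · have h' : (⟨_, Perm.mem_alternatingGroup.2 hsign⟩ : alternatingGroup (Fin 5)) ∈ Y := hmem
        rw [e, Subgroup.mem_bot] at h'
        exact congrArg Subtype.val h'
      · exfalso
        have h' : (⟨c3, hc3a⟩ : alternatingGroup (Fin 5)) ∈ Y := e ▸ Subgroup.mem_top _
        have h'' : S.cw (S.e um) ∈ EG := h'
        rw [S.cw_u] at h''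
        exact absurd (S.e_inj ((hno3 _ h'' hz3).trans (map_one S.e).symm)) (by decide +kernel)
    have hτ1 : τ = 1 := v4_facts.2.2.1 τ
      (mul_inv_eq_iff_eq_mul.1 (mul_inv_eq_one.1 (hcomm c3 (by decide +kernel)))).symm
      (mul_inv_eq_iff_eq_mul.1 (mul_inv_eq_one.1 (hcomm x5 v4_facts.2.2.2.2.1))).symm
    rw [hτ1, map_one, map_one, mul_one] at hx'
    refine hno3 x hx ?_
    rw [hx', ← pow_mul, mul_comm, pow_mul, ← map_pow, model_facts.2.1, map_one, one_pow]
  -- generation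
  have hEV : EG ≤ S.VF := by
    have hDcomm : IsMulCommutative S.DG := ⟨⟨fun a b => by
      obtain ⟨qa, hqa, ha⟩ := S.mem_DG.1 a.2
      obtain ⟨qb, hqb, hb⟩ := S.mem_DG.1 b.2
      refine Subtype.ext ?_
      show (a : G) * b = b * a
      rw [← ha, ← hb, S.e_comm_iff]
      exact (by decide +kernel : ∀ a ∈ d9, ∀ b ∈ d9, a * b = b * a) qa hqa qb hqb⟩⟩
    have hnc : ¬ IsCyclic S.DG := by
      intro hcy
      obtain ⟨g, hg⟩ := IsCyclic.exists_ofOrder_eq_natCard (α := S.DG)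
      rw [S.card_DG] at hg
      obtain ⟨q, hq, hgq⟩ := S.mem_DG.1 g.2
      have h3 : g ^ 3 = 1 := Subtype.ext (by rw [Subgroup.coe_pow, ← hgq]; exact hd3 q hq)
      have hle := orderOf_le_of_pow_eq_one (by norm_num) h3
      omega
    have hcop : (Nat.card S.DG).Coprime (Nat.card EG) := by
      rw [S.card_DG, hEGcard, show 9 = 3 ^ 2 by norm_num]
      exact ((Nat.Prime.coprime_iff_not_dvd Nat.prime_three).2 h3').pow_left 2
    have hDN : S.DG ≤ Subgroup.normalizer (EG : Set G) := by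
      rintro _ ⟨q, hq, rfl⟩
      exact mem_normalizer_of_forall (hDE q hq)
    refine (Cfsg.Lib.Coprime.le_iSup_centralizer_of_not_isCyclic hnc hDN hcop).trans (iSup_le ?_)
    rintro ⟨d, hd, hd1⟩ x ⟨hx, hxd⟩
    obtain ⟨q, hq, rfl⟩ := S.mem_DG.1 hd
    have hxq : x * S.e q = S.e q * x := mem_cent_singleton.1 hxd
    have hq1 : q ≠ 1 := fun e => hd1 (by rw [e, map_one])
    rcases mixed_norm q hq with h' | h' | ⟨k, -, rfl, -, hk⟩
    · refine hcz x hx ?_
      rcases (line_gen q hq hq1).1 h' with e | e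
      · rw [← e]; exact hxq
      · rw [← e, map_mul]; exact (Commute.mul_right hxq hxq).eq
    · refine (hcu x hx ?_) ▸ one_mem _
      rcases (line_gen q hq hq1).2 h' with e | e
      · rw [← e]; exact hxq
      · rw [← e, map_mul]; exact (Commute.mul_right hxq hxq).eq
    · have hkN : S.e k ∈ Subgroup.normalizer (S.DG : Set G) :=
        mem_normalizer_of_forall (S.DG_norm_e fun p hp => (hk p hp).1)
      have h2 : ((S.e k)⁻¹ * x * S.e k) * S.e (zm * um) = S.e (zm * um) * ((S.e k)⁻¹ * x * S.e k) := by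
        rw [map_mul _ (k * (zm * um)), map_mul _ k, map_inv] at hxq
        calc _ = (S.e k)⁻¹ * (x * (S.e k * S.e (zm * um) * (S.e k)⁻¹)) * S.e k := by group
          _ = _ := by rw [hxq]; group
      obtain ⟨d', hd', k', hk', h3⟩ := S.cent_y h2
      have hd'k : S.e (d' * k') ∈ Subgroup.normalizer (S.DG : Set G) :=
        mem_normalizer_of_forall (S.DG_norm_e fun p hp =>
          (by decide +kernel : ∀ d ∈ d9, ∀ k ∈ [1, sm], ∀ p ∈ d9, (d * k) * p * (d * k)⁻¹ ∈ d9)
            d' hd' k' hk' p hp)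
      have hmem : (S.e k)⁻¹ * x * S.e k ∈ Subgroup.normalizer (S.DG : Set G) := by
        rcases h3 with h3 | h3 <;> rw [h3]
        · exact hd'k
        · exact mul_mem S.w_mem_ND hd'k
      have hxN : x ∈ Subgroup.normalizer (S.DG : Set G) := by
        have := mul_mem (mul_mem hkN hmem) (inv_mem hkN)
        rwa [show S.e k * ((S.e k)⁻¹ * x * S.e k) * (S.e k)⁻¹ = x by group] at this
      refine hcz x hx ?_
      have hzD : S.e zm ∈ S.DG := ⟨zm, mem_D9.2 (by decide +kernel), rfl⟩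
      have h5 : x * S.e zm * x⁻¹ * (S.e zm)⁻¹ ∈ EG := by
        rw [show x * S.e zm * x⁻¹ * (S.e zm)⁻¹ = x * (S.e zm * x⁻¹ * (S.e zm)⁻¹) by group]
        exact EG.mul_mem hx (hDE zm (by decide +kernel) _ (EG.inv_mem hx))
      obtain ⟨q', hq', e'⟩ := S.mem_DG.1
        (S.DG.mul_mem (conj_mem_normalizer hxN hzD) (S.DG.inv_mem hzD))
      have h6 : x * S.e zm * x⁻¹ * (S.e zm)⁻¹ = 1 := hno3 _ h5 (by rw [← e']; exact hd3 q' hq')
      exact mul_inv_eq_iff_eq_mul.1 (mul_inv_eq_one.1 h6)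
  have hE1 : Nat.card E = 1 := by
    have hle := Subgroup.card_le_of_le hEV
    rw [hEGcard, hE0card, S.card_VF] at hle
    have hpos : 0 < Nat.card E := Nat.card_pos
    omega
  -- counting
  let f : v4 × alternatingGroup (Fin 5) →* G :=
    (S.five.comp v4.subtype).noncommCoprod ((S.cw.toMonoidHom.comp S.five).comp (alternatingGroup (Fin 5)).subtype)
      fun a b => S.halves_comm h hCN (v4_facts.1 a.1 a.2).1 b.2
  have hfle : ∀ p, f p ∈ S.RV := fun p => S.RV.mul_mem (S.VF_le_RV ⟨p.1.1, p.1.2, rfl⟩) (hc2 _ p.2.2)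
  have hfinj : Function.Injective f := by
    rw [injective_iff_map_eq_one]
    rintro ⟨⟨a, ha⟩, b⟩ hp
    change S.five a * S.cw (S.five b.1) = 1 at hp
    have hb : b = 1 := by
      have hab : fQ b = 1 := (QuotientGroup.eq_one_iff _).2 (Subgroup.mem_subgroupOf.2
        ⟨a⁻¹, v4.inv_mem ha, by rw [map_inv]; exact inv_eq_of_mul_eq_one_right hp⟩)
      exact hfQ (hab.trans (map_one _).symm)
    subst hb
    rw [OneMemClass.coe_one, map_one, map_one, mul_one] at hp
    have : a = 1 := S.five_inj (hp.trans (map_one _).symm)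
    subst this
    rfl
  have hbij : Function.Bijective (fun p => (⟨f p, hfle p⟩ : S.RV)) := by
    refine Function.Injective.bijective_of_nat_card_le (fun a b e => hfinj (congrArg Subtype.val e)) ?_
    rw [hR, hE1, Nat.card_prod, card_v4, h60]
  obtain ⟨⟨⟨v, hv⟩, a⟩, hp⟩ := hbij.2 ⟨g, hg⟩
  exact ⟨v, a.1, hv, a.2, (congrArg Subtype.val hp).symm⟩

/-- The four-group `V` times its image under `w` is self-centralising. -/
theorem cent_A (h : S.IsExc)
    (hCN : Subgroup.centralizer ({S.e sm} : Set G) = Subgroup.normalizer (S.DG : Set G))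
    {g : G} (hg : g ∈ S.RV) (hg' : S.cw g ∈ S.RV) :
    ∃ v a : Perm (Fin 5), v ∈ v4l ∧ a ∈ v4l ∧ g = S.five v * S.cw (S.five a) := by
  obtain ⟨v, a, hv, ha, rfl⟩ := S.cent_V_eq h hCN hg
  refine ⟨v, a, hv, v4_facts.2.1 a fun b hb => S.five_inj ?_, rfl⟩
  have h' := S.mem_RV.1 hg' b hb
  rw [map_mul, S.cw_cw] at h'
  have hvb : Commute (S.cw (S.five v)) (S.five b) :=
    (S.halves_comm h hCN (v4_facts.1 b hb).1 (v4_facts.1 v hv).1).symm
  rw [map_mul, map_mul]
  refine mul_left_cancel (a := S.cw (S.five v)) ?_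
  rw [← mul_assoc, h', ← mul_assoc, ← mul_assoc, hvb.eq]

end Cfg

end Cfsg.Lib.SymEightThree
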