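import Cfsg.Agent.Lib.AltEightThree.Setup

set_option autoImplicit false

/-!
The sign of an involution acting on the cosets of a subgroup.
-/

namespace Cfsg.Lib.SymEightThree.Count

open Cfsg.Lib.AltEightThree (mem_cent_singleton)

variable {G : Type*} [Group G] [Finite G]

/-- The cosets fixed by `u`. -/
def Fix (H : Subgroup G) (u : G) : Set (G ⧸ H) := {q | u • q = q}

omit [Finite G] in
theorem mem_preimage {H : Subgroup G} {u g : G} :
    g ∈ QuotientGroup.mk ⁻¹' (Fix H u) ↔ g⁻¹ * u * g ∈ H := by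
  show u • (g : G ⧸ H) = g ↔ _
  rw [eq_comm]
  show (g : G ⧸ H) = ((u * g : G) : G ⧸ H) ↔ _
  rw [QuotientGroup.eq, mul_assoc]

/-- The number of fixed cosets. -/
theorem fix_card (H : Subgroup G) (u : G) :
    Nat.card (Fix H u) * Nat.card H =
      Nat.card (Subgroup.centralizer ({u} : Set G)) * Nat.card {h : H // IsConj u (h : G)} := by
  classical
  have hc : ∀ h : {h : H // IsConj u (h : G)}, ∃ g : G, g⁻¹ * u * g = (h : H) := fun h => by
    obtain ⟨g, hg⟩ := isConj_iff.1 h.2
    exact ⟨g⁻¹, by rw [inv_inv, hg]⟩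
  choose f hf using hc
  let F : Subgroup.centralizer ({u} : Set G) × {h : H // IsConj u (h : G)} →
      QuotientGroup.mk ⁻¹' (Fix H u) := fun p => ⟨(p.1 : G) * f p.2, mem_preimage.2 (by
    have h1 : (p.1 : G)⁻¹ * u * p.1 = u := by
      rw [mul_assoc, ← mem_cent_singleton.1 p.1.2, inv_mul_cancel_left]
    rw [show ((p.1 : G) * f p.2)⁻¹ * u * ((p.1 : G) * f p.2) =
        (f p.2)⁻¹ * ((p.1 : G)⁻¹ * u * p.1) * f p.2 by group, h1, hf]
    exact (p.2 : H).2)⟩
  have hF : Function.Bijective F := by
    refine ⟨fun p q h => ?_, fun g => ?_⟩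
    · have h' : (p.1 : G) * f p.2 = (q.1 : G) * f q.2 := congrArg Subtype.val h
      have e : p.2 = q.2 := by
        refine Subtype.ext (Subtype.ext ?_)
        have key : ∀ r : Subgroup.centralizer ({u} : Set G) × {h : H // IsConj u (h : G)},
            ((r.1 : G) * f r.2)⁻¹ * u * ((r.1 : G) * f r.2) = (r.2 : H) := fun r => by
          have h1 : (r.1 : G)⁻¹ * u * r.1 = u := by
            rw [mul_assoc, ← mem_cent_singleton.1 r.1.2, inv_mul_cancel_left]
          calc ((r.1 : G) * f r.2)⁻¹ * u * ((r.1 : G) * f r.2)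
              = (f r.2)⁻¹ * ((r.1 : G)⁻¹ * u * r.1) * f r.2 := by group
            _ = (r.2 : H) := by rw [h1, hf]
        rw [← key p, ← key q, h']
      rw [e] at h'
      exact Prod.ext (Subtype.ext (mul_right_cancel h')) e
    · have hg := mem_preimage.1 g.2
      set h : {h : H // IsConj u (h : G)} :=
        ⟨⟨_, hg⟩, isConj_iff.2 ⟨(g : G)⁻¹, by group⟩⟩ with hh
      have hfh : (f h)⁻¹ * u * f h = (g : G)⁻¹ * u * g := hf h
      refine ⟨(⟨(g : G) * (f h)⁻¹, mem_cent_singleton.2 ?_⟩, h),
        Subtype.ext (inv_mul_cancel_right _ _)⟩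
      calc (g : G) * (f h)⁻¹ * u = (g : G) * ((f h)⁻¹ * u * f h) * (f h)⁻¹ := by group
        _ = u * ((g : G) * (f h)⁻¹) := by rw [hfh]; group
  rw [← Nat.card_prod, ← Nat.card_prod (Subgroup.centralizer ({u} : Set G)), Nat.card_eq_of_bijective F hF,
    Nat.card_congr (QuotientGroup.preimageMkEquivSubgroupProdSet H (Fix H u)), Nat.card_prod,
    Nat.card_prod, mul_comm]

/-- The permutation of the cosets induced by `u`. -/
noncomputable def signHom (H : Subgroup G) : G →* ℤˣ :=
  letI := Classical.decEq (G ⧸ H)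
  letI := Fintype.ofFinite (G ⧸ H)
  Equiv.Perm.sign.comp (MulAction.toPermHom G (G ⧸ H))

/-- Parity of the number of fixed cosets. -/
theorem index_modEq (H : Subgroup G) {u : G} (hu : u * u = 1) :
    H.index % 2 = Nat.card (Fix H u) % 2 := by
  haveI : Fact (Nat.Prime 2) := ⟨Nat.prime_two⟩
  have hP : IsPGroup 2 (Subgroup.zpowers u) := by
    rintro ⟨x, k, rfl⟩
    refine ⟨1, Subtype.ext ?_⟩
    show (u ^ k) ^ (2 ^ 1) = 1
    rw [pow_one, ← zpow_natCast, ← zpow_mul, mul_comm, zpow_mul, zpow_natCast, pow_two, hu, one_zpow]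
  have h := hP.card_modEq_card_fixedPoints (G ⧸ H)
  have e : MulAction.fixedPoints (Subgroup.zpowers u) (G ⧸ H) = Fix H u := by
    ext q
    constructor
    · intro hq; exact hq ⟨u, Subgroup.mem_zpowers u⟩
    · intro hq x
      obtain ⟨x, hx⟩ := x
      have hle : Subgroup.zpowers u ≤ MulAction.stabilizer G q :=
        (Subgroup.zpowers_le).2 (show u ∈ MulAction.stabilizer G q from hq)
      exact hle hx
  rw [e] at h
  exact h

/-- An involution acting as an odd permutation gives a subgroup of index two. -/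
theorem index_two (H : Subgroup G) {u : G} (hu : u * u = 1) {f : ℕ}
    (hf : Nat.card (Subgroup.centralizer ({u} : Set G)) * Nat.card {h : H // IsConj u (h : G)} =
      f * Nat.card H)
    (h4 : (H.index + f) % 4 = 2) (heven : f % 2 = 0) :
    ∃ K : Subgroup G, K.Normal ∧ K.index = 2 ∧ u ∉ K := by
  classical
  letI := Classical.decEq (G ⧸ H)
  letI := Fintype.ofFinite (G ⧸ H)
  have hcardH : 0 < Nat.card H := Nat.card_pos
  have hfix : Nat.card (Fix H u) = f := Nat.eq_of_mul_eq_mul_right hcardH (by rw [fix_card, hf])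
  have hle : f ≤ H.index := by
    rw [← hfix, Subgroup.index_eq_card]
    exact Nat.card_le_card_of_injective _ Subtype.val_injective
  set σ := MulAction.toPermHom G (G ⧸ H) u with hσ
  have hσ2 : σ ^ 2 = 1 := by rw [hσ, ← map_pow, pow_two, hu, map_one]
  have hfp : Fintype.card (Function.fixedPoints σ) = f := by
    rw [← hfix, ← Nat.card_eq_fintype_card]
    rfl
  have hs : signHom H u = -1 := by
    simp only [signHom, MonoidHom.comp_apply]
    have : Odd ((H.index - f) / 2) := by rw [Nat.odd_iff]; omega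
    rw [← hσ, Equiv.Perm.sign_of_pow_two_eq_one hσ2, hfp, ← Nat.card_eq_fintype_card,
      ← Subgroup.index_eq_card, this.neg_one_pow]
  refine ⟨(signHom H).ker, inferInstance, ?_, fun h => ?_⟩
  · rw [Subgroup.index_ker]
    have : Function.Surjective (signHom H) := fun z => by
      rcases Int.units_eq_one_or z with rfl | rfl
      · exact ⟨1, map_one _⟩
      · exact ⟨u, hs⟩
    rw [MonoidHom.range_eq_top.2 this, Subgroup.card_top, Nat.card_eq_fintype_card]
    rfl
  · rw [MonoidHom.mem_ker.1 h] at hs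
    exact absurd hs (by decide)

end Cfsg.Lib.SymEightThree.Count
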