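import Cfsg.Agent.Lib.SymEightThree.Basic
import Cfsg.Agent.Lib.SymEightThree.Count
import Mathlib.GroupTheory.SpecificGroups.Dihedral
import Mathlib.GroupTheory.NoncommCoprod

set_option autoImplicit false

/-!
Classes of involutions in the normaliser of `z`, and the two-groups around `s`.
-/

namespace Cfsg.Lib.SymEightThree

open Equiv
open Cfsg.Lib.AltEightThree (t34)

set_option synthInstance.maxSize 2000

/-- The model of `σ r s`. -/
def em : H720 := gm * am

/-- An invariant of the classes of involutions. -/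
def sig (p : H720) : Bool × ℕ := (decide (p.1 = 1), ((List.finRange 5).filter fun i => p.2 i = i).length)

/-- Representatives of the classes of involutions. -/
def reps : List H720 := [sm, am, gm, gm * sm, em]

/-- The involutions in the classes of the listed representatives. -/
def InCls (L : List H720) (p : H720) : Prop := p * p = 1 ∧ ∃ x ∈ L, sig p = sig x

instance (L : List H720) : DecidablePred (InCls L) := fun p =>
  inferInstanceAs (Decidable (p * p = 1 ∧ ∃ x ∈ L, sig p = sig x))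

theorem class_rep : ∀ p : H720, p * p = 1 → p ≠ 1 →
    ∃ x ∈ reps, sig p = sig x ∧ ∃ k : H720, k * x * k⁻¹ = p := by
  decide +kernel

theorem reps_sig : (∀ x ∈ reps, x * x = 1 ∧ x ≠ 1) ∧ sig 1 ∉ reps.map sig ∧
    ∀ x ∈ reps, ∀ y ∈ reps, sig x = sig y → x = y := by
  decide +kernel

theorem count_eight : Nat.card {p : H720 // InCls [sm, gm] p} = 13 ∧
    Nat.card {p : H720 // InCls [sm, gm, em] p} = 58 := by
  rw [Nat.card_eq_fintype_card, Nat.card_eq_fintype_card]; decide +kernel

theorem count_exc : Nat.card {p : H720 // InCls [sm, gm * sm] p} = 40 ∧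
    Nat.card {p : H720 // InCls [sm, gm * sm, em] p} = 85 := by
  rw [Nat.card_eq_fintype_card, Nat.card_eq_fintype_card]; decide +kernel

/-- A homomorphism from the dihedral group of order eight. -/
def dih {G : Type*} [Group G] (t w : G) (ht : t ^ 4 = 1) (hw : w * w = 1) (htw : w * t * w = t⁻¹) :
    DihedralGroup 4 →* G :=
  MonoidHom.mk' (fun x => match x with
    | .r i => t ^ i.val
    | .sr i => w * t ^ i.val) (by
    have hadd : ∀ i j : ZMod 4, t ^ (i + j).val = t ^ i.val * t ^ j.val := fun i j => by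
      rw [← pow_add, ZMod.val_add, ← pow_eq_pow_mod _ ht]
    have hneg : ∀ i : ZMod 4, t ^ (-i).val = (t ^ i.val)⁻¹ := fun i => by
      refine (inv_eq_of_mul_eq_one_left ?_).symm
      rw [← hadd, neg_add_cancel, ZMod.val_zero, pow_zero]
    have hwi : ∀ i : ZMod 4, t ^ i.val * w = w * t ^ (-i).val := fun i => by
      have hw' : w⁻¹ = w := inv_eq_of_mul_eq_one_right hw
      have hc : w * t ^ i.val * w = t⁻¹ ^ i.val := by
        have := conj_pow (i := i.val) (a := w) (b := t)
        rw [hw', htw] at this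
        exact this.symm
      rw [hneg, ← inv_pow, ← hc, ← mul_assoc, ← mul_assoc, hw, one_mul]
    intro a b
    rcases a with i | i <;> rcases b with j | j <;>
      simp only [DihedralGroup.r_mul_r, DihedralGroup.r_mul_sr, DihedralGroup.sr_mul_r,
        DihedralGroup.sr_mul_sr]
    · exact hadd i j
    · rw [← mul_assoc, hwi, mul_assoc, ← hadd, sub_eq_neg_add]
    · rw [hadd, mul_assoc]
    · rw [mul_assoc w, ← mul_assoc (t ^ i.val), hwi, ← mul_assoc, ← mul_assoc, hw, one_mul, ← hadd,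
        sub_eq_neg_add])

theorem dih_comm {G : Type*} [Group G] {a t w : G} (ht : t ^ 4 = 1) (hw : w * w = 1)
    (htw : w * t * w = t⁻¹) (h1 : Commute a t) (h2 : Commute a w) :
    ∀ x, Commute a (dih t w ht hw htw x) := by
  rintro (i | i)
  · exact h1.pow_right _
  · exact h2.mul_right (h1.pow_right _)

/-- A homomorphism from the group of order two. -/
def two {G : Type*} [Group G] (a : G) (ha : a * a = 1) : Multiplicative (ZMod 2) →* G :=
  MonoidHom.mk' (fun i => a ^ (Multiplicative.toAdd i).val) (fun i j => by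
    rw [← pow_add, toAdd_mul, ZMod.val_add, ← pow_eq_pow_mod _ (show a ^ 2 = 1 by rw [pow_two, ha])])

theorem two_comm {G : Type*} [Group G] {a b : G} (ha : a * a = 1) (h : Commute a b) :
    ∀ i, Commute (two a ha i) b := fun _ => h.pow_left _

/-- The model of the Sylow 2-subgroup of order sixteen. -/
abbrev M16 := Multiplicative (ZMod 2) × DihedralGroup 4

/-- The model of the 2-subgroup of order thirty-two. -/
abbrev M32 := Multiplicative (ZMod 2) × M16

section Counting

variable {G : Type*} [Group G] [Finite G] {M : Type*} [Group M] [Finite M]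

open Cfsg.Lib.AltEightThree (mem_cent_singleton)

/-- The parity of the index of a 2-group from the conjugates of `u` in its centre. -/
theorem parity_two (φ : M →* G) (hφ : Function.Injective φ) (hM : IsPGroup 2 M) {u : G}
    (hu : u * u = 1) (L : Finset M)
    (hL : ∀ p, p ∈ L ↔ (∀ q, p * q = q * p) ∧ IsConj u (φ p)) {m : ℕ} (hm : m % 2 = 1)
    (hC : Nat.card (Subgroup.centralizer ({u} : Set G)) = m * Nat.card M) :
    φ.range.index % 2 = L.card % 2 := by
  haveI : Fact (Nat.Prime 2) := ⟨Nat.prime_two⟩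
  have hR : Nat.card φ.range = Nat.card M := (Nat.card_congr (MonoidHom.ofInjective hφ).toEquiv).symm
  have hkc : Nat.card {h : φ.range // IsConj u (h : G)} = Nat.card {p : M // IsConj u (φ p)} :=
    (Nat.card_congr ((MonoidHom.ofInjective hφ).toEquiv.subtypeEquiv fun _ => Iff.rfl)).symm
  have hfix := Count.fix_card φ.range u
  rw [hR, hkc, hC, mul_assoc, mul_comm (Nat.card M), ← mul_assoc] at hfix
  rw [Count.index_modEq φ.range hu, Nat.eq_of_mul_eq_mul_right Nat.card_pos hfix, Nat.mul_mod, hm, one_mul,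
    Nat.mod_mod]
  letI : MulAction M {p : M // IsConj u (φ p)} :=
    { smul := fun g p => ⟨g * p.1 * g⁻¹, p.2.trans (isConj_iff.2 ⟨φ g, by simp⟩)⟩
      one_smul := fun p => Subtype.ext (show (1 : M) * p.1 * 1⁻¹ = p.1 by group)
      mul_smul := fun g h p => Subtype.ext
        (show g * h * p.1 * (g * h)⁻¹ = g * (h * p.1 * h⁻¹) * g⁻¹ by group) }
  have h := hM.card_modEq_card_fixedPoints {p : M // IsConj u (φ p)}
  refine Eq.trans h (congrArg (· % 2) ?_)
  rw [← Nat.card_eq_finsetCard]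
  refine Nat.card_congr
    { toFun := fun x => ⟨x.1.1, (hL _).2 ⟨fun q => ?_, x.1.2⟩⟩
      invFun := fun x => ⟨⟨x.1, ((hL _).1 x.2).2⟩, fun g => Subtype.ext (show g * x.1 * g⁻¹ = x.1 by
        rw [← ((hL _).1 x.2).1 g, mul_inv_cancel_right])⟩
      left_inv := fun _ => rfl
      right_inv := fun _ => rfl }
  have h' : q * x.1.1 * q⁻¹ = x.1.1 := congrArg Subtype.val (x.2 q)
  exact (mul_inv_eq_iff_eq_mul.1 h').symm

/-- In a Sylow 2-subgroup with a single non-trivial square, that square is fused to no other central element. -/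
theorem square_fixed (φ : M →* G) (hφ : Function.Injective φ) (hM : IsPGroup 2 M)
    (hodd : φ.range.index % 2 = 1) {e0 q p : M} (hq : q * q = e0) (he : e0 ≠ 1)
    (hsq : ∀ x : M, x * x = 1 ∨ x * x = e0)
    (he0 : ∀ x, e0 * x = x * e0) (hp : ∀ x, p * x = x * p) (hconj : IsConj (φ e0) (φ p)) : p = e0 := by
  haveI : Fact (Nat.Prime 2) := ⟨Nat.prime_two⟩
  have hT : IsPGroup 2 φ.range := hM.of_surjective φ.rangeRestrict φ.rangeRestrict_surjective
  let P : Sylow 2 G := hT.toSylow (by omega)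
  have hc : ∀ c : M, (∀ x, c * x = x * c) → φ c ∈ Subgroup.centralizer (P : Set G) := by
    intro c hc
    rw [Subgroup.mem_centralizer_iff]
    rintro _ ⟨x, rfl⟩
    rw [← map_mul, ← map_mul, hc x]
  obtain ⟨g, hg⟩ := isConj_iff.1 hconj
  obtain ⟨n, hn, hne⟩ := P.conj_eq_normalizer_conj_of_mem_centralizer (φ e0) g⁻¹ (hc _ he0)
    (by rw [inv_inv, hg]; exact hc _ hp)
  rw [inv_inv, hg] at hne
  obtain ⟨x, hx⟩ : n⁻¹ * φ q * n ∈ φ.range := by
    have := Cfsg.Lib.AltEightThree.conj_mem_normalizer (inv_mem hn) (show φ q ∈ φ.range from ⟨q, rfl⟩)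
    rwa [inv_inv] at this
  have hp' : φ p = φ (x * x) := by rw [hne, ← hq, map_mul, map_mul, hx]; group
  rcases hsq x with e | e <;> rw [e] at hp'
  · exfalso
    rw [map_one] at hp'
    rw [hp', isConj_one_left] at hconj
    exact he (hφ (hconj.trans (map_one φ).symm))
  · exact hφ hp'

end Counting

namespace Cfg

variable {G : Type*} [Group G] (S : Cfg G)

/-- The configuration of the symmetric group of degree eight. -/
def IsEight : Prop := S.w * S.e rm * S.w = S.e gm

/-- The exceptional configuration. -/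
def IsExc : Prop := S.w * S.e rm * S.w = S.e (gm * sm)

theorem cw_e : S.cw (S.e em) = S.e em := by
  have hem : em = gm * rm * sm := by decide +kernel
  have hgs : gm * sm * sm = gm ∧ (gm * sm * gm * sm = 1) := by decide +kernel
  rcases S.par with h | h <;> rw [← cw_apply] at h
  · have h' : S.cw (S.e gm) = S.e rm := by rw [← h, S.cw_cw]
    rw [hem, map_mul, map_mul, map_mul, map_mul, h', h, S.cw_s]
    rw [← map_mul, ← map_mul, ← map_mul, ← map_mul]
    congr 1
  · have h' : S.cw (S.e gm) = S.e (rm * sm) := by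
      rw [← hgs.1, map_mul, map_mul, S.cw_s, ← h, S.cw_cw, map_mul]
    rw [hem, map_mul, map_mul, map_mul, map_mul, h', h, S.cw_s]
    rw [← map_mul, ← map_mul, ← map_mul, ← map_mul]
    exact congrArg S.e (by decide +kernel)

theorem cs_eight (h : S.IsEight) : S.Cs (S.e gm) := by
  rw [← show S.cw (S.e rm) = S.e gm from (S.cw_apply _).trans h, S.cs_cw]; exact S.cs_r

theorem cs_exc (h : S.IsExc) : S.Cs (S.e (gm * sm)) := by
  rw [← show S.cw (S.e rm) = S.e (gm * sm) from (S.cw_apply _).trans h, S.cs_cw]; exact S.cs_r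

variable [Finite G]

theorem not_cs_eight (h : S.IsEight) : ¬ S.Cs (S.e (gm * sm)) := by
  have e : S.cw (S.e am) = S.e (gm * sm) := by
    rw [← am_eq.1, map_mul, map_mul, S.cw_s, show S.cw (S.e rm) = S.e gm from (S.cw_apply _).trans h,
      map_mul]
  rw [← e, S.cs_cw]; exact S.not_cs_a

theorem not_cs_exc (h : S.IsExc) : ¬ S.Cs (S.e gm) := by
  have e : S.cw (S.e am) = S.e gm := by
    rw [← am_eq.1, map_mul, map_mul, S.cw_s,
      show S.cw (S.e rm) = S.e (gm * sm) from (S.cw_apply _).trans h, ← map_mul]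
    exact congrArg S.e (by decide +kernel)
  rw [← e, S.cs_cw]; exact S.not_cs_a

/-- The conjugates of `s` in the normaliser of `z`. -/
theorem count_cs (L : List H720) (hL : L ⊆ reps) (hx : ∀ x ∈ reps, S.Cs (S.e x) ↔ x ∈ L) :
    Nat.card {h : S.e.range // IsConj (S.e sm) (h : G)} = Nat.card {p : H720 // InCls L p} := by
  refine (Nat.card_congr ((MonoidHom.ofInjective S.e_inj).toEquiv.subtypeEquiv fun p => ?_)).symm
  show InCls L p ↔ S.Cs (S.e p)
  constructor
  · rintro ⟨hp, y, hy, hsig⟩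
    have hp1 : p ≠ 1 := fun e => reps_sig.2.1 (e ▸ hsig ▸ List.mem_map_of_mem (hL hy))
    obtain ⟨x, hxr, hs, hk⟩ := class_rep p hp hp1
    rw [← S.cs_e hk, hx x hxr, reps_sig.2.2 x hxr y (hL hy) (hs.symm.trans hsig)]
    exact hy
  · intro h
    have hp1 : p ≠ 1 := fun e => by
      have h' : IsConj (S.e sm) 1 := by rw [← map_one S.e]; exact e ▸ h
      exact absurd (S.e_inj ((isConj_one_left.1 h').trans (map_one S.e).symm)) (reps_sig.1 sm (by simp [reps])).2
    have hp : p * p = 1 := by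
      obtain ⟨g, hg⟩ := isConj_iff.1 h
      refine S.e_inj ?_
      rw [map_mul, ← hg, map_one]
      calc g * S.e sm * g⁻¹ * (g * S.e sm * g⁻¹) = g * (S.e sm * S.e sm) * g⁻¹ := by group
        _ = 1 := by rw [← map_mul, model_facts.2.2.1, map_one]; group
    obtain ⟨x, hxr, hs, hk⟩ := class_rep p hp hp1
    exact ⟨hp, x, (hx x hxr).1 ((S.cs_e hk).2 h), hs⟩

/-- The counts of the conjugates of `s` in the normaliser of `z`. -/
theorem count_values :
    (S.IsEight → (S.Cs (S.e em) → Nat.card {h : S.e.range // IsConj (S.e sm) (h : G)} = 58) ∧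
      (¬ S.Cs (S.e em) → Nat.card {h : S.e.range // IsConj (S.e sm) (h : G)} = 13)) ∧
    (S.IsExc → (S.Cs (S.e em) → Nat.card {h : S.e.range // IsConj (S.e sm) (h : G)} = 85) ∧
      (¬ S.Cs (S.e em) → Nat.card {h : S.e.range // IsConj (S.e sm) (h : G)} = 40)) := by
  have hsub : [sm, gm] ⊆ reps ∧ [sm, gm, em] ⊆ reps ∧ [sm, gm * sm] ⊆ reps ∧
      [sm, gm * sm, em] ⊆ reps := by decide +kernel
  have hmem : (∀ L ∈ [[sm, gm], [sm, gm, em], [sm, gm * sm], [sm, gm * sm, em]], sm ∈ L ∧ am ∉ L) ∧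
      (∀ L ∈ [[sm, gm], [sm, gm, em]], gm ∈ L ∧ gm * sm ∉ L) ∧
      (∀ L ∈ [[sm, gm * sm], [sm, gm * sm, em]], gm * sm ∈ L ∧ gm ∉ L) ∧
      (∀ L ∈ [[sm, gm], [sm, gm * sm]], em ∉ L) ∧
      (∀ L ∈ [[sm, gm, em], [sm, gm * sm, em]], em ∈ L) := by decide +kernel
  have key : ∀ L ∈ [[sm, gm], [sm, gm, em], [sm, gm * sm], [sm, gm * sm, em]],
      (S.Cs (S.e gm) ↔ gm ∈ L) → (S.Cs (S.e (gm * sm)) ↔ gm * sm ∈ L) → (S.Cs (S.e em) ↔ em ∈ L) →
      ∀ x ∈ reps, S.Cs (S.e x) ↔ x ∈ L := by
    intro L hL h1 h2 h3 x hx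
    simp only [reps, List.mem_cons, List.not_mem_nil, or_false] at hx
    rcases hx with rfl | rfl | rfl | rfl | rfl
    exacts [iff_of_true S.cs_s (hmem.1 L hL).1, iff_of_false S.not_cs_a (hmem.1 L hL).2, h1, h2, h3]
  refine ⟨fun h => ?_, fun h => ?_⟩ <;> refine ⟨fun he => ?_, fun he => ?_⟩
  · rw [S.count_cs _ hsub.2.1 (key _ (by simp) (iff_of_true (S.cs_eight h) (hmem.2.1 _ (by simp)).1)
      (iff_of_false (S.not_cs_eight h) (hmem.2.1 _ (by simp)).2) (iff_of_true he (hmem.2.2.2.2 _ (by simp))))]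
    exact count_eight.2
  · rw [S.count_cs _ hsub.1 (key _ (by simp) (iff_of_true (S.cs_eight h) (hmem.2.1 _ (by simp)).1)
      (iff_of_false (S.not_cs_eight h) (hmem.2.1 _ (by simp)).2) (iff_of_false he (hmem.2.2.2.1 _ (by simp))))]
    exact count_eight.1
  · rw [S.count_cs _ hsub.2.2.2 (key _ (by simp) (iff_of_false (S.not_cs_exc h) (hmem.2.2.1 _ (by simp)).2)
      (iff_of_true (S.cs_exc h) (hmem.2.2.1 _ (by simp)).1) (iff_of_true he (hmem.2.2.2.2 _ (by simp))))]
    exact count_exc.2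
  · rw [S.count_cs _ hsub.2.2.1 (key _ (by simp) (iff_of_false (S.not_cs_exc h) (hmem.2.2.1 _ (by simp)).2)
      (iff_of_true (S.cs_exc h) (hmem.2.2.1 _ (by simp)).1) (iff_of_false he (hmem.2.2.2.1 _ (by simp))))]
    exact count_exc.1

end Cfg

end Cfsg.Lib.SymEightThree
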