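import Cfsg.Agent.Lib.SymEightThree.TransferOne

set_option autoImplicit false

/-!
Model facts for the elementary abelian subgroup of order eight containing `w`.
-/

namespace Cfsg.Lib.SymEightThree

open Equiv
open Cfsg.Lib.AltEightThree (c3 t34 d01)

set_option synthInstance.maxSize 2000
set_option maxRecDepth 10000
attribute [local instance 2000] List.decidableBAll

/-- The elements of the diagonal four-group. -/
def zl : List L0 :=
  [1, pr (swap 0 1 * swap 2 3) (swap 0 1 * swap 2 3), pr (swap 0 2 * swap 1 3) (swap 0 2 * swap 1 3),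
    pr (swap 0 3 * swap 1 2) (swap 0 3 * swap 1 2)]

/-- The elements of the subgroup of order eight. -/
def e8l : List L0 := zl ++ zl.map (w0 * ·)

/-- The subgroup of order eight. -/
def E80 : Subgroup L0 where
  carrier := {x | x ∈ e8l}
  one_mem' := by decide +kernel
  mul_mem' := fun {a b} ha hb => (by decide +kernel : ∀ a ∈ e8l, ∀ b ∈ e8l, a * b ∈ e8l) a ha b hb
  inv_mem' := fun {a} ha => (by decide +kernel : ∀ a ∈ e8l, a⁻¹ ∈ e8l) a ha

/-- The elements of `A` with one trivial component. -/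
def vl : List L0 := al16.filter fun x => vt x

/-- The elements of the subgroup of order one hundred and forty four fixing the last point. -/
theorem cent_vt : ∀ a ∈ fix4l, ∀ b ∈ fix4l, ∀ h : (a, b) ∈ Pairs, ∀ i : Multiplicative (ZMod 2),
    ∀ x ∈ vl, let n : L0 := ⟨⟨(a, b), h⟩, i⟩
      n * x = x * n → Perm.sign a = 1 → n ^ 6 = 1 ∧ (n * n = 1 → n ∈ A0) := by
  decide +kernel

theorem no_three : ∀ x ∈ vl, ∀ y ∈ vl, ∀ z ∈ vl, x * y ≠ 1 → x * z ≠ 1 → y * z ≠ 1 →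
    vt (x * y) ∨ vt (x * z) ∨ vt (y * z) := by
  decide +kernel

/-- The coordinates of the three generators. -/
def trio (x p q : L0) : List L0 := [x, p, q, x * p, x * q, p * q, x * p * q]

set_option maxHeartbeats 4000000 in
theorem into_e8 : ∀ x ∈ zl, ∀ p ∈ q0l, p * p = 1 → x * p = p * x → ∀ q ∈ q0l, q * q = 1 →
    x * q = q * x → p * q = q * p → (∀ y ∈ trio x p q, y ≠ 1 ∧ ¬ vt y) →
    ∃ a ∈ al16, a * x * a⁻¹ = x ∧ a * p * a⁻¹ ∈ e8l ∧ a * q * a⁻¹ ∈ e8l := by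
  decide +kernel

theorem e8_facts :
    (∀ y ∈ e8l, y * y = 1 ∧ (y ∈ zl ∨ ∃ a ∈ al16, a * y * a⁻¹ = w0) ∧ y ∈ Q0 ∧
      (y ∈ zl → y ∈ A0 ∧ ¬ vt y ∧ w0 * y = y * w0 ∧ y * w0 ≠ 1 ∧
        Perm.sign y.left.1.1 = 1) ∧
      ∃ i : Fin 2, ∃ z ∈ zl, y = w0 ^ (i : ℕ) * z) ∧
    e8l.Nodup ∧
    (∀ y1 ∈ e8l, ∀ y2 ∈ e8l, y1 ∈ zl ∨ y2 ∈ zl ∨ y1 * y2 ∈ zl) ∧
    (∀ y ∈ q0l, Perm.sign y.left.1.1 = 1) ∧
    (∀ x ∈ zl, ∀ y ∈ q0l, x * y = y * x) ∧
    (∀ q ∈ zl, ∀ y ∈ e8l, let aL : L0 := ⟨⟨(q.left.1.1 * nt q.left.1.1, 1), pair_mem (by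
        rw [sign_nt, Perm.sign_one])⟩, 1⟩
      aL * y * aL⁻¹ = if y ∈ zl then y else y * q) := by
  refine ⟨by decide +kernel, by decide +kernel, by decide +kernel, by decide +kernel, by decide +kernel,
    by decide +kernel⟩

theorem to_diag : ∀ a ∈ v4l, a ≠ 1 → ∀ b ∈ v4l, b ≠ 1 →
    ∃ k : Fin 3, c3 ^ (k : ℕ) * b * (c3 ^ (k : ℕ))⁻¹ = a := by
  decide +kernel

/-- The transvection of the diagonal four-group fixing `q`. -/
def trv (q b : L0) : L0 := if b = 1 ∨ b = q then b else b * q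

/-- The rotation of the diagonal four-group. -/
def rot (b : L0) : L0 := (z0 * u0) * b * (z0 * u0)⁻¹

theorem trv_facts : (∀ q ∈ zl, q ≠ 1 → ∀ b ∈ zl, trv q (trv q b) = b ∧ rot b ∈ zl ∧ trv q b ∈ zl ∧
      trv q (rot (trv q (rot b))) = b) ∧
    (∀ a : Perm (Fin 5), Perm.sign a = 1 → (a * c3 * a⁻¹ = c3 ∨ a * c3 * a⁻¹ = c3 * c3) →
      ∀ q ∈ zl, q ≠ 1 → ∀ k : Fin 3,
        ¬ ∀ b ∈ zl, a * b.left.1.1 * a⁻¹ = (rot^[(k : ℕ)] (trv q b)).left.1.1) := by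
  refine ⟨by decide +kernel, by decide +kernel⟩

end Cfsg.Lib.SymEightThree
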