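import Cfsg.Agent.Lib.AltEightThree.Frame
import Cfsg.Agent.Lib.AltEightThree.Setup

set_option autoImplicit false

/-!
Frame for the recognition of the symmetric group of degree eight from its 3-local data: the normaliser
of `z` as the image of `S₃ × S₅` and an involution `w` exchanging `z` with a three-cycle `u`.
-/

namespace Cfsg.Lib.SymEightThree

open Equiv
open Cfsg.Lib.AltEightThree (c3 t34 d01 mem_cent_singleton)

/-- The model of the normaliser of `z`. -/
abbrev H720 := Perm (Fin 3) × Perm (Fin 5)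

/-- The three-cycle of `Perm (Fin 3)`. -/
def cR : Perm (Fin 3) := swap 0 1 * swap 1 2

/-- The transposition of `Perm (Fin 3)`. -/
def sw : Perm (Fin 3) := swap 0 1

/-- The transposition (0 1). -/
def t01 : Perm (Fin 5) := swap 0 1

/-- The model of `z`. -/
def zm : H720 := (cR, 1)
/-- The model of `u`. -/
def um : H720 := (1, c3)
/-- The model of `s`. -/
def sm : H720 := (1, t34)
/-- The model of `r`. -/
def rm : H720 := (1, t01)
/-- The model of `σ`. -/
def gm : H720 := (sw, 1)

/-- The elements of the model of the Sylow subgroup. -/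
def d9 : List H720 :=
  [1, zm, zm * zm, um, um * um, zm * um, zm * (um * um), zm * zm * um, zm * zm * (um * um)]

/-- The configuration. -/
structure Cfg (G : Type*) [Group G] where
  /-- the normaliser of `z` -/
  e : H720 →* G
  /-- the involution exchanging `z` and `u` -/
  w : G
  e_inj : Function.Injective e
  norm : ∀ g : G, g * e zm * g⁻¹ ∈ Subgroup.zpowers (e zm) → g ∈ e.range
  w_sq : w * w = 1
  w_z : w * e zm * w = e um
  w_s : w * e sm * w = e sm
  par : w * e rm * w = e gm ∨ w * e rm * w = e (gm * sm)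
  card_y : Nat.card (Subgroup.centralizer ({e (zm * um)} : Set G)) = 36
  not27 : ¬ 27 ∣ Nat.card G

set_option synthInstance.maxSize 2000 in
theorem model_facts : zm ^ 3 = 1 ∧ um ^ 3 = 1 ∧ sm * sm = 1 ∧ rm * rm = 1 ∧ gm * gm = 1 ∧
    zm * um = um * zm ∧ sm * zm = zm * sm ∧ sm * um = um * sm ∧ sm * rm = rm * sm ∧ sm * gm = gm * sm ∧
    gm * rm = rm * gm ∧ rm * zm = zm * rm ∧ gm * um = um * gm ∧
    rm * um * rm = um * um ∧ gm * zm * gm = zm * zm := by
  decide +kernel

namespace Cfg

variable {G : Type*} [Group G] (S : Cfg G)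

theorem e_comm_iff {p q : H720} : S.e p * S.e q = S.e q * S.e p ↔ p * q = q * p :=
  ⟨fun h => S.e_inj (by rw [map_mul, map_mul, h]), fun h => by rw [← map_mul, h, map_mul]⟩

theorem w_inv : S.w⁻¹ = S.w := inv_eq_of_mul_eq_one_right S.w_sq

/-- Conjugation by `w`. -/
def cw : MulAut G := MulAut.conj S.w

theorem cw_apply (x : G) : S.cw x = S.w * x * S.w := by
  rw [cw, MulAut.conj_apply, S.w_inv]

theorem cw_cw (x : G) : S.cw (S.cw x) = x := by
  rw [cw_apply, cw_apply]
  simp only [← mul_assoc]
  rw [S.w_sq, one_mul, mul_assoc, S.w_sq, mul_one]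

theorem cw_z : S.cw (S.e zm) = S.e um := by rw [cw_apply]; exact S.w_z

theorem cw_u : S.cw (S.e um) = S.e zm := by rw [← S.cw_z, S.cw_cw]

theorem cw_s : S.cw (S.e sm) = S.e sm := by rw [cw_apply]; exact S.w_s

/-- An element commuting with `z` lies in the image of the part centralising `z`. -/
theorem cent_z {g : G} (h : g * S.e zm = S.e zm * g) : ∃ p : H720, g = S.e p ∧ p * zm = zm * p := by
  obtain ⟨p, rfl⟩ := S.norm g (by rw [h, mul_inv_cancel_right]; exact Subgroup.mem_zpowers _)
  exact ⟨p, rfl, S.e_comm_iff.1 h⟩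

theorem cent_u {g : G} (h : g * S.e um = S.e um * g) :
    ∃ p : H720, g = S.cw (S.e p) ∧ p * zm = zm * p := by
  have h' : S.cw g * S.e zm = S.e zm * S.cw g := by rw [← S.cw_u, ← map_mul, ← map_mul, h]
  obtain ⟨p, hp, hpz⟩ := S.cent_z h'
  exact ⟨p, by rw [← hp, S.cw_cw], hpz⟩

end Cfg

end Cfsg.Lib.SymEightThree
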