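import Cfsg.Agent.Lib.SymEightThree.CentS
import Cfsg.Agent.Lib.SymEightThree.Classes

set_option autoImplicit false

/-!
In the exceptional configuration the two alternating groups of degree five centralise each other.
-/

namespace Cfsg.Lib.SymEightThree

open Equiv
open Cfsg.Lib.AltEightThree (c3 t34 mem_cent_singleton conj_mem_normalizer)

set_option synthInstance.maxSize 2000
set_option maxRecDepth 10000

/-- A second generator of the alternating group of degree five. -/
def x5 : Perm (Fin 5) := swap 0 3 * swap 1 4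

/-- The words in `x5` and `c3`. -/
def grow : ℕ → List (Perm (Fin 5))
  | 0 => [1]
  | n + 1 => ((grow n).flatMap fun a => [a, a * x5, a * c3, a * c3 * c3]).dedup

theorem grow_all : ∀ τ : Perm (Fin 5), Perm.sign τ = 1 → τ ∈ grow 14 := by decide +kernel

theorem alt_le {H : Subgroup (Perm (Fin 5))} (hx : x5 ∈ H) (hc : c3 ∈ H) :
    ∀ τ : Perm (Fin 5), Perm.sign τ = 1 → τ ∈ H := by
  have h : ∀ n, ∀ τ ∈ grow n, τ ∈ H := by
    intro n
    induction n with
    | zero => intro τ hτ; simp only [grow, List.mem_singleton] at hτ; rw [hτ]; exact one_mem _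
    | succ n ih =>
      intro τ hτ
      simp only [grow, List.mem_dedup, List.mem_flatMap, List.mem_cons, List.not_mem_nil, or_false] at hτ
      obtain ⟨a, ha, rfl | rfl | rfl | rfl⟩ := hτ
      exacts [ih _ ha, mul_mem (ih _ ha) hx, mul_mem (ih _ ha) hc, mul_mem (mul_mem (ih _ ha) hc) hc]
  exact fun τ hτ => h 14 τ (grow_all τ hτ)

/-- The model of `x`. -/
def xm : H720 := (1, x5)

theorem xm_facts : xm * xm = 1 ∧ xm * sm * xm = rm ∧ xm * am = am * xm ∧ xm * gm = gm * xm ∧
    xm * rm * xm = sm ∧ xm * zm = zm * xm ∧ rm = sm * am ∧ am * gm = gm * am := by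
  decide +kernel

theorem odd_fact : ∃ k ∈ [3, 5], (xm * um) ^ k = 1 ∧ k % 2 = 1 ∧ k ≠ 1 := by
  decide +kernel

theorem stab_facts : (∀ p : H720, p * gm ≠ am * p) ∧
    (∀ p : H720, p * gm = gm * p → p * am = am * p → p * sm = sm * p → (∀ q ∈ d9, p * q * p⁻¹ ∈ d9) →
      ∃ a b c : Fin 2, p = sm ^ (a : ℕ) * am ^ (b : ℕ) * gm ^ (c : ℕ)) := by
  refine ⟨by decide +kernel, by decide +kernel⟩

namespace Cfg

variable {G : Type*} [Group G] [Finite G] (S : Cfg G)

/-- The symmetric group of degree five inside the normaliser of `z`. -/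
def five : Perm (Fin 5) →* G := S.e.comp (MonoidHom.inr (Perm (Fin 3)) (Perm (Fin 5)))

omit [Finite G] in
theorem five_apply (τ : Perm (Fin 5)) : S.five τ = S.e (1, τ) := rfl

/-- The images of the two alternating groups centralise each other. -/
theorem halves_comm (h : S.IsExc)
    (hCN : Subgroup.centralizer ({S.e sm} : Set G) = Subgroup.normalizer (S.DG : Set G))
    {a b : Perm (Fin 5)} (ha : Perm.sign a = 1) (hb : Perm.sign b = 1) :
    Commute (S.five a) (S.cw (S.five b)) := by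
  have hcr : S.cw (S.e rm) = S.e (gm * sm) := (S.cw_apply _).trans h
  have hca : S.cw (S.e am) = S.e gm := by
    rw [← am_eq.1, map_mul, map_mul, S.cw_s, hcr, ← map_mul]
    exact congrArg S.e (by decide +kernel)
  have hcg : S.cw (S.e gm) = S.e am := by rw [← hca, S.cw_cw]
  have hcs := S.cw_s
  obtain ⟨x, hxd⟩ : ∃ x : G, x = S.e xm := ⟨_, rfl⟩
  obtain ⟨x', hx'd⟩ : ∃ x' : G, x' = S.cw x := ⟨_, rfl⟩
  have hx2 : x * x = 1 := by rw [hxd, ← map_mul, xm_facts.1, map_one]
  have hx'2 : x' * x' = 1 := by rw [hx'd, ← map_mul, hx2, map_one]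
  have hxs : x * S.e sm * x = S.e rm := by rw [hxd, ← map_mul, ← map_mul, xm_facts.2.1]
  have hxr : x * S.e rm * x = S.e sm := by rw [hxd, ← map_mul, ← map_mul, xm_facts.2.2.2.2.1]
  have hxa : Commute x (S.e am) := by rw [hxd]; exact S.e_comm_iff.2 xm_facts.2.2.1
  have hxg : Commute x (S.e gm) := by rw [hxd]; exact S.e_comm_iff.2 xm_facts.2.2.2.1
  have hxz : Commute x (S.e zm) := by rw [hxd]; exact S.e_comm_iff.2 xm_facts.2.2.2.2.2.1
  have hx'g : Commute x' (S.e gm) := by rw [hx'd, ← hca]; exact hxa.map S.cw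
  have hx'a : Commute x' (S.e am) := by rw [hx'd, ← hcg]; exact hxg.map S.cw
  have hx'u : Commute x' (S.e um) := by rw [hx'd, ← S.cw_z]; exact hxz.map S.cw
  have hx's : x' * S.e sm * x' = S.e sm * S.e gm := by
    rw [hx'd, ← hcs, ← map_mul, ← map_mul, hxs, hcr, hcs, ← map_mul]
    exact congrArg S.e (by decide +kernel)
  obtain ⟨n, hn⟩ : ∃ n : G, n = x * x' := ⟨_, rfl⟩
  have hninv : n⁻¹ = x' * x := by
    rw [hn, mul_inv_rev, inv_eq_of_mul_eq_one_right hx2, inv_eq_of_mul_eq_one_right hx'2]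
  have hns : n * S.e sm * n⁻¹ = S.e (sm * am * gm) := by
    rw [hninv, hn]
    calc x * x' * S.e sm * (x' * x) = x * (x' * S.e sm * x') * x := by simp only [mul_assoc]
      _ = (x * S.e sm * x) * S.e gm := by
          rw [hx's, ← mul_assoc, mul_assoc (x * S.e sm), ← hxg.eq, ← mul_assoc]
      _ = _ := by rw [hxs, ← map_mul]; exact congrArg S.e (by decide +kernel)
  have hna : Commute n (S.e am) := by rw [hn]; exact hxa.mul_left hx'a
  have hng : Commute n (S.e gm) := by rw [hn]; exact hxg.mul_left hx'g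
  have hn2s : (n * n) * S.e sm * (n * n)⁻¹ = S.e sm := by
    calc (n * n) * S.e sm * (n * n)⁻¹ = n * (n * S.e sm * n⁻¹) * n⁻¹ := by group
      _ = n * (S.e sm * S.e am * S.e gm) * n⁻¹ := by rw [hns, map_mul, map_mul]
      _ = (n * S.e sm * n⁻¹) * (n * S.e am * n⁻¹) * (n * S.e gm * n⁻¹) := by group
      _ = S.e (sm * am * gm * am * gm) := by
          rw [hns, hna.eq, hng.eq, mul_inv_cancel_right, mul_inv_cancel_right, ← map_mul, ← map_mul]
      _ = _ := congrArg S.e (by decide +kernel)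
  -- the square of `n`
  have hN : n * n ∈ Subgroup.normalizer (S.DG : Set G) :=
    hCN ▸ mem_cent_singleton.2 (mul_inv_eq_iff_eq_mul.1 hn2s)
  have hag : Commute (n * n) (S.e gm) := hng.mul_left hng
  have haa : Commute (n * n) (S.e am) := hna.mul_left hna
  obtain ⟨p, hp⟩ : n * n ∈ S.e.range := by
    rcases S.ND_forms hN with h' | ⟨p, hp⟩
    · exact h'
    · exfalso
      refine stab_facts.1 p (S.e_inj ?_)
      have e : S.w * (n * n) * S.e gm = S.cw (S.e gm) * (S.w * (n * n)) := by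
        rw [S.cw_apply, mul_assoc S.w, hag.eq]
        calc S.w * (S.e gm * (n * n)) = S.w * S.e gm * ((S.w * S.w) * (n * n)) := by
              rw [S.w_sq, one_mul, mul_assoc]
          _ = _ := by simp only [mul_assoc]
      rw [map_mul, map_mul, hp, e, hcg]
  have hpn : ∀ q ∈ d9, p * q * p⁻¹ ∈ d9 := by
    intro q hq
    obtain ⟨q', hq', hq''⟩ := conj_mem_normalizer (hp ▸ hN) (show S.e q ∈ S.DG from ⟨q, hq, rfl⟩)
    rw [← map_inv, ← map_mul, ← map_mul] at hq''
    rwa [← S.e_inj hq'']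
  obtain ⟨i, j, k, hijk⟩ := stab_facts.2 p (S.e_comm_iff.1 (hp ▸ hag.eq)) (S.e_comm_iff.1 (hp ▸ haa.eq))
    (S.e_comm_iff.1 (by rw [hp]; exact mul_inv_eq_iff_eq_mul.1 hn2s)) hpn
  have hcomm : n * (n * n) * n⁻¹ = n * n := by group
  have hcase : p = 1 ∨ p = am * gm := by
    have hconj : S.e (sm * am * gm) ^ (i : ℕ) * S.e am ^ (j : ℕ) * S.e gm ^ (k : ℕ) = S.e p := by
      rw [hp]
      conv_rhs => rw [← hcomm, ← hp, hijk, map_mul, map_mul, map_pow, map_pow, map_pow]
      rw [← hns, conj_pow]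
      calc n * S.e sm ^ (i : ℕ) * n⁻¹ * S.e am ^ (j : ℕ) * S.e gm ^ (k : ℕ)
          = n * S.e sm ^ (i : ℕ) * (n⁻¹ * S.e am ^ (j : ℕ)) * S.e gm ^ (k : ℕ) := by group
        _ = n * S.e sm ^ (i : ℕ) * (S.e am ^ (j : ℕ) * (n⁻¹ * S.e gm ^ (k : ℕ))) := by
            rw [((hna.pow_right (j : ℕ)).inv_left).eq]; group
        _ = _ := by rw [((hng.pow_right (k : ℕ)).inv_left).eq]; group
    have hw : S.cw (n * n) = (n * n)⁻¹ := by
      rw [map_mul, mul_inv_rev, hninv]
      have : S.cw n = x' * x := by rw [hn, map_mul, hx'd, S.cw_cw]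
      rw [this]
    have hpw : S.cw (S.e p) = S.e p⁻¹ := by rw [map_inv, hp, hw]
    rw [← map_pow, ← map_pow, ← map_pow, ← map_mul, ← map_mul] at hconj
    rw [hijk] at hpw
    simp only [map_mul, map_pow, hcs, hca, hcg] at hpw
    rw [← map_pow, ← map_pow, ← map_pow, ← map_mul, ← map_mul] at hpw
    have hfin : ∀ i j k : Fin 2,
        (sm * am * gm) ^ (i : ℕ) * am ^ (j : ℕ) * gm ^ (k : ℕ) = sm ^ (i : ℕ) * am ^ (j : ℕ) * gm ^ (k : ℕ) →
        sm ^ (i : ℕ) * gm ^ (j : ℕ) * am ^ (k : ℕ) = (sm ^ (i : ℕ) * am ^ (j : ℕ) * gm ^ (k : ℕ))⁻¹ →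
        sm ^ (i : ℕ) * am ^ (j : ℕ) * gm ^ (k : ℕ) = 1 ∨
          sm ^ (i : ℕ) * am ^ (j : ℕ) * gm ^ (k : ℕ) = am * gm := by decide +kernel
    rw [hijk]
    exact hfin i j k ((S.e_inj hconj).trans hijk) (S.e_inj hpw)
  have hn2 : n * n = 1 := by
    rcases hcase with rfl | rfl
    · rw [← hp, map_one]
    exfalso
    obtain ⟨m, -, hm, hodd, -⟩ := odd_fact
    rw [← Nat.odd_iff] at hodd
    have hxx : x' * x * x' = x * S.e (am * gm) := by
      rw [hp, hn]
      calc x' * x * x' = (x * x) * (x' * x * x') := by rw [hx2, one_mul]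
        _ = _ := by simp only [mul_assoc]
    have hg : x' * (x * S.e um) * x' = S.e (xm * am * um) * S.e gm := by
      calc x' * (x * S.e um) * x' = (x' * x * x') * (x' * S.e um * x') := by
            simp only [mul_assoc]; rw [← mul_assoc x' x', hx'2, one_mul]
        _ = x * S.e (am * gm) * S.e um := by
            rw [hxx, hx'u.eq, mul_assoc (S.e um), hx'2, mul_one]
        _ = _ := by
            rw [hxd, ← map_mul, ← map_mul, ← map_mul]
            exact congrArg S.e (by decide +kernel)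
    have h1 : (x' * (x * S.e um) * x') ^ m = 1 := by
      have := conj_pow (i := m) (a := x') (b := x * S.e um)
      rw [inv_eq_of_mul_eq_one_right hx'2] at this
      rw [this, hxd, ← map_mul, ← map_pow, hm, map_one, mul_one, hx'2]
    rw [hg, ← map_mul, ← map_pow] at h1
    have h1' : (xm * am * um * gm) ^ m = 1 := S.e_inj (h1.trans (map_one S.e).symm)
    have hc : Commute (xm * am * um) gm :=
      (by decide +kernel : xm * am * um * gm = gm * (xm * am * um))
    rw [hc.mul_pow] at h1'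
    have hg1 : gm ^ m = gm := by
      obtain ⟨k, rfl⟩ := hodd
      rw [pow_succ, pow_mul, pow_two, model_facts.2.2.2.2.1, one_pow, one_mul]
    rw [hg1] at h1'
    have h3 := congrArg Prod.fst h1'
    simp only [Prod.fst_mul, Prod.pow_fst, xm, am, um, mul_one, one_pow, one_mul, gm] at h3
    exact absurd h3 (by decide)
  -- `x` commutes with its image
  have hxx' : Commute x x' := by
    have e : n = n⁻¹ := eq_inv_of_mul_eq_one_left hn2
    rw [hninv, hn] at e
    exact e
  have hx'A : ∀ τ, Perm.sign τ = 1 → Commute (S.five τ) x' := by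
    intro τ hτ
    exact mem_cent_singleton.1 (alt_le (H := (Subgroup.centralizer ({x'} : Set G)).comap S.five)
      (mem_cent_singleton.2 (hxd ▸ hxx').eq) (mem_cent_singleton.2 hx'u.symm.eq) τ hτ)
  have hxA : ∀ τ, Perm.sign τ = 1 → Commute (S.five τ) (S.e zm) := fun τ _ =>
    S.e_comm_iff.2 (Prod.ext (by simp [zm]) (by simp [zm]))
  refine (mem_cent_singleton.1 (alt_le (H := (Subgroup.centralizer ({S.five a} : Set G)).comap
    (S.cw.toMonoidHom.comp S.five)) (mem_cent_singleton.2 ?_) (mem_cent_singleton.2 ?_) b hb)).symm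
  · show S.cw (S.e xm) * S.five a = S.five a * S.cw (S.e xm)
    rw [← hxd, ← hx'd]
    exact (hx'A a ha).eq.symm
  · show S.cw (S.e um) * S.five a = S.five a * S.cw (S.e um)
    rw [S.cw_u]
    exact (hxA a ha).eq.symm

end Cfg

end Cfsg.Lib.SymEightThree
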