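import Cfsg.Agent.Lib.SymEightThree.Psi
import Mathlib.GroupTheory.SemidirectProduct

set_option autoImplicit false

/-!
The model of order 14400 inside the exceptional group.
-/

namespace Cfsg.Lib.SymEightThree

open Equiv
open Cfsg.Lib.AltEightThree (c3 t34 d01 mem_cent_singleton)

set_option synthInstance.maxSize 2000
set_option maxRecDepth 10000

/-- The exchange of the two components. -/
def swapAut : MulAut Pairs where
  toFun p := ⟨(p.1.2, p.1.1), pair_mem p.2.symm⟩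
  invFun p := ⟨(p.1.2, p.1.1), pair_mem p.2.symm⟩
  left_inv _ := rfl
  right_inv _ := rfl
  map_mul' _ _ := rfl

theorem swapAut_sq : swapAut * swapAut = 1 := rfl

/-- The action of the group of order two on the pairs. -/
def swA : Multiplicative (ZMod 2) →* MulAut Pairs := two swapAut swapAut_sq

/-- The model. -/
abbrev L0 := Pairs ⋊[swA] Multiplicative (ZMod 2)

instance (priority := 2000) : DecidableEq L0 := fun x y =>
  decidable_of_iff (x.left = y.left ∧ x.right = y.right) SemidirectProduct.ext_iff.symm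

/-- An element of the model without exchange. -/
def pr (a b : Perm (Fin 5)) (h : Perm.sign a = Perm.sign b := by decide +kernel) : L0 :=
  ⟨⟨(a, b), pair_mem h⟩, 1⟩

/-- The model of `w`. -/
def w0 : L0 := ⟨1, Multiplicative.ofAdd 1⟩
/-- The model of `z`. -/
def z0 : L0 := pr 1 c3
/-- The model of `u`. -/
def u0 : L0 := pr c3 1
/-- The model of `s`. -/
def s0 : L0 := pr t34 t34

/-- The model of the normaliser of the subgroup of order sixteen. -/
def N0 : Subgroup L0 where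
  carrier := {x | x.left.1.1 4 = 4 ∧ x.left.1.2 4 = 4}
  one_mem' := ⟨rfl, rfl⟩
  mul_mem' := fun {x y} hx hy => by
    rcases (by decide : ∀ i : Multiplicative (ZMod 2), i = 1 ∨ i = Multiplicative.ofAdd 1) x.right with h | h
    · show (x.left.1.1 * (swA x.right y.left).1.1) 4 = 4 ∧ (x.left.1.2 * (swA x.right y.left).1.2) 4 = 4
      rw [h, map_one, MulAut.one_apply, Perm.mul_apply, Perm.mul_apply, hy.1, hy.2]
      exact hx
    · show (x.left.1.1 * (swA x.right y.left).1.1) 4 = 4 ∧ (x.left.1.2 * (swA x.right y.left).1.2) 4 = 4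
      rw [h]
      show (x.left.1.1 * y.left.1.2) 4 = 4 ∧ (x.left.1.2 * y.left.1.1) 4 = 4
      rw [Perm.mul_apply, Perm.mul_apply, hy.1, hy.2]
      exact hx
  inv_mem' := fun {x} hx => by
    have h1 : x.left.1.1⁻¹ 4 = 4 := by
      conv_lhs => rw [← hx.1]
      simp
    have h2 : x.left.1.2⁻¹ 4 = 4 := by
      conv_lhs => rw [← hx.2]
      simp
    rcases (by decide : ∀ i : Multiplicative (ZMod 2), i = 1 ∨ i = Multiplicative.ofAdd 1) x.right with h | h
    · show (swA x.right⁻¹ x.left⁻¹).1.1 4 = 4 ∧ (swA x.right⁻¹ x.left⁻¹).1.2 4 = 4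
      rw [h, inv_one, map_one]
      exact ⟨h1, h2⟩
    · show (swA x.right⁻¹ x.left⁻¹).1.1 4 = 4 ∧ (swA x.right⁻¹ x.left⁻¹).1.2 4 = 4
      rw [h]
      exact ⟨h2, h1⟩

instance : DecidablePred (· ∈ N0) := fun x =>
  inferInstanceAs (Decidable (x.left.1.1 4 = 4 ∧ x.left.1.2 4 = 4))

/-- The model of the subgroup of order sixteen. -/
def A0 : Subgroup L0 where
  carrier := {x | x.right = 1 ∧ x.left.1.1 ∈ v4l ∧ x.left.1.2 ∈ v4l}
  one_mem' := ⟨rfl, v4.one_mem, v4.one_mem⟩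
  mul_mem' := fun {x y} hx hy => by
    refine ⟨by show x.right * y.right = 1; rw [hx.1, hy.1, mul_one], ?_⟩
    show (x.left.1.1 * (swA x.right y.left).1.1) ∈ v4 ∧ (x.left.1.2 * (swA x.right y.left).1.2) ∈ v4
    rw [hx.1, map_one]
    exact ⟨v4.mul_mem hx.2.1 hy.2.1, v4.mul_mem hx.2.2 hy.2.2⟩
  inv_mem' := fun {x} hx => by
    refine ⟨by show x.right⁻¹ = 1; rw [hx.1, inv_one], ?_⟩
    show (swA x.right⁻¹ x.left⁻¹).1.1 ∈ v4 ∧ (swA x.right⁻¹ x.left⁻¹).1.2 ∈ v4
    rw [hx.1, inv_one, map_one]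
    exact ⟨v4.inv_mem hx.2.1, v4.inv_mem hx.2.2⟩

instance : DecidablePred (· ∈ A0) := fun x =>
  inferInstanceAs (Decidable (x.right = 1 ∧ x.left.1.1 ∈ v4l ∧ x.left.1.2 ∈ v4l))

theorem mem_A0 {x : L0} : x ∈ A0 ↔ x.right = 1 ∧ x.left.1.1 ∈ v4l ∧ x.left.1.2 ∈ v4l := Iff.rfl

theorem A0_le : A0 ≤ N0 := fun _ hx =>
  ⟨(by decide +kernel : ∀ a ∈ v4l, a 4 = 4) _ hx.2.1, (by decide +kernel : ∀ a ∈ v4l, a 4 = 4) _ hx.2.2⟩

theorem model_coords : (∀ a : Perm (Fin 3), ∃ i : Fin 3, ((a, 1) : H720) = zm ^ (i : ℕ) ∨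
    ((a, 1) : H720) = zm ^ (i : ℕ) * gm) ∧ Perm.sign t34 = -1 ∧ d01 = t01 * t34 := by
  decide +kernel

namespace Cfg

variable {G : Type*} [Group G] [Finite G] {S : Cfg G}

/-- The model inside the group. -/
def Exc.lf (X : S.Exc) : L0 →* G :=
  SemidirectProduct.lift X.psi (two S.w S.w_sq) (fun i => by
    refine MonoidHom.ext fun p => ?_
    rcases (by decide : ∀ i : Multiplicative (ZMod 2), i = 1 ∨ i = Multiplicative.ofAdd 1) i with rfl | rfl
    · simp only [map_one, MonoidHom.comp_apply, MulEquiv.coe_toMonoidHom, MulAut.one_apply]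
    · show X.psi (swapAut p) = MulAut.conj (S.w ^ (1 : ℕ)) (X.psi p)
      rw [pow_one]
      exact (X.cw_psi p.1.1 p.1.2 p.2 _).symm)

theorem Exc.lf_apply (X : S.Exc) (p : Pairs) : X.lf ⟨p, 1⟩ = X.psi p := by
  show X.psi p * S.w ^ (0 : ℕ) = _
  rw [pow_zero, mul_one]

theorem Exc.lf_w (X : S.Exc) : X.lf w0 = S.w := by
  show X.psi 1 * S.w ^ (1 : ℕ) = _
  rw [map_one, one_mul, pow_one]

theorem Exc.lf_even (X : S.Exc) (a b : Perm (Fin 5)) (ha : Perm.sign a = 1) (hb : Perm.sign b = 1) :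
    X.lf (pr a b (ha.trans hb.symm)) = S.five a * S.cw (S.five b) := by
  rw [pr, X.lf_apply, X.psi_even a b ha hb]

theorem Exc.lf_z (X : S.Exc) : X.lf z0 = S.e zm := by
  refine (X.lf_even 1 c3 Perm.sign_one (by decide +kernel)).trans ?_
  rw [map_one, one_mul]
  exact S.cw_u

theorem Exc.lf_u (X : S.Exc) : X.lf u0 = S.e um := by
  refine (X.lf_even c3 1 (by decide +kernel) Perm.sign_one).trans ?_
  rw [map_one, map_one, mul_one]; rfl

theorem Exc.lf_s (X : S.Exc) : X.lf s0 = S.e sm := by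
  rw [s0, pr, X.lf_apply, X.psi_apply, show t34 * nt t34 = 1 by decide +kernel, map_one, map_one,
    one_mul, one_mul, show nt t34 = t34 by decide +kernel]
  rfl

theorem Exc.lf_am (X : S.Exc) : X.lf (pr d01 1) = S.e am ∧ X.lf (pr 1 d01) = S.e gm := by
  have hd : Perm.sign d01 = 1 := by decide +kernel
  have h1 : S.five d01 = S.e am := by rw [five_apply, model_coords.2.2]; rfl
  refine ⟨?_, ?_⟩
  · refine (X.lf_even d01 1 hd Perm.sign_one).trans ?_
    rw [map_one, map_one, mul_one, h1]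
  · refine (X.lf_even 1 d01 Perm.sign_one hd).trans ?_
    rw [map_one, one_mul, h1, ← am_eq.1, map_mul, map_mul, S.cw_s,
      show S.cw (S.e rm) = S.e (gm * sm) from (S.cw_apply _).trans X.exc, ← map_mul]
    exact congrArg S.e (by decide +kernel)

theorem Exc.lf_inj (X : S.Exc) : Function.Injective X.lf := by
  rw [injective_iff_map_eq_one]
  rintro ⟨p, i⟩ h
  rcases (by decide : ∀ i : Multiplicative (ZMod 2), i = 1 ∨ i = Multiplicative.ofAdd 1) i with rfl | rfl
  · rw [X.lf_apply] at h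
    rw [X.psi_inj (h.trans (map_one _).symm)]
    rfl
  · exfalso
    have h' : X.lf (⟨p, 1⟩ * w0) = 1 := by
      rw [← h]; congr 1
    rw [map_mul, X.lf_w] at h'
    have hw : X.lf ⟨p, 1⟩ = S.w := by rw [eq_inv_of_mul_eq_one_left h', S.w_inv]
    have hz : X.lf (⟨p, 1⟩ * z0 * (⟨p, 1⟩ : L0)⁻¹) = X.lf u0 := by
      rw [map_mul, map_mul, map_inv, hw, X.lf_z, X.lf_u, S.w_inv]; exact S.w_z
    rw [X.lf_apply] at hw
    have key : (⟨p, 1⟩ : L0) * z0 * (⟨p, 1⟩ : L0)⁻¹ = ⟨p * z0.left * p⁻¹, 1⟩ := by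
      refine SemidirectProduct.ext ?_ (by simp [z0, pr])
      simp [z0, pr]
    rw [key, u0, pr, X.lf_apply, X.lf_apply] at hz
    have e : p.1.1 * 1 * p.1.1⁻¹ = c3 := congrArg (fun q : Pairs => q.1.1) (X.psi_inj hz)
    rw [mul_one, mul_inv_cancel] at e
    exact absurd e (by decide +kernel)

theorem Exc.w_mem (X : S.Exc) : S.w ∈ X.lf.range := ⟨w0, X.lf_w⟩

theorem Exc.five_mem (X : S.Exc) (τ : Perm (Fin 5)) : S.five τ ∈ X.lf.range := by
  have h : Perm.sign τ = Perm.sign (nt τ) := by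
    have := sign_nt τ
    rw [Perm.sign_mul] at this
    rw [eq_inv_of_mul_eq_one_left this, Int.units_inv_eq_self]
  refine ⟨⟨⟨(τ, nt τ), pair_mem h⟩, 1⟩, ?_⟩
  rw [X.lf_apply, X.psi_apply]
  have hn : nt τ * nt (nt τ) = 1 := by
    rcases Int.units_eq_one_or (Perm.sign τ) with e | e
    · rw [nt_one e, map_one, mul_one]
    · rw [show nt τ = t34 from if_neg (by rw [e]; decide)]
      decide +kernel
  rw [hn, map_one, map_one, mul_one, ← map_mul, mul_assoc, nt_sq, mul_one]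

theorem Exc.range_le (X : S.Exc) : S.e.range ≤ X.lf.range := by
  rintro _ ⟨p, rfl⟩
  have hz : S.e zm ∈ X.lf.range := ⟨z0, X.lf_z⟩
  have hg : S.e gm ∈ X.lf.range := ⟨_, X.lf_am.2⟩
  rw [show p = (p.1, 1) * (1, p.2) from Prod.ext (mul_one _).symm (one_mul _).symm, map_mul]
  refine mul_mem ?_ (X.five_mem p.2)
  obtain ⟨i, h | h⟩ := model_coords.1 p.1 <;> rw [h]
  · rw [map_pow]; exact pow_mem hz _
  · rw [map_mul, map_pow]; exact mul_mem (pow_mem hz _) hg

theorem Exc.ND_range (X : S.Exc) {g : G} (hg : g ∈ Subgroup.normalizer (S.DG : Set G)) :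
    g ∈ X.lf.range := by
  rcases S.ND_forms hg with h | h
  · exact X.range_le h
  · have := mul_mem X.w_mem (X.range_le h)
    rwa [← mul_assoc, S.w_sq, one_mul] at this

/-- The centralisers of the non-trivial elements of `D` lie in the model. -/
theorem Exc.cent_range (X : S.Exc) {q : H720} (hq : q ∈ d9) (hq1 : q ≠ 1) {g : G}
    (hg : g * S.e q = S.e q * g) : g ∈ X.lf.range := by
  rcases mixed_norm q hq with h' | h' | ⟨k, -, rfl, -, hk⟩
  · have hz : g * S.e zm = S.e zm * g := by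
      rcases (line_gen q hq hq1).1 h' with e | e
      · rw [← e]; exact hg
      · rw [← e, map_mul]; exact (Commute.mul_right hg hg).eq
    obtain ⟨p, rfl, -⟩ := S.cent_z hz
    exact X.range_le ⟨p, rfl⟩
  · have hu : g * S.e um = S.e um * g := by
      rcases (line_gen q hq hq1).2 h' with e | e
      · rw [← e]; exact hg
      · rw [← e, map_mul]; exact (Commute.mul_right hg hg).eq
    obtain ⟨p, rfl, -⟩ := S.cent_u hu
    rw [S.cw_apply]
    exact mul_mem (mul_mem X.w_mem (X.range_le ⟨p, rfl⟩)) X.w_mem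
  · have hkR : S.e k ∈ X.lf.range := X.range_le ⟨k, rfl⟩
    have h2 : ((S.e k)⁻¹ * g * S.e k) * S.e (zm * um) = S.e (zm * um) * ((S.e k)⁻¹ * g * S.e k) := by
      rw [map_mul _ (k * (zm * um)), map_mul _ k, map_inv] at hg
      calc _ = (S.e k)⁻¹ * (g * (S.e k * S.e (zm * um) * (S.e k)⁻¹)) * S.e k := by group
        _ = _ := by rw [hg]; group
    obtain ⟨d', -, k', -, h3⟩ := S.cent_y h2
    have hmem : (S.e k)⁻¹ * g * S.e k ∈ X.lf.range := by
      rcases h3 with h3 | h3 <;> rw [h3]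
      · exact X.range_le ⟨_, rfl⟩
      · exact mul_mem X.w_mem (X.range_le ⟨_, rfl⟩)
    have := mul_mem (mul_mem hkR hmem) (inv_mem hkR)
    rwa [show S.e k * ((S.e k)⁻¹ * g * S.e k) * (S.e k)⁻¹ = g by group] at this

end Cfg

end Cfsg.Lib.SymEightThree
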