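import Cfsg.Agent.Lib.SymEightThree.NormFacts
import Cfsg.Agent.S3805

set_option autoImplicit false

/-!
The normaliser of the elementary abelian subgroup of order sixteen.
-/

namespace Cfsg.Lib.SymEightThree

open Equiv
open Cfsg.Lib.AltEightThree (c3 t34 d01 mem_cent_singleton conj_mem_normalizer mem_normalizer_of_forall)

set_option synthInstance.maxSize 2000
set_option maxRecDepth 10000

/-- S3805 for a subgroup equal to a Sylow subgroup. -/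
theorem normalizer_top_of_klein {Q : Type*} [Group Q] [Finite Q] (P : Sylow 3 Q) (T : Subgroup Q)
    (hPT : T = (P : Subgroup Q)) (hel : Cfsg.IsElementaryAbelian 3 T) (hcard : Nat.card T = 9)
    (hC : Subgroup.centralizer (T : Set Q) = T)
    [hn : (T.subgroupOf (Subgroup.normalizer (T : Set Q))).Normal]
    (hK : IsKleinFour (Subgroup.normalizer (T : Set Q) ⧸ T.subgroupOf (Subgroup.normalizer (T : Set Q))))
    (hloc : ∀ t ∈ T, t ≠ 1 → Subgroup.centralizer ({t} : Set Q) ≤ Subgroup.normalizer (T : Set Q)) :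
    Subgroup.normalizer (T : Set Q) = ⊤ := by
  subst hPT
  exact Cfsg.Agent.S3805.result P hel hcard hC hK hloc

namespace Cfg

variable {G : Type*} [Group G] [Finite G] {S : Cfg G}

/-- The elementary abelian subgroup of order sixteen. -/
def Exc.AG (X : S.Exc) : Subgroup G := A0.map X.lf

theorem Exc.mem_AG (X : S.Exc) {x : L0} : X.lf x ∈ X.AG ↔ x ∈ A0 :=
  ⟨fun ⟨_, hy, e⟩ => X.lf_inj e ▸ hy, fun h => ⟨x, h, rfl⟩⟩

theorem Exc.N0_le (X : S.Exc) : N0.map X.lf ≤ Subgroup.normalizer (X.AG : Set G) := by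
  rintro _ ⟨x, hx, rfl⟩
  refine mem_normalizer_of_forall ?_
  rintro _ ⟨a, ha, rfl⟩
  rw [← map_inv, ← map_mul, ← map_mul]
  exact X.mem_AG.2 (N0_normalises hx ha)

theorem Exc.range_norm (X : S.Exc) {g : G} (hg : g ∈ Subgroup.normalizer (X.AG : Set G))
    (hR : g ∈ X.lf.range) : g ∈ N0.map X.lf := by
  obtain ⟨x, rfl⟩ := hR
  refine ⟨x, mem_N0_of_norm fun a ha => ?_, rfl⟩
  have := conj_mem_normalizer hg (X.mem_AG.2 ha)
  rwa [← map_inv, ← map_mul, ← map_mul, X.mem_AG] at this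

theorem Exc.dl_D (X : S.Exc) : (∀ x ∈ dl, X.lf x ∈ S.DG) ∧ ∀ q ∈ d9, ∃ x ∈ dl, X.lf x = S.e q := by
  have hz : S.e zm ∈ S.DG := ⟨zm, mem_D9.2 (by decide +kernel), rfl⟩
  have hu : S.e um ∈ S.DG := ⟨um, mem_D9.2 (by decide +kernel), rfl⟩
  refine ⟨fun x hx => ?_, fun q hq => ?_⟩
  · simp only [dl, List.mem_cons, List.not_mem_nil, or_false] at hx
    rcases hx with rfl | rfl | rfl | rfl | rfl | rfl | rfl | rfl | rfl <;>
      simp only [map_one, map_mul, X.lf_z, X.lf_u]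
    exacts [one_mem _, hz, mul_mem hz hz, hu, mul_mem hu hu, mul_mem hz hu, mul_mem hz (mul_mem hu hu),
      mul_mem (mul_mem hz hz) hu, mul_mem (mul_mem hz hz) (mul_mem hu hu)]
  · obtain ⟨i, j, rfl⟩ := d9_ij q hq
    exact ⟨_, dl_facts.2.2.1 i j, by rw [map_mul, map_pow, map_pow, X.lf_z, X.lf_u, map_mul, map_pow, map_pow]⟩

/-- An element of the normaliser of `A` carrying `D` into `A D` lies in the model. -/
theorem Exc.norm_N0 (X : S.Exc) {g : G} (hg : g ∈ Subgroup.normalizer (X.AG : Set G))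
    (hz : g * S.e zm * g⁻¹ ∈ DA0.map X.lf) (hu : g * S.e um * g⁻¹ ∈ DA0.map X.lf) :
    g ∈ N0.map X.lf := by
  obtain ⟨x, hx, hxe⟩ := hz
  obtain ⟨y, hy, hye⟩ := hu
  obtain ⟨⟨⟨x1, x2⟩, hxp⟩, xi⟩ := x
  obtain ⟨⟨⟨y1, y2⟩, hyp⟩, yi⟩ := y
  obtain ⟨rfl, hx1, hx2⟩ := hx
  obtain ⟨rfl, hy1, hy2⟩ := hy
  rw [X.lf_apply] at hxe hye
  have hcube : ∀ (p : Pairs) (q : H720), q ^ 3 = 1 → X.psi p = g * S.e q * g⁻¹ → p ^ 3 = 1 := by
    intro p q hq h
    refine X.psi_inj ?_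
    rw [map_pow, h, conj_pow, ← map_pow, hq, map_one, map_one, mul_one, mul_inv_cancel]
  have hx3 := hcube _ zm model_facts.1 hxe
  have hy3 := hcube _ um model_facts.2.1 hye
  have hc : (⟨(x1, x2), hxp⟩ : Pairs) * ⟨(y1, y2), hyp⟩ = ⟨(y1, y2), hyp⟩ * ⟨(x1, x2), hxp⟩ := by
    refine X.psi_inj ?_
    have e : S.e zm * S.e um = S.e um * S.e zm := S.e_comm_iff.2 model_facts.2.2.2.2.2.1
    rw [map_mul, map_mul, hxe, hye]
    calc g * S.e zm * g⁻¹ * (g * S.e um * g⁻¹) = g * (S.e zm * S.e um) * g⁻¹ := by group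
      _ = _ := by rw [e]; group
  obtain ⟨a1, ha1, h11, h12⟩ := fix4_facts.2.2.2.2 x1 hx1 y1 hy1
    (congrArg (fun p : Pairs => p.1.1) hx3) (congrArg (fun p : Pairs => p.1.1) hy3)
    (congrArg (fun p : Pairs => p.1.1) hc)
  obtain ⟨a2, ha2, h21, h22⟩ := fix4_facts.2.2.2.2 x2 hx2 y2 hy2
    (congrArg (fun p : Pairs => p.1.2) hx3) (congrArg (fun p : Pairs => p.1.2) hy3)
    (congrArg (fun p : Pairs => p.1.2) hc)
  have hap : (a1, a2) ∈ Pairs := pair_mem (((v4_facts.1 a1 ha1).1).trans ((v4_facts.1 a2 ha2).1).symm)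
  have ha : (⟨⟨(a1, a2), hap⟩, 1⟩ : L0) ∈ A0 := ⟨rfl, ha1, ha2⟩
  set a : G := X.lf ⟨⟨(a1, a2), hap⟩, 1⟩ with had
  have hconj : ∀ (p : Pairs) (q : H720), X.psi p = g * S.e q * g⁻¹ →
      ∀ hp : (⟨(a1, a2), hap⟩ * p * (⟨(a1, a2), hap⟩ : Pairs)⁻¹).1 ∈ Pairs,
      (⟨⟨_, hp⟩, 1⟩ : L0) ∈ dl → a * g * S.e q * (a * g)⁻¹ ∈ S.DG := by
    intro p q h hp hmem
    have := X.dl_D.1 _ hmem
    rw [X.lf_apply, Subtype.coe_eta, map_mul, map_mul, map_inv, h, ← X.lf_apply, ← had] at this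
    rwa [show a * g * S.e q * (a * g)⁻¹ = a * (g * S.e q * g⁻¹) * a⁻¹ by group]
  have hzD := hconj _ zm hxe (Subtype.mem _) (dl_facts.2.2.2.2.1 _ h11 _ h21 _)
  have huD := hconj _ um hye (Subtype.mem _) (dl_facts.2.2.2.2.1 _ h12 _ h22 _)
  have hND : a * g ∈ Subgroup.normalizer (S.DG : Set G) := by
    refine mem_normalizer_of_forall ?_
    rintro _ ⟨q, hq, rfl⟩
    obtain ⟨i, j, rfl⟩ := d9_ij q hq
    rw [map_mul, map_pow, map_pow, show a * g * (S.e zm ^ (i : ℕ) * S.e um ^ (j : ℕ)) * (a * g)⁻¹ =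
      (a * g * S.e zm ^ (i : ℕ) * (a * g)⁻¹) * (a * g * S.e um ^ (j : ℕ) * (a * g)⁻¹) by group,
      ← conj_pow, ← conj_pow]
    exact mul_mem (pow_mem hzD _) (pow_mem huD _)
  have haN : a ∈ N0.map X.lf := ⟨_, A0_le ha, rfl⟩
  have hag := X.range_norm (mul_mem (X.N0_le haN) hg) (X.ND_range hND)
  have := mul_mem (inv_mem haN) hag
  rwa [inv_mul_cancel_left] at this

/-- The normaliser of `A`. -/
theorem Exc.norm_A (X : S.Exc) :
    Subgroup.normalizer (X.AG : Set G) = N0.map X.lf := by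
  classical
  haveI : Fact (Nat.Prime 3) := ⟨Nat.prime_three⟩
  refine le_antisymm ?_ X.N0_le
  set NA := Subgroup.normalizer (X.AG : Set G) with hNA
  haveI hAn : (X.AG.subgroupOf NA).Normal := Subgroup.normal_subgroupOf_of_le_normalizer le_rfl
  set π := QuotientGroup.mk' (X.AG.subgroupOf NA)
  have hπ : Function.Surjective π := QuotientGroup.mk'_surjective _
  have hker : ∀ g : NA, π g = 1 ↔ (g : G) ∈ X.AG := fun g =>
    (QuotientGroup.eq_one_iff g).trans Subgroup.mem_subgroupOf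
  have hN0 : ∀ {x : L0}, x ∈ N0 → X.lf x ∈ NA := fun hx => X.N0_le ⟨_, hx, rfl⟩
  have hDN : S.DG ≤ NA := by
    rintro _ ⟨q, hq, rfl⟩
    obtain ⟨x, hx, e⟩ := X.dl_D.2 q hq
    rw [← e]; exact hN0 (dl_facts.1 x hx).2
  set T : Subgroup (NA ⧸ X.AG.subgroupOf NA) := (S.DG.subgroupOf NA).map π with hT
  -- membership in the image of `D`
  have hmemT : ∀ g : NA, π g ∈ T ↔ (g : G) ∈ DA0.map X.lf := by
    intro g
    constructor
    · rintro ⟨d, hd, he⟩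
      have h1 : ((d⁻¹ * g : NA) : G) ∈ X.AG := (hker _).1 (by rw [map_mul, map_inv, he, inv_mul_cancel])
      obtain ⟨q, hq, hq'⟩ := S.mem_DG.1 (Subgroup.mem_subgroupOf.1 hd)
      obtain ⟨x, hx, e⟩ := X.dl_D.2 q hq
      obtain ⟨y, hy, hye⟩ := h1
      refine ⟨x * y, DA0.mul_mem (dl_facts.1 x hx).1 ⟨hy.1, ?_, ?_⟩, ?_⟩
      · exact List.mem_append_left _ (List.mem_append_left _ hy.2.1)
      · exact List.mem_append_left _ (List.mem_append_left _ hy.2.2)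
      · rw [map_mul, e, hq', hye]; simp
    · rintro ⟨⟨⟨⟨a, b⟩, hab⟩, i⟩, ⟨rfl, ha, hb⟩, he⟩
      obtain ⟨d, hd, hd'⟩ := dl_facts.2.2.2.1 a ha b hb hab
      refine ⟨⟨X.lf d, hN0 (dl_facts.1 d hd).2⟩, Subgroup.mem_subgroupOf.2 (X.dl_D.1 d hd), ?_⟩
      refine inv_mul_eq_one.1 ?_
      rw [← map_inv, ← map_mul, hker]
      show (X.lf d)⁻¹ * (g : G) ∈ X.AG
      rw [← he, ← map_inv, ← map_mul]
      exact X.mem_AG.2 hd'
  have hTcard : Nat.card T = 9 := by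
    have hinj : Function.Injective (fun d : S.DG.subgroupOf NA => π d) := by
      intro d d' h
      have h1 : (((d : NA)⁻¹ * (d' : NA) : NA) : G) ∈ X.AG :=
        (hker _).1 (by rw [map_mul, map_inv]; exact inv_mul_eq_one.2 h)
      obtain ⟨q, hq, hqe⟩ := S.mem_DG.1 (Subgroup.mem_subgroupOf.1 d.2)
      obtain ⟨q', hq', hqe'⟩ := S.mem_DG.1 (Subgroup.mem_subgroupOf.1 d'.2)
      obtain ⟨x, hx, e⟩ := X.dl_D.2 q hq
      obtain ⟨x', hx', e'⟩ := X.dl_D.2 q' hq'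
      simp only [Subgroup.coe_mul, InvMemClass.coe_inv] at h1
      rw [← hqe, ← hqe', ← e, ← e', ← map_inv, ← map_mul, X.mem_AG] at h1
      refine Subtype.ext (Subtype.ext ?_)
      rw [← hqe, ← hqe', ← e, ← e', dl_facts.2.1 x hx x' hx' h1]
    have e : Nat.card (S.DG.subgroupOf NA) = Nat.card T := by
      refine Nat.card_congr (Equiv.ofBijective (fun x => ⟨π x, Subgroup.mem_map_of_mem π x.2⟩) ⟨?_, ?_⟩)
      · exact fun a b h => hinj (congrArg Subtype.val h)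
      · rintro ⟨_, a, ha, rfl⟩; exact ⟨⟨a, ha⟩, rfl⟩
    rw [← e, Nat.card_congr (Subgroup.subgroupOfEquivOfLe hDN).toEquiv, S.card_DG]
  have h27 : ¬ 27 ∣ Nat.card (NA ⧸ X.AG.subgroupOf NA) := fun h =>
    S.not27 (h.trans ((Subgroup.card_quotient_dvd_card _).trans (Subgroup.card_subgroup_dvd_card NA)))
  obtain ⟨P, hP⟩ := (IsPGroup.of_card (n := 2) (by rw [hTcard]; norm_num) : IsPGroup 3 T).exists_le_sylow
  have hPT : T = (P : Subgroup (NA ⧸ X.AG.subgroupOf NA)) := by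
    refine Subgroup.eq_of_le_of_card_ge hP ?_
    obtain ⟨n, hn⟩ := IsPGroup.iff_card.1 P.2
    have : n ≤ 2 := by
      by_contra hn'
      exact h27 ((show 3 ^ 3 ∣ Nat.card (P : Subgroup (NA ⧸ X.AG.subgroupOf NA)) from
        hn ▸ pow_dvd_pow 3 (by omega)).trans (Subgroup.card_subgroup_dvd_card _))
    rw [hn, hTcard]; exact (Nat.pow_le_pow_right (by norm_num) this).trans (by norm_num)
  have hzN : S.e zm ∈ NA := hDN ⟨zm, mem_D9.2 (by decide +kernel), rfl⟩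
  have huN : S.e um ∈ NA := hDN ⟨um, mem_D9.2 (by decide +kernel), rfl⟩
  have hzT : π ⟨_, hzN⟩ ∈ T := Subgroup.mem_map_of_mem π (show (⟨_, hzN⟩ : NA) ∈ S.DG.subgroupOf NA from
    ⟨zm, mem_D9.2 (by decide +kernel), rfl⟩)
  have huT : π ⟨_, huN⟩ ∈ T := Subgroup.mem_map_of_mem π (show (⟨_, huN⟩ : NA) ∈ S.DG.subgroupOf NA from
    ⟨um, mem_D9.2 (by decide +kernel), rfl⟩)
  -- the normaliser of the image of `D` is the model
  have hlift : ∀ g : NA, π g ∈ Subgroup.normalizer (T : Set (NA ⧸ X.AG.subgroupOf NA)) →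
      (g : G) ∈ N0.map X.lf := by
    intro g hg
    have h1 := conj_mem_normalizer hg hzT
    have h2 := conj_mem_normalizer hg huT
    rw [← map_inv, ← map_mul, ← map_mul, hmemT] at h1 h2
    exact X.norm_N0 g.2 h1 h2
  have hTgen : ∀ x ∈ T, ∃ i j : ℕ, x = π ⟨_, hzN⟩ ^ i * π ⟨_, huN⟩ ^ j := by
    rintro _ ⟨d, hd, rfl⟩
    obtain ⟨q, hq, hqe⟩ := S.mem_DG.1 (Subgroup.mem_subgroupOf.1 hd)
    obtain ⟨i, j, rfl⟩ := d9_ij q hq
    refine ⟨i, j, ?_⟩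
    rw [← map_pow, ← map_pow, ← map_mul]
    refine congrArg π (Subtype.ext ?_)
    rw [← hqe]
    simp
  have hpush : ∀ (n : L0) (hn : n ∈ N0), π ⟨X.lf n, hN0 hn⟩ ∈
      Subgroup.normalizer (T : Set (NA ⧸ X.AG.subgroupOf NA)) := by
    intro n hn
    refine mem_normalizer_of_forall fun x hx => ?_
    obtain ⟨i, j, rfl⟩ := hTgen x hx
    rw [conj_mul.symm, ← conj_pow, ← conj_pow, ← map_inv, ← map_mul, ← map_mul, ← map_mul, ← map_mul]
    refine mul_mem (pow_mem ((hmemT _).2 ?_) _) (pow_mem ((hmemT _).2 ?_) _)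
    · refine ⟨_, (N0_cases hn).1, ?_⟩
      rw [map_mul, map_mul, map_inv, X.lf_z]; rfl
    · refine ⟨_, (N0_cases hn).2.1, ?_⟩
      rw [map_mul, map_mul, map_inv, X.lf_u]; rfl
  -- self-centralisation
  have hC : Subgroup.centralizer (T : Set (NA ⧸ X.AG.subgroupOf NA)) = T := by
    refine le_antisymm (fun x hx => ?_) ?_
    · obtain ⟨g, rfl⟩ := hπ x
      obtain ⟨n, hn, hne⟩ := hlift g (Subgroup.centralizer_le_normalizer _ hx)
      have hc : ∀ (h : G) (hh : h ∈ NA), π ⟨h, hh⟩ ∈ T →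
          (g : G) * h * (g : G)⁻¹ * h⁻¹ ∈ X.AG := fun h hh hhT => by
        refine (hker (g * ⟨h, hh⟩ * g⁻¹ * (⟨h, hh⟩ : NA)⁻¹)).1 ?_
        simp only [map_mul, map_inv]
        rw [← Subgroup.mem_centralizer_iff.1 hx _ hhT, mul_inv_cancel_right, mul_inv_cancel]
      have h1 := hc _ hzN hzT
      have h2 := hc _ huN huT
      rw [← hne, ← X.lf_z, ← map_inv, ← map_inv, ← map_mul, ← map_mul, ← map_mul, X.mem_AG] at h1
      rw [← hne, ← X.lf_u, ← map_inv, ← map_inv, ← map_mul, ← map_mul, ← map_mul, X.mem_AG] at h2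
      exact (hmemT g).2 ⟨n, (N0_cases hn).2.2.1 h1 h2, hne⟩
    · intro x hx
      rw [Subgroup.mem_centralizer_iff]
      intro y hy
      obtain ⟨i, j, rfl⟩ := hTgen x hx
      obtain ⟨k, l, rfl⟩ := hTgen y hy
      have e : Commute (π ⟨_, hzN⟩) (π ⟨_, huN⟩) :=
        (show Commute (⟨_, hzN⟩ : NA) ⟨_, huN⟩ from Subtype.ext (S.e_comm_iff.2 model_facts.2.2.2.2.2.1)).map π
      exact (((Commute.refl (π (⟨_, hzN⟩ : NA))).pow_pow k i).mul_right (e.pow_pow k j)).mul_left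
        ((e.symm.pow_pow l i).mul_right ((Commute.refl (π (⟨_, huN⟩ : NA))).pow_pow l j))
  haveI hn : (T.subgroupOf (Subgroup.normalizer (T : Set (NA ⧸ X.AG.subgroupOf NA)))).Normal :=
    Subgroup.normal_subgroupOf_of_le_normalizer le_rfl
  set NT := Subgroup.normalizer (T : Set (NA ⧸ X.AG.subgroupOf NA))
  set ρ := QuotientGroup.mk' (T.subgroupOf NT)
  have hρ : ∀ g : NT, ρ g = 1 ↔ (g : NA ⧸ X.AG.subgroupOf NA) ∈ T := fun g =>
    (QuotientGroup.eq_one_iff g).trans Subgroup.mem_subgroupOf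
  let kf : Fin ks.length → NT ⧸ T.subgroupOf NT := fun i =>
    ρ ⟨π ⟨X.lf (ks[i.val]'i.isLt), hN0 (dl_facts.2.2.2.2.2.1 _ (List.getElem_mem _)).1⟩,
      hpush _ (dl_facts.2.2.2.2.2.1 _ (List.getElem_mem _)).1⟩
  have hkeq : ∀ (x y : L0) (hx : x ∈ N0) (hy : y ∈ N0),
      ρ ⟨π ⟨X.lf x, hN0 hx⟩, hpush _ hx⟩ = ρ ⟨π ⟨X.lf y, hN0 hy⟩, hpush _ hy⟩ ↔ x⁻¹ * y ∈ DA0 := by
    intro x y hx hy
    rw [← inv_mul_eq_one, ← map_inv, ← map_mul, hρ]
    show (π ⟨X.lf x, hN0 hx⟩)⁻¹ * π ⟨X.lf y, hN0 hy⟩ ∈ T ↔ _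
    rw [← map_inv, ← map_mul, hmemT]
    show (X.lf x)⁻¹ * X.lf y ∈ DA0.map X.lf ↔ _
    rw [← map_inv, ← map_mul]
    exact ⟨fun ⟨_, hd, e⟩ => X.lf_inj e ▸ hd, fun h => ⟨_, h, rfl⟩⟩
  have hkf : Function.Bijective kf := by
    refine ⟨fun i j h => Fin.ext ?_, fun x => ?_⟩
    · have h1 := (hkeq _ _ (dl_facts.2.2.2.2.2.1 _ (List.getElem_mem _)).1
        (dl_facts.2.2.2.2.2.1 _ (List.getElem_mem _)).1).1 h
      exact (dl_facts.2.2.2.2.2.2.getElem_inj_iff).1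
        (((dl_facts.2.2.2.2.2.1 _ (List.getElem_mem _)).2.2 _ (List.getElem_mem _)).2 h1)
    · obtain ⟨⟨x, hxN⟩, rfl⟩ := QuotientGroup.mk'_surjective _ x
      obtain ⟨g, rfl⟩ := hπ x
      obtain ⟨n, hn, hne⟩ := hlift g hxN
      obtain ⟨k, hk, hkd⟩ := (N0_cases hn).2.2.2
      obtain ⟨i, hi, rfl⟩ := List.getElem_of_mem hk
      refine ⟨⟨i, hi⟩, ?_⟩
      have hg : g = ⟨X.lf n, hN0 hn⟩ := Subtype.ext hne.symm
      subst hg
      exact (hkeq _ _ (dl_facts.2.2.2.2.2.1 _ (List.getElem_mem _)).1 hn).2 hkd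
  have hK : IsKleinFour (NT ⧸ T.subgroupOf NT) := by
    have h4 : Nat.card (NT ⧸ T.subgroupOf NT) = 4 := by
      rw [← Nat.card_eq_of_bijective kf hkf, Nat.card_fin]; rfl
    have hsq : ∀ x : NT ⧸ T.subgroupOf NT, x ^ 2 = 1 := by
      intro x
      obtain ⟨i, rfl⟩ := hkf.2 x
      simp only [kf]
      rw [← map_pow, hρ]
      show (π ⟨X.lf _, _⟩) ^ 2 ∈ T
      rw [← map_pow, hmemT]
      refine ⟨1, DA0.one_mem, ?_⟩
      rw [Subgroup.coe_pow, ← map_pow, pow_two, (dl_facts.2.2.2.2.2.1 _ (List.getElem_mem _)).2.1]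
    haveI : Nontrivial (NT ⧸ T.subgroupOf NT) := by
      rw [← Finite.one_lt_card_iff_nontrivial, h4]; norm_num
    refine ⟨h4, ?_⟩
    rcases (Nat.dvd_prime Nat.prime_two).1 (Monoid.exponent_dvd_of_forall_pow_eq_one hsq) with e | e
    · exfalso
      haveI := Monoid.exp_eq_one_iff.1 e
      exact not_subsingleton (NT ⧸ T.subgroupOf NT) this
    · exact e
  have hel : Cfsg.IsElementaryAbelian 3 T := by
    refine ⟨?_, ?_⟩
    · exact ⟨⟨fun a b => Subtype.ext (Subgroup.mem_centralizer_iff.1 (hC.ge b.2) a a.2)⟩⟩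
    · intro x hx
      obtain ⟨i, j, rfl⟩ := hTgen x hx
      have e : Commute (π ⟨_, hzN⟩ ^ i) (π ⟨_, huN⟩ ^ j) := by
        exact ((show Commute (⟨_, hzN⟩ : NA) ⟨_, huN⟩ from
          Subtype.ext (S.e_comm_iff.2 model_facts.2.2.2.2.2.1)).map π).pow_pow i j
      rw [e.mul_pow, ← pow_mul, ← pow_mul, mul_comm i, mul_comm j, pow_mul, pow_mul, ← map_pow π,
        show (⟨_, hzN⟩ : NA) ^ 3 = 1 from Subtype.ext (by simp [← map_pow, model_facts.1]),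
        ← map_pow π ⟨_, huN⟩,
        show (⟨_, huN⟩ : NA) ^ 3 = 1 from Subtype.ext (by simp [← map_pow, model_facts.2.1]),
        map_one, one_pow, one_pow, one_mul]
  have hloc : ∀ t ∈ T, t ≠ 1 → Subgroup.centralizer ({t} : Set (NA ⧸ X.AG.subgroupOf NA)) ≤ NT := by
    intro t ht ht1 y hy
    obtain ⟨g, rfl⟩ := hπ y
    obtain ⟨d, hd, rfl⟩ := ht
    obtain ⟨q, hq, hqe⟩ := S.mem_DG.1 (Subgroup.mem_subgroupOf.1 hd)
    have h1 : π (g * d * g⁻¹) ∈ T := by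
      rw [map_mul, map_mul, map_inv, mem_cent_singleton.1 hy, mul_inv_cancel_right]
      exact Subgroup.mem_map_of_mem π hd
    obtain ⟨⟨⟨⟨x1, x2⟩, hxp⟩, xi⟩, ⟨hxi, hx1, hx2⟩, hxe⟩ := (hmemT _).1 h1
    simp only at hxi hx1 hx2
    subst hxi
    have hd3 : d ^ 3 = 1 := Subtype.ext (by
      rw [Subgroup.coe_pow, ← hqe, ← map_pow, (by decide +kernel : ∀ q ∈ d9, q ^ 3 = 1) q hq, map_one]; rfl)
    have hx3 : (⟨(x1, x2), hxp⟩ : Pairs) ^ 3 = 1 := by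
      refine X.psi_inj ?_
      rw [map_pow, ← X.lf_apply, hxe, ← Subgroup.coe_pow, conj_pow, hd3, mul_one, mul_inv_cancel, map_one]
      rfl
    obtain ⟨a1, ha1, h11, -⟩ := fix4_facts.2.2.2.2 x1 hx1 1 (by decide +kernel)
      (congrArg (fun p : Pairs => p.1.1) hx3) (one_pow 3) (by rw [mul_one, one_mul])
    obtain ⟨a2, ha2, h21, -⟩ := fix4_facts.2.2.2.2 x2 hx2 1 (by decide +kernel)
      (congrArg (fun p : Pairs => p.1.2) hx3) (one_pow 3) (by rw [mul_one, one_mul])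
    have hap : (a1, a2) ∈ Pairs := pair_mem (((v4_facts.1 a1 ha1).1).trans ((v4_facts.1 a2 ha2).1).symm)
    have ha : (⟨⟨(a1, a2), hap⟩, 1⟩ : L0) ∈ A0 := ⟨rfl, ha1, ha2⟩
    obtain ⟨x0, hx0, hx0e⟩ := X.dl_D.2 q hq
    set aN : NA := ⟨X.lf ⟨⟨(a1, a2), hap⟩, 1⟩, hN0 (A0_le ha)⟩
    have haπ : π aN = 1 := (hker _).2 (X.mem_AG.2 ha)
    set m : L0 := ⟨⟨(a1, a2), hap⟩ * ⟨(x1, x2), hxp⟩ * (⟨(a1, a2), hap⟩ : Pairs)⁻¹, 1⟩
    have hm : m ∈ dl := dl_facts.2.2.2.2.1 _ h11 _ h21 _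
    have hmG : X.lf m = (aN * g) * d * (aN * g)⁻¹ := by
      rw [X.lf_apply, map_mul, map_mul, map_inv, ← X.lf_apply, ← X.lf_apply, hxe]
      simp only [aN, Subgroup.coe_mul, InvMemClass.coe_inv]
      group
    have hdx : m = x0 := by
      refine (dl_facts.2.1 x0 hx0 m hm (X.mem_AG.1 ?_)).symm
      rw [map_mul, map_inv, hx0e, hqe, hmG]
      refine (hker (d⁻¹ * ((aN * g) * d * (aN * g)⁻¹))).1 ?_
      rw [map_mul, map_mul, map_mul, map_inv, map_inv, map_mul, haπ, one_mul, mem_cent_singleton.1 hy,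
        mul_inv_cancel_right, inv_mul_cancel]
    have hq1 : q ≠ 1 := fun e => ht1 (by
      rw [show d = 1 from Subtype.ext (by rw [← hqe, e, map_one]; rfl), map_one])
    have hcomm : ((aN * g : NA) : G) * S.e q = S.e q * ((aN * g : NA) : G) := by
      rw [hqe]
      rw [hdx, hx0e, hqe] at hmG
      have := hmG.symm
      exact mul_inv_eq_iff_eq_mul.1 this
    obtain ⟨n, hn, hne⟩ := X.range_norm (aN * g).2 (X.cent_range hq hq1 hcomm)
    have hg : π g = π ⟨X.lf n, hN0 hn⟩ := by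
      rw [show (⟨X.lf n, hN0 hn⟩ : NA) = aN * g from Subtype.ext hne, map_mul, haπ, one_mul]
    rw [hg]
    exact hpush n hn
  have hfin := normalizer_top_of_klein P T hPT hel hTcard hC hK hloc
  intro g hg
  refine hlift ⟨g, hg⟩ ?_
  rw [show NT = ⊤ from hfin]
  exact Subgroup.mem_top _

end Cfg

end Cfsg.Lib.SymEightThree
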