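import Cfsg.Agent.Lib.SymEightThree.Model

set_option autoImplicit false

/-!
Model facts for the normaliser of the elementary abelian subgroup of order sixteen.
-/

namespace Cfsg.Lib.SymEightThree

open Equiv
open Cfsg.Lib.AltEightThree (c3 t34 d01 mem_cent_singleton conj_mem_normalizer mem_normalizer_of_forall)

set_option synthInstance.maxSize 2000
set_option maxRecDepth 10000
attribute [local instance 2000] List.decidableBAll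

/-- The even permutations fixing the last point. -/
def a4l : List (Perm (Fin 5)) := v4l ++ v4l.map (c3 * ·) ++ v4l.map (c3 * c3 * ·)

/-- The permutations fixing the last point. -/
def fix4l : List (Perm (Fin 5)) := a4l ++ a4l.map (t01 * ·)

theorem fix4_facts : (∀ τ : Perm (Fin 5), τ 4 = 4 → τ ∈ fix4l) ∧
    (∀ τ ∈ fix4l, ∀ v ∈ v4l, τ * v * τ⁻¹ ∈ v4l) ∧
    (∀ τ : Perm (Fin 5), (∀ v ∈ v4l, τ * v * τ⁻¹ ∈ v4l) → τ 4 = 4) ∧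
    (∀ τ ∈ a4l, τ 4 = 4 ∧ Perm.sign τ = 1) ∧
    (∀ x ∈ a4l, ∀ y ∈ a4l, x ^ 3 = 1 → y ^ 3 = 1 → x * y = y * x →
      ∃ a ∈ v4l, a * x * a⁻¹ ∈ [1, c3, c3 * c3] ∧ a * y * a⁻¹ ∈ [1, c3, c3 * c3]) := by
  refine ⟨by decide +kernel, by decide +kernel, by decide +kernel, by decide +kernel, by decide +kernel⟩

/-- The model of the subgroup of order one hundred and forty four. -/
def DA0 : Subgroup L0 where
  carrier := {x | x.right = 1 ∧ x.left.1.1 ∈ a4l ∧ x.left.1.2 ∈ a4l}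
  one_mem' := ⟨rfl, by decide +kernel, by decide +kernel⟩
  mul_mem' := fun {x y} hx hy => by
    have h : ∀ a ∈ a4l, ∀ b ∈ a4l, a * b ∈ a4l := by decide +kernel
    refine ⟨by show x.right * y.right = 1; rw [hx.1, hy.1, mul_one], ?_⟩
    show (x.left.1.1 * (swA x.right y.left).1.1) ∈ a4l ∧ (x.left.1.2 * (swA x.right y.left).1.2) ∈ a4l
    rw [hx.1, map_one]
    exact ⟨h _ hx.2.1 _ hy.2.1, h _ hx.2.2 _ hy.2.2⟩
  inv_mem' := fun {x} hx => by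
    have h : ∀ a ∈ a4l, a⁻¹ ∈ a4l := by decide +kernel
    refine ⟨by show x.right⁻¹ = 1; rw [hx.1, inv_one], ?_⟩
    show (swA x.right⁻¹ x.left⁻¹).1.1 ∈ a4l ∧ (swA x.right⁻¹ x.left⁻¹).1.2 ∈ a4l
    rw [hx.1, inv_one, map_one]
    exact ⟨h _ hx.2.1, h _ hx.2.2⟩

instance : DecidablePred (· ∈ DA0) := fun x =>
  inferInstanceAs (Decidable (x.right = 1 ∧ x.left.1.1 ∈ a4l ∧ x.left.1.2 ∈ a4l))

theorem mem_DA0 {x : L0} : x ∈ DA0 ↔ x.right = 1 ∧ x.left.1.1 ∈ a4l ∧ x.left.1.2 ∈ a4l := Iff.rfl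

/-- The elements of the model of `D`. -/
def dl : List L0 :=
  [1, z0, z0 * z0, u0, u0 * u0, z0 * u0, z0 * (u0 * u0), z0 * z0 * u0, z0 * z0 * (u0 * u0)]

/-- The model of `e₂`. -/
def e20 : L0 := pr t01 t01

/-- Representatives of the Klein group. -/
def ks : List L0 := [1, e20, w0, w0 * e20]

set_option maxHeartbeats 4000000 in
theorem dl_facts : (∀ x ∈ dl, x ∈ DA0 ∧ x ∈ N0) ∧ (∀ x ∈ dl, ∀ y ∈ dl, x⁻¹ * y ∈ A0 → x = y) ∧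
    (∀ i j : Fin 3, z0 ^ (i : ℕ) * u0 ^ (j : ℕ) ∈ dl) ∧
    (∀ a ∈ a4l, ∀ b ∈ a4l, ∀ h : (a, b) ∈ Pairs, ∃ d ∈ dl, d⁻¹ * (⟨⟨(a, b), h⟩, 1⟩ : L0) ∈ A0) ∧
    (∀ a ∈ [1, c3, c3 * c3], ∀ b ∈ [1, c3, c3 * c3], ∀ h : (a, b) ∈ Pairs, (⟨⟨(a, b), h⟩, 1⟩ : L0) ∈ dl) ∧
    (∀ x ∈ ks, x ∈ N0 ∧ x * x = 1 ∧ ∀ y ∈ ks, x * y = y * x ∧ (x⁻¹ * y ∈ DA0 → x = y)) ∧
    ks.Nodup := by
  refine ⟨by decide +kernel, by decide +kernel, by decide +kernel, by decide +kernel, by decide +kernel,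
    by decide +kernel, by decide +kernel⟩

set_option maxHeartbeats 4000000 in
theorem N0_scan : ∀ a ∈ fix4l, ∀ b ∈ fix4l, ∀ h : (a, b) ∈ Pairs, ∀ i : Multiplicative (ZMod 2),
    let n : L0 := ⟨⟨(a, b), h⟩, i⟩
    n * z0 * n⁻¹ ∈ DA0 ∧ n * u0 * n⁻¹ ∈ DA0 ∧
      (n * z0 * n⁻¹ * z0⁻¹ ∈ A0 → n * u0 * n⁻¹ * u0⁻¹ ∈ A0 → n ∈ DA0) ∧
      ∃ k ∈ ks, k⁻¹ * n ∈ DA0 := by
  decide +kernel

theorem N0_cases {n : L0} (hn : n ∈ N0) :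
    n * z0 * n⁻¹ ∈ DA0 ∧ n * u0 * n⁻¹ ∈ DA0 ∧
      (n * z0 * n⁻¹ * z0⁻¹ ∈ A0 → n * u0 * n⁻¹ * u0⁻¹ ∈ A0 → n ∈ DA0) ∧
      ∃ k ∈ ks, k⁻¹ * n ∈ DA0 := by
  obtain ⟨⟨⟨a, b⟩, h⟩, i⟩ := n
  exact N0_scan a (fix4_facts.1 a hn.1) b (fix4_facts.1 b hn.2) h i

theorem conj_formula (x y : L0) (hy : y.right = 1) :
    x * y * x⁻¹ = ⟨x.left * swA x.right y.left * x.left⁻¹, 1⟩ := by
  refine SemidirectProduct.ext ?_ (by simp [hy])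
  simp [hy]

theorem N0_normalises {x a : L0} (hx : x ∈ N0) (ha : a ∈ A0) : x * a * x⁻¹ ∈ A0 := by
  rw [conj_formula x a ha.1]
  refine ⟨rfl, ?_⟩
  have h1 := fix4_facts.1 _ hx.1
  have h2 := fix4_facts.1 _ hx.2
  rcases (by decide : ∀ i : Multiplicative (ZMod 2), i = 1 ∨ i = Multiplicative.ofAdd 1) x.right with e | e
  · rw [e, map_one]
    exact ⟨fix4_facts.2.1 _ h1 _ ha.2.1, fix4_facts.2.1 _ h2 _ ha.2.2⟩
  · rw [e]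
    exact ⟨fix4_facts.2.1 _ h1 _ ha.2.2, fix4_facts.2.1 _ h2 _ ha.2.1⟩

theorem mem_N0_of_norm {x : L0} (h : ∀ a ∈ A0, x * a * x⁻¹ ∈ A0) : x ∈ N0 := by
  have key : ∀ a b : Perm (Fin 5), a ∈ v4l → b ∈ v4l → ∀ hp : (a, b) ∈ Pairs,
      x.left * swA x.right ⟨(a, b), hp⟩ * x.left⁻¹ ∈ {p : Pairs | p.1.1 ∈ v4l ∧ p.1.2 ∈ v4l} := by
    intro a b ha hb hp
    have h' := h ⟨⟨(a, b), hp⟩, 1⟩ ⟨rfl, ha, hb⟩
    rw [conj_formula _ _ rfl] at h'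
    exact h'.2
  have hs : ∀ v ∈ v4l, ∀ v' ∈ v4l, Perm.sign v = Perm.sign v' := fun v hv v' hv' =>
    ((v4_facts.1 v hv).1).trans ((v4_facts.1 v' hv').1).symm
  refine ⟨fix4_facts.2.2.1 _ fun v hv => ?_, fix4_facts.2.2.1 _ fun v hv => ?_⟩ <;>
    have h' := key v v hv hv (pair_mem (hs v hv v hv)) <;>
    rcases (by decide : ∀ i : Multiplicative (ZMod 2), i = 1 ∨ i = Multiplicative.ofAdd 1) x.right with e | e <;>
    rw [e] at h'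
  · exact h'.1
  · exact h'.1
  · exact h'.2
  · exact h'.2

end Cfsg.Lib.SymEightThree
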