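import Cfsg.Agent.Lib.SymEightThree.CentV

set_option autoImplicit false

/-!
The pairs of permutations of five points of equal sign inside the exceptional group, and the
elementary abelian subgroup of order sixteen.
-/

namespace Cfsg.Lib.SymEightThree

open Equiv
open Cfsg.Lib.AltEightThree (c3 t34 d01 mem_cent_singleton)

set_option synthInstance.maxSize 2000
set_option maxRecDepth 10000

/-- The sign carried by the transposition (3 4). -/
def nt : Perm (Fin 5) →* Perm (Fin 5) where
  toFun τ := if Perm.sign τ = 1 then 1 else t34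
  map_one' := by simp
  map_mul' x y := by
    have h : t34 * t34 = 1 := by decide +kernel
    rcases Int.units_eq_one_or (Perm.sign x) with hx | hx <;>
      rcases Int.units_eq_one_or (Perm.sign y) with hy | hy <;> simp [map_mul, hx, hy, h]

theorem nt_one {τ : Perm (Fin 5)} (h : Perm.sign τ = 1) : nt τ = 1 := if_pos h

theorem nt_eq {a b : Perm (Fin 5)} (h : Perm.sign a = Perm.sign b) : nt a = nt b := by
  show (if Perm.sign a = 1 then _ else _) = (if Perm.sign b = 1 then _ else _)
  rw [h]

theorem nt_sq (τ : Perm (Fin 5)) : nt τ * nt τ = 1 := by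
  show (if Perm.sign τ = 1 then _ else _) * (if Perm.sign τ = 1 then _ else _) = (1 : Perm (Fin 5))
  split <;> decide +kernel

theorem sign_nt (τ : Perm (Fin 5)) : Perm.sign (τ * nt τ) = 1 := by
  rcases Int.units_eq_one_or (Perm.sign τ) with h | h
  · rw [nt_one h, mul_one, h]
  · show Perm.sign (τ * if Perm.sign τ = 1 then _ else _) = 1
    rw [if_neg (by rw [h]; decide), Perm.sign_mul, h, show Perm.sign t34 = -1 by decide +kernel]
    decide

/-- The pairs of permutations of equal sign. -/
def Pairs : Subgroup (Perm (Fin 5) × Perm (Fin 5)) where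
  carrier := {p | Perm.sign p.1 = Perm.sign p.2}
  one_mem' := rfl
  mul_mem' := fun {a b} ha hb => by
    show Perm.sign (a.1 * b.1) = Perm.sign (a.2 * b.2)
    rw [map_mul, map_mul, show Perm.sign a.1 = Perm.sign a.2 from ha, show Perm.sign b.1 = Perm.sign b.2 from hb]
  inv_mem' := fun {a} ha => by
    show Perm.sign a.1⁻¹ = Perm.sign a.2⁻¹
    rw [map_inv, map_inv, show Perm.sign a.1 = Perm.sign a.2 from ha]

theorem mem_Pairs {p : Perm (Fin 5) × Perm (Fin 5)} : p ∈ Pairs ↔ Perm.sign p.1 = Perm.sign p.2 := Iff.rfl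

theorem pair_mem {a b : Perm (Fin 5)} (h : Perm.sign a = Perm.sign b) : (a, b) ∈ Pairs := h

instance : DecidablePred (· ∈ Pairs) := fun p =>
  inferInstanceAs (Decidable (Perm.sign p.1 = Perm.sign p.2))

namespace Cfg

variable {G : Type*} [Group G] (S : Cfg G)

/-- The hypotheses of the exceptional configuration. -/
structure Exc : Prop where
  exc : S.IsExc
  cn : Subgroup.centralizer ({S.e sm} : Set G) = Subgroup.normalizer (S.DG : Set G)
  em_free : ¬ S.Cs (S.e em)

variable [Finite G] {S}

/-- The pairs inside the group. -/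
def Exc.psi (X : S.Exc) : Pairs →* G :=
  MonoidHom.mk' (fun p => S.five (p.1.1 * nt p.1.1) * S.cw (S.five (p.1.2 * nt p.1.2)) * S.five (nt p.1.1))
    (by
      rintro ⟨⟨a, b⟩, hab⟩ ⟨⟨c, d⟩, hcd⟩
      have hab' : nt a = nt b := nt_eq hab
      have hcd' : nt c = nt d := nt_eq hcd
      have hn : S.cw (S.five (nt a)) = S.five (nt a) := by
        show S.cw (S.five (if Perm.sign a = 1 then _ else _)) = S.five (if Perm.sign a = 1 then _ else _)
        split
        · rw [map_one, map_one]
        · exact S.cw_s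
      show S.five (a * c * nt (a * c)) * S.cw (S.five (b * d * nt (b * d))) * S.five (nt (a * c)) = _
      have hn2 : S.five (nt a) * S.five (nt a) = 1 := by rw [← map_mul, nt_sq, map_one]
      have e1 : S.five (a * c * nt (a * c)) =
          S.five (a * nt a) * (S.five (nt a) * S.five (c * nt c) * S.five (nt a)) := by
        rw [← map_mul, ← map_mul, ← map_mul, map_mul nt]
        congr 1
        have hcomm : nt a * nt c = nt c * nt a := by
          show (if Perm.sign a = 1 then _ else _) * (if Perm.sign c = 1 then _ else _) =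
            (if Perm.sign c = 1 then _ else _) * (if Perm.sign a = 1 then (1 : Perm (Fin 5)) else _)
          split <;> split <;> simp
        simp only [mul_assoc]
        rw [← mul_assoc (nt a) (nt a), nt_sq, one_mul, hcomm]
      have e2 : S.cw (S.five (b * d * nt (b * d))) =
          S.cw (S.five (b * nt b)) * (S.five (nt a) * S.cw (S.five (d * nt d)) * S.five (nt a)) := by
        conv_rhs => rw [← hn, ← map_mul, ← map_mul, ← map_mul, ← map_mul, ← map_mul, ← map_mul]
        rw [map_mul nt, hab']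
        congr 2
        have hcomm : nt b * nt d = nt d * nt b := by
          show (if Perm.sign b = 1 then _ else _) * (if Perm.sign d = 1 then _ else _) =
            (if Perm.sign d = 1 then _ else _) * (if Perm.sign b = 1 then (1 : Perm (Fin 5)) else _)
          split <;> split <;> simp
        simp only [mul_assoc]
        rw [← mul_assoc (nt b) (nt b), nt_sq, one_mul, hcomm]
      have hsw : Commute (S.five (nt a) * S.five (c * nt c) * S.five (nt a)) (S.cw (S.five (b * nt b))) := by
        rw [← map_mul, ← map_mul]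
        refine S.halves_comm X.exc X.cn ?_ (sign_nt b)
        rw [Perm.sign_mul, Perm.sign_mul, sign_nt c, mul_one, ← Perm.sign_mul, nt_sq, Perm.sign_one]
      rw [e1, e2, map_mul nt a c, map_mul S.five (nt a) (nt c)]
      calc S.five (a * nt a) * (S.five (nt a) * S.five (c * nt c) * S.five (nt a)) *
            (S.cw (S.five (b * nt b)) * (S.five (nt a) * S.cw (S.five (d * nt d)) * S.five (nt a))) *
            (S.five (nt a) * S.five (nt c))
          = S.five (a * nt a) * ((S.five (nt a) * S.five (c * nt c) * S.five (nt a)) *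
              S.cw (S.five (b * nt b))) * (S.five (nt a) * S.cw (S.five (d * nt d))) *
              ((S.five (nt a) * S.five (nt a)) * S.five (nt c)) := by simp only [mul_assoc]
        _ = S.five (a * nt a) * S.cw (S.five (b * nt b)) * S.five (nt a) * (S.five (c * nt c) *
              (S.five (nt a) * S.five (nt a)) * S.cw (S.five (d * nt d)) * S.five (nt c)) := by
            rw [hsw.eq, hn2, one_mul, mul_one]; simp only [mul_assoc]
            rw [← mul_assoc (S.five (nt a)) (S.five (nt a)), hn2, one_mul]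
        _ = _ := by rw [hn2, mul_one])

theorem Exc.psi_apply (X : S.Exc) (a b : Perm (Fin 5)) (h : (a, b) ∈ Pairs) :
    X.psi ⟨(a, b), h⟩ = S.five (a * nt a) * S.cw (S.five (b * nt b)) * S.five (nt a) := rfl

theorem Exc.psi_even (X : S.Exc) (a b : Perm (Fin 5)) (ha : Perm.sign a = 1) (hb : Perm.sign b = 1)
    (h : (a, b) ∈ Pairs) : X.psi ⟨(a, b), h⟩ = S.five a * S.cw (S.five b) := by
  rw [X.psi_apply, nt_one ha, nt_one hb, mul_one, mul_one, map_one, mul_one]

theorem Exc.cw_psi (X : S.Exc) (a b : Perm (Fin 5)) (h : (a, b) ∈ Pairs) (h' : (b, a) ∈ Pairs) :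
    S.cw (X.psi ⟨(a, b), h⟩) = X.psi ⟨(b, a), h'⟩ := by
  rw [X.psi_apply, X.psi_apply, map_mul, map_mul, S.cw_cw, nt_eq (h : Perm.sign a = Perm.sign b),
    (S.halves_comm X.exc X.cn (sign_nt b) (nt_eq (h : Perm.sign a = Perm.sign b) ▸ sign_nt a)).eq]
  congr 1
  show S.cw (S.five (if Perm.sign b = 1 then _ else _)) = S.five (if Perm.sign b = 1 then _ else _)
  split
  · rw [map_one, map_one]
  · exact S.cw_s

theorem Exc.psi_inj (X : S.Exc) : Function.Injective X.psi := by
  rw [injective_iff_map_eq_one]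
  rintro ⟨⟨a, b⟩, hab⟩ hp
  have key : ∀ x, Perm.sign x = 1 → a * x * a⁻¹ * x⁻¹ = 1 ∧ b * x * b⁻¹ * x⁻¹ = 1 := by
    intro x hx
    have hs : ∀ c : Perm (Fin 5), Perm.sign (c * x * c⁻¹ * x⁻¹) = 1 := fun c => by
      simp only [Perm.sign_mul, Perm.sign_inv, hx, mul_one, Int.units_mul_self]
    have hx1 : (x, (1 : Perm (Fin 5))) ∈ Pairs := pair_mem (hx.trans Perm.sign_one.symm)
    have hx2 : ((1 : Perm (Fin 5)), x) ∈ Pairs := pair_mem (Perm.sign_one.trans hx.symm)
    constructor
    · have h1 : X.psi ⟨(a * x * a⁻¹ * x⁻¹, 1), pair_mem ((hs a).trans Perm.sign_one.symm)⟩ = 1 := by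
        rw [show (⟨(a * x * a⁻¹ * x⁻¹, 1), _⟩ : Pairs) =
          ⟨(a, b), hab⟩ * ⟨(x, 1), hx1⟩ * (⟨(a, b), hab⟩ : Pairs)⁻¹ * (⟨(x, 1), hx1⟩ : Pairs)⁻¹ from
          Subtype.ext (Prod.ext rfl (by simp)), map_mul, map_mul, map_mul, hp, map_inv, map_inv, hp]
        group
      rw [X.psi_even _ _ (hs a) Perm.sign_one, map_one, map_one, mul_one] at h1
      exact S.five_inj (h1.trans (map_one _).symm)
    · have h1 : X.psi ⟨(1, b * x * b⁻¹ * x⁻¹), pair_mem (Perm.sign_one.trans (hs b).symm)⟩ = 1 := by
        rw [show (⟨(1, b * x * b⁻¹ * x⁻¹), _⟩ : Pairs) =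
          ⟨(a, b), hab⟩ * ⟨(1, x), hx2⟩ * (⟨(a, b), hab⟩ : Pairs)⁻¹ * (⟨(1, x), hx2⟩ : Pairs)⁻¹ from
          Subtype.ext (Prod.ext (by simp) rfl), map_mul, map_mul, map_mul, hp, map_inv, map_inv, hp]
        group
      rw [X.psi_even _ _ Perm.sign_one (hs b), map_one, one_mul] at h1
      exact S.five_inj ((S.cw.injective (h1.trans (map_one _).symm)).trans (map_one _).symm)
  have h1 := key c3 (by decide +kernel)
  have h2 := key x5 v4_facts.2.2.2.2.1
  refine Subtype.ext (Prod.ext (v4_facts.2.2.1 a ?_ ?_) (v4_facts.2.2.1 b ?_ ?_))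
  · exact mul_inv_eq_iff_eq_mul.1 (mul_inv_eq_one.1 h1.1)
  · exact mul_inv_eq_iff_eq_mul.1 (mul_inv_eq_one.1 h2.1)
  · exact mul_inv_eq_iff_eq_mul.1 (mul_inv_eq_one.1 h1.2)
  · exact mul_inv_eq_iff_eq_mul.1 (mul_inv_eq_one.1 h2.2)

end Cfg

end Cfsg.Lib.SymEightThree
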