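import Cfsg.Agent.Lib.SymEightThree.NormA

set_option autoImplicit false

/-!
The Sylow 2-subgroup of order sixty-four and the fusion in its elementary abelian subgroup.
-/

namespace Cfsg.Lib.SymEightThree

open Equiv
open Cfsg.Lib.AltEightThree (c3 t34 d01 mem_cent_singleton conj_mem_normalizer mem_normalizer_of_forall)

set_option synthInstance.maxSize 2000
set_option maxRecDepth 10000
attribute [local instance 2000] List.decidableBAll

instance : Finite L0 := Finite.of_equiv _ SemidirectProduct.equivProd.symm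

/-- The permutations of the Sylow 2-subgroup fixing the last point. -/
def d8l : List (Perm (Fin 5)) := v4l ++ v4l.map (t01 * ·)

/-- The model of the Sylow 2-subgroup. -/
def T0 : Subgroup L0 where
  carrier := {x | x.left.1.1 ∈ d8l ∧ x.left.1.2 ∈ d8l}
  one_mem' := ⟨by decide +kernel, by decide +kernel⟩
  mul_mem' := fun {x y} hx hy => by
    have h : ∀ a ∈ d8l, ∀ b ∈ d8l, a * b ∈ d8l := by decide +kernel
    show (x.left.1.1 * (swA x.right y.left).1.1) ∈ d8l ∧ (x.left.1.2 * (swA x.right y.left).1.2) ∈ d8l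
    rcases (by decide : ∀ i : Multiplicative (ZMod 2), i = 1 ∨ i = Multiplicative.ofAdd 1) x.right with e | e
    · rw [e, map_one]; exact ⟨h _ hx.1 _ hy.1, h _ hx.2 _ hy.2⟩
    · rw [e]; exact ⟨h _ hx.1 _ hy.2, h _ hx.2 _ hy.1⟩
  inv_mem' := fun {x} hx => by
    have h : ∀ a ∈ d8l, a⁻¹ ∈ d8l := by decide +kernel
    show (swA x.right⁻¹ x.left⁻¹).1.1 ∈ d8l ∧ (swA x.right⁻¹ x.left⁻¹).1.2 ∈ d8l
    rcases (by decide : ∀ i : Multiplicative (ZMod 2), i = 1 ∨ i = Multiplicative.ofAdd 1) x.right with e | e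
    · rw [e, inv_one, map_one]; exact ⟨h _ hx.1, h _ hx.2⟩
    · rw [e]; exact ⟨h _ hx.2, h _ hx.1⟩

instance : DecidablePred (· ∈ T0) := fun x =>
  inferInstanceAs (Decidable (x.left.1.1 ∈ d8l ∧ x.left.1.2 ∈ d8l))

/-- The elements of the model of `A`. -/
def al16 : List L0 :=
  [1, pr (swap 0 1 * swap 2 3) 1, pr (swap 0 2 * swap 1 3) 1, pr (swap 0 3 * swap 1 2) 1].flatMap fun x =>
    [1, pr 1 (swap 0 1 * swap 2 3), pr 1 (swap 0 2 * swap 1 3), pr 1 (swap 0 3 * swap 1 2)].map (x * ·)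

/-- The elements of the model of the Sylow 2-subgroup. -/
def t64l : List L0 := ks.flatMap fun k => al16.map (k * ·)

theorem lists64 : al16.Nodup ∧ al16.length = 16 ∧ t64l.Nodup ∧ t64l.length = 64 ∧
    (∀ x ∈ al16, x ∈ A0) ∧ (∀ x ∈ t64l, x ∈ T0) := by
  refine ⟨by decide +kernel, by decide +kernel, by decide +kernel, by decide +kernel, by decide +kernel,
    by decide +kernel⟩

theorem T0_scan : ∀ a ∈ d8l, ∀ b ∈ d8l, ∀ h : (a, b) ∈ Pairs, ∀ i : Multiplicative (ZMod 2),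
    let x : L0 := ⟨⟨(a, b), h⟩, i⟩
    x ∈ t64l ∧ (x ∈ A0 → x ∈ al16) := by
  decide +kernel

theorem mem_T0_list {x : L0} : x ∈ T0 ↔ x ∈ t64l := by
  refine ⟨fun h => ?_, lists64.2.2.2.2.2 x⟩
  obtain ⟨⟨⟨a, b⟩, hp⟩, i⟩ := x
  exact (T0_scan a h.1 b h.2 hp i).1

theorem A0_le_T0 : A0 ≤ T0 := fun _ hx =>
  ⟨List.mem_append_left _ hx.2.1, List.mem_append_left _ hx.2.2⟩

theorem mem_A0_list {x : L0} : x ∈ A0 ↔ x ∈ al16 := by
  refine ⟨fun h => ?_, lists64.2.2.2.2.1 x⟩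
  obtain ⟨⟨⟨a, b⟩, hp⟩, i⟩ := x
  exact (T0_scan a (A0_le_T0 h).1 b (A0_le_T0 h).2 hp i).2 h

theorem card_of_list {M : Type*} [Group M] [DecidableEq M] (H : Subgroup M) (l : List M) (hl : l.Nodup)
    (h : ∀ x, x ∈ H ↔ x ∈ l) : Nat.card H = l.length := by
  rw [Nat.card_congr (Equiv.subtypeEquivRight (q := fun x => x ∈ l.toFinset) fun x => by
    rw [List.mem_toFinset]; exact h x), Nat.card_eq_finsetCard, List.toFinset_card_of_nodup hl]

theorem card_A0 : Nat.card A0 = 16 := by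
  rw [card_of_list A0 al16 lists64.1 fun _ => mem_A0_list, lists64.2.1]

theorem card_T0 : Nat.card T0 = 64 := by
  rw [card_of_list T0 t64l lists64.2.2.1 fun _ => mem_T0_list, lists64.2.2.2.1]

theorem T0_cent :
    (∀ e ∈ t64l, e * e = 1 → e ∉ A0 → (al16.filter fun a => e * a = a * e).length = 4) ∧
    ∀ e ∈ t64l, ∀ e' ∈ t64l, e * e = 1 → e' * e' = 1 → e ∉ A0 → e' ∉ A0 → e⁻¹ * e' ∉ A0 →
      (al16.filter fun a => e * a = a * e ∧ e' * a = a * e').length ≤ 2 := by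
  refine ⟨by decide +kernel, by decide +kernel⟩

/-- The only elementary abelian subgroup of order sixteen of the Sylow 2-subgroup. -/
theorem T0_unique {E : Subgroup L0} (hE : E ≤ T0) (hcard : Nat.card E = 16) (hsq : ∀ x ∈ E, x * x = 1) :
    E = A0 := by
  classical
  by_contra hne
  obtain ⟨e, he, heA⟩ : ∃ e ∈ E, e ∉ A0 := by
    by_contra hcon
    push Not at hcon
    exact hne (Subgroup.eq_of_le_of_card_ge hcon (by rw [hcard, card_A0]))
  have hcomm : ∀ x ∈ E, ∀ y ∈ E, x * y = y * x := by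
    intro x hx y hy
    have h1 := hsq _ (E.mul_mem hx hy)
    rw [eq_inv_of_mul_eq_one_left h1, mul_inv_rev, inv_eq_of_mul_eq_one_right (hsq x hx),
      inv_eq_of_mul_eq_one_right (hsq y hy)]
  have hfac := Subgroup.index_mul_card (A0.subgroupOf E)
  rw [hcard] at hfac
  have hrel : A0.relIndex E ≤ 4 := by
    have h4 : A0.relIndex T0 = 4 := by
      have h' := Subgroup.index_mul_card (A0.subgroupOf T0)
      rw [card_T0, Nat.card_congr (Subgroup.subgroupOfEquivOfLe A0_le_T0).toEquiv, card_A0] at h'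
      show (A0.subgroupOf T0).index = 4
      omega
    rw [← h4]
    exact Subgroup.relIndex_le_of_le_right hE (by rw [h4]; norm_num)
  have hrel' : (A0.subgroupOf E).index ≤ 4 := hrel
  have hbound : ∀ l : List L0, (∀ x ∈ E, x ∈ A0 → x ∈ l) → Nat.card (A0.subgroupOf E) ≤ l.length := by
    intro l hl
    refine le_trans (Nat.card_le_card_of_injective (β := (l.toFinset : Finset L0))
      (fun x => ⟨x.1.1, List.mem_toFinset.2 (hl _ x.1.2 x.2)⟩)
      fun x y h => Subtype.ext (Subtype.ext (congrArg (fun t : (l.toFinset : Finset L0) => t.1) h))) ?_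
    rw [Nat.card_eq_finsetCard]
    exact List.toFinset_card_le l
  by_cases h' : ∃ e' ∈ E, e' ∉ A0 ∧ e⁻¹ * e' ∉ A0
  · obtain ⟨e', he', he'A, hee'⟩ := h'
    have h2 := hbound (al16.filter fun a => e * a = a * e ∧ e' * a = a * e') fun x hx hxA =>
      List.mem_filter.2 ⟨mem_A0_list.1 hxA, decide_eq_true ⟨hcomm e he x hx, hcomm e' he' x hx⟩⟩
    have h3 := T0_cent.2 e (mem_T0_list.1 (hE he)) e' (mem_T0_list.1 (hE he')) (hsq e he) (hsq e' he')
      heA he'A hee'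
    have : (A0.subgroupOf E).index * Nat.card (A0.subgroupOf E) ≤ 4 * 2 :=
      Nat.mul_le_mul hrel' (h2.trans h3)
    omega
  · push Not at h'
    have h2 := hbound (al16.filter fun a => e * a = a * e) fun x hx hxA =>
      List.mem_filter.2 ⟨mem_A0_list.1 hxA, decide_eq_true (hcomm e he x hx)⟩
    rw [T0_cent.1 e (mem_T0_list.1 (hE he)) (hsq e he) heA] at h2
    have hidx : (A0.subgroupOf E).index = 2 := by
      rw [Subgroup.index_eq_two_iff']
      refine ⟨⟨e, he⟩, fun g => ?_⟩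
      simp only [Subgroup.mem_subgroupOf, Subgroup.coe_mul]
      by_cases hg : (g : L0) ∈ A0
      · exact Or.inr ⟨hg, fun hh => heA (by
          have := A0.mul_mem (A0.inv_mem hg) hh
          rwa [hcomm e he g g.2, inv_mul_cancel_left] at this)⟩
      · refine Or.inl ⟨?_, hg⟩
        have := h' g g.2 hg
        rwa [inv_eq_of_mul_eq_one_right (hsq e he)] at this
    rw [hidx] at hfac
    omega

/-- The elements of `A` with one trivial component. -/
def vt (x : L0) : Prop := x ∈ A0 ∧ x ≠ 1 ∧ (x.left.1.1 = 1 ∨ x.left.1.2 = 1)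

instance : DecidablePred vt := fun x =>
  inferInstanceAs (Decidable (x ∈ A0 ∧ x ≠ 1 ∧ (x.left.1.1 = 1 ∨ x.left.1.2 = 1)))

theorem vt_conj {n x : L0} (hn : n ∈ N0) (hx : vt x) : vt (n * x * n⁻¹) := by
  refine ⟨N0_normalises hn hx.1, fun e => hx.2.1 (conj_eq_one_iff.1 e), ?_⟩
  rw [conj_formula n x hx.1.1]
  rcases (by decide : ∀ i : Multiplicative (ZMod 2), i = 1 ∨ i = Multiplicative.ofAdd 1) n.right with e | e <;>
    rw [e] <;> rcases hx.2.2 with h | h
  · left; show n.left.1.1 * _ * n.left.1.1⁻¹ = 1; rw [map_one, MulAut.one_apply, h, mul_one, mul_inv_cancel]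
  · right; show n.left.1.2 * _ * n.left.1.2⁻¹ = 1; rw [map_one, MulAut.one_apply, h, mul_one, mul_inv_cancel]
  · right; show n.left.1.2 * x.left.1.1 * n.left.1.2⁻¹ = 1; rw [h, mul_one, mul_inv_cancel]
  · left; show n.left.1.1 * x.left.1.2 * n.left.1.1⁻¹ = 1; rw [h, mul_one, mul_inv_cancel]

/-- Fusion in a weakly closed abelian subgroup of a Sylow subgroup is controlled by its normaliser. -/
theorem fusion_weakly_closed {G : Type*} [Group G] [Finite G] (P : Sylow 2 G) (A : Subgroup G)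
    (hAP : A ≤ (P : Subgroup G)) (hAc : ∀ a ∈ A, ∀ b ∈ A, a * b = b * a)
    (hwc : ∀ g : G, (∀ a ∈ A, g * a * g⁻¹ ∈ (P : Subgroup G)) → g ∈ Subgroup.normalizer (A : Set G))
    {x : G} (hx : x ∈ A) {g : G} (hy : g * x * g⁻¹ ∈ A) :
    ∃ n ∈ Subgroup.normalizer (A : Set G), n * x * n⁻¹ = g * x * g⁻¹ := by
  haveI : Fact (Nat.Prime 2) := ⟨Nat.prime_two⟩
  set C := Subgroup.centralizer ({g * x * g⁻¹} : Set G) with hC
  have hAC : A ≤ C := fun a ha => mem_cent_singleton.2 (hAc a ha _ hy)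
  set B := A.map (MulAut.conj g).toMonoidHom with hB
  have hBC : B ≤ C := by
    rintro _ ⟨a, ha, rfl⟩
    refine mem_cent_singleton.2 ?_
    show g * a * g⁻¹ * (g * x * g⁻¹) = g * x * g⁻¹ * (g * a * g⁻¹)
    calc _ = g * (a * x) * g⁻¹ := by group
      _ = _ := by rw [hAc a ha x hx]; group
  have hA2 : IsPGroup 2 (A.subgroupOf C) :=
    (P.2.to_le hAP).of_equiv (Subgroup.subgroupOfEquivOfLe hAC).symm
  have hB2 : IsPGroup 2 (B.subgroupOf C) :=
    ((P.2.to_le hAP).map (MulAut.conj g).toMonoidHom).of_equiv (Subgroup.subgroupOfEquivOfLe hBC).symm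
  obtain ⟨SA, hSA⟩ := hA2.exists_le_sylow
  obtain ⟨SB, hSB⟩ := hB2.exists_le_sylow
  obtain ⟨c, hc⟩ := MulAction.exists_smul_eq C SB SA
  obtain ⟨P', hP'⟩ := (SA.2.map C.subtype).exists_le_sylow
  obtain ⟨k, hk⟩ := MulAction.exists_smul_eq G P' P
  have hkP : ∀ y ∈ (P' : Subgroup G), k * y * k⁻¹ ∈ (P : Subgroup G) := fun y hy => by
    rw [← hk]; exact Subgroup.smul_mem_pointwise_smul _ (MulAut.conj k) _ hy
  have h1 : k ∈ Subgroup.normalizer (A : Set G) := hwc k fun a ha =>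
    hkP _ (hP' ⟨⟨a, hAC ha⟩, hSA (Subgroup.mem_subgroupOf.2 ha), rfl⟩)
  have h2 : k * (c : G) * g ∈ Subgroup.normalizer (A : Set G) := by
    refine hwc _ fun a ha => ?_
    have hb : g * a * g⁻¹ ∈ B := ⟨a, ha, rfl⟩
    have h3 : c * ⟨g * a * g⁻¹, hBC hb⟩ * c⁻¹ ∈ (SA : Subgroup C) := by
      rw [← hc]
      exact Subgroup.smul_mem_pointwise_smul _ (MulAut.conj c) _ (hSB (Subgroup.mem_subgroupOf.2 hb))
    have h4 := hkP _ (hP' (Subgroup.mem_map_of_mem C.subtype h3))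
    simp only [Subgroup.subtype_apply, Subgroup.coe_mul, InvMemClass.coe_inv] at h4
    rwa [show k * (c : G) * g * a * (k * (c : G) * g)⁻¹ = k * ((c : G) * (g * a * g⁻¹) * (c : G)⁻¹) * k⁻¹ by
      group]
  refine ⟨k⁻¹ * (k * (c : G) * g), mul_mem (inv_mem h1) h2, ?_⟩
  rw [show k⁻¹ * (k * (c : G) * g) = (c : G) * g by group]
  have hcy : (c : G) * (g * x * g⁻¹) = g * x * g⁻¹ * (c : G) := mem_cent_singleton.1 c.2
  calc (c : G) * g * x * ((c : G) * g)⁻¹ = (c : G) * (g * x * g⁻¹) * (c : G)⁻¹ := by group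
    _ = _ := by rw [hcy, mul_inv_cancel_right]

namespace Cfg

variable {G : Type*} [Group G] [Finite G] {S : Cfg G}

/-- The Sylow 2-subgroup. -/
def Exc.TG (X : S.Exc) : Subgroup G := T0.map X.lf

theorem Exc.card_map_lf (X : S.Exc) (H : Subgroup L0) : Nat.card (H.map X.lf) = Nat.card H :=
  (Nat.card_congr (H.equivMapOfInjective X.lf X.lf_inj).toEquiv).symm

theorem Exc.card_AG (X : S.Exc) : Nat.card X.AG = 16 :=
  (X.card_map_lf A0).trans card_A0

theorem Exc.AG_sq (X : S.Exc) : ∀ a ∈ X.AG, a * a = 1 := by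
  rintro _ ⟨a, ha, rfl⟩
  rw [← map_mul, (by decide +kernel : ∀ a ∈ al16, a * a = 1) a (mem_A0_list.1 ha), map_one]

theorem Exc.TG_unique (X : S.Exc) {E : Subgroup G} (hE : E ≤ X.TG) (hcard : Nat.card E = 16)
    (hsq : ∀ x ∈ E, x * x = 1) : E = X.AG := by
  have hER : E ≤ X.lf.range := hE.trans (Subgroup.map_le_range X.lf T0)
  have he : (E.comap X.lf).map X.lf = E := Subgroup.map_comap_eq_self hER
  have h0 : E.comap X.lf = A0 := by
    refine T0_unique (fun x hx => ?_) ?_ fun x hx => X.lf_inj ?_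
    · obtain ⟨t, ht, e⟩ := hE hx
      exact X.lf_inj e ▸ ht
    · rw [← X.card_map_lf (E.comap X.lf), he, hcard]
    · rw [map_mul, hsq _ hx, map_one]
  rw [← he, h0, Exc.AG]

theorem Exc.AG_le_TG (X : S.Exc) : X.AG ≤ X.TG := Subgroup.map_mono A0_le_T0

theorem Exc.AG_weakly (X : S.Exc) {g : G} (h : ∀ a ∈ X.AG, g * a * g⁻¹ ∈ X.TG) :
    g ∈ Subgroup.normalizer (X.AG : Set G) := by
  have hle : X.AG.map (MulAut.conj g).toMonoidHom ≤ X.TG := by
    rintro _ ⟨a, ha, rfl⟩; exact h a ha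
  have e := X.TG_unique hle (by rw [Subgroup.card_map_of_injective (MulAut.conj g).injective, X.card_AG]) (by
    rintro _ ⟨a, ha, rfl⟩
    rw [← map_mul, X.AG_sq a ha, map_one])
  exact mem_normalizer_of_forall fun a ha =>
    e.le (⟨a, ha, rfl⟩ : g * a * g⁻¹ ∈ X.AG.map (MulAut.conj g).toMonoidHom)

theorem Exc.card_TG (X : S.Exc) : Nat.card X.TG = 64 :=
  (X.card_map_lf T0).trans card_T0

theorem Exc.TG_two (X : S.Exc) : IsPGroup 2 X.TG :=
  IsPGroup.of_card (n := 6) (by rw [X.card_TG]; norm_num)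

set_option maxHeartbeats 1600000 in
/-- The Sylow 2-subgroup as a Sylow subgroup. -/
theorem Exc.TG_sylow (X : S.Exc) : ∃ P : Sylow 2 G, (P : Subgroup G) = X.TG := by
  haveI : Fact (Nat.Prime 2) := ⟨Nat.prime_two⟩
  obtain ⟨P, hP⟩ := X.TG_two.exists_le_sylow
  refine ⟨P, le_antisymm ?_ hP⟩
  by_contra hne
  have hlt : X.TG.subgroupOf (P : Subgroup G) < ⊤ := lt_top_iff_ne_top.2 fun h => hne (Subgroup.subgroupOf_eq_top.1 h)
  haveI : Group.IsNilpotent (P : Subgroup G) := P.2.isNilpotent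
  obtain ⟨g, hgn, hgT⟩ := SetLike.exists_of_lt (Group.normalizerCondition_of_isNilpotent _ hlt)
  rw [Subgroup.mem_subgroupOf] at hgT
  have hTn : ∀ t ∈ X.TG, (g : G) * t * (g : G)⁻¹ ∈ X.TG := fun t ht =>
    Subgroup.mem_subgroupOf.1 (conj_mem_normalizer hgn (show (⟨t, hP ht⟩ : (P : Subgroup G)) ∈
      X.TG.subgroupOf (P : Subgroup G) from Subgroup.mem_subgroupOf.2 ht))
  have hgN : (g : G) ∈ N0.map X.lf :=
    X.norm_A ▸ X.AG_weakly fun a ha => hTn a (X.AG_le_TG ha)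
  set W := X.TG ⊔ Subgroup.zpowers (g : G)
  have hWN : W ≤ N0.map X.lf := by
    refine sup_le ?_ (Subgroup.zpowers_le.2 hgN)
    rintro _ ⟨t, ht, rfl⟩
    refine ⟨t, ⟨?_, ?_⟩, rfl⟩
    · exact (by decide +kernel : ∀ a ∈ d8l, a 4 = 4) _ ht.1
    · exact (by decide +kernel : ∀ a ∈ d8l, a 4 = 4) _ ht.2
  have hW2 : IsPGroup 2 W := P.2.to_le (sup_le hP (Subgroup.zpowers_le.2 g.2))
  obtain ⟨n, hn⟩ := IsPGroup.iff_card.1 hW2
  have h576 : Nat.card (N0.map X.lf) = 576 := by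
    rw [X.card_map_lf, Nat.card_congr
      { toFun := fun x : N0 => ((⟨(x.1.left.1.1, x.1.left.1.2), x.1.left.2, x.2.1, x.2.2⟩ :
          {p : Perm (Fin 5) × Perm (Fin 5) // Perm.sign p.1 = Perm.sign p.2 ∧ p.1 4 = 4 ∧ p.2 4 = 4}), x.1.right)
        invFun := fun y => ⟨⟨⟨y.1.1, y.1.2.1⟩, y.2⟩, y.1.2.2⟩
        left_inv := fun _ => rfl
        right_inv := fun _ => rfl }, Nat.card_prod, Nat.card_eq_fintype_card, Nat.card_eq_fintype_card]
    decide +kernel
  have hdvd := Subgroup.card_dvd_of_le hWN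
  rw [h576, hn] at hdvd
  have h6 : n ≤ 6 := by
    by_contra h7
    exact absurd ((pow_dvd_pow 2 (by omega : 7 ≤ n)).trans hdvd) (by decide)
  have hTW : X.TG = W := by
    refine Subgroup.eq_of_le_of_card_ge le_sup_left ?_
    rw [hn, X.card_TG]
    exact (Nat.pow_le_pow_right (by norm_num) h6).trans (by norm_num)
  exact hgT (hTW ▸ Subgroup.mem_sup_right (Subgroup.mem_zpowers _))

/-- Conjugation preserves the two types of elements of `A`. -/
theorem Exc.type_fusion (X : S.Exc) {x y : L0} (hy : y ∈ A0) (hx : vt x)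
    (h : IsConj (X.lf x) (X.lf y)) : vt y := by
  obtain ⟨P, hP⟩ := X.TG_sylow
  obtain ⟨g, hg⟩ := isConj_iff.1 h
  obtain ⟨n, hn, hne⟩ := fusion_weakly_closed P X.AG (hP ▸ X.AG_le_TG) (by
      rintro _ ⟨a, ha, rfl⟩ _ ⟨b, hb, rfl⟩
      rw [← map_mul, ← map_mul,
        (by decide +kernel : ∀ a ∈ al16, ∀ b ∈ al16, a * b = b * a) a (mem_A0_list.1 ha) b (mem_A0_list.1 hb)])
    (fun g hg' => X.AG_weakly (hP ▸ hg')) (X.mem_AG.2 hx.1) (hg ▸ X.mem_AG.2 hy)
  rw [X.norm_A] at hn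
  obtain ⟨n0, hn0, rfl⟩ := hn
  rw [hg, ← map_inv, ← map_mul, ← map_mul] at hne
  exact X.lf_inj hne ▸ vt_conj hn0 hx

end Cfg

end Cfsg.Lib.SymEightThree
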