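import Cfsg.Agent.Lib.SymEightThree.SylowTwo
import Cfsg.Agent.S0111

set_option autoImplicit false

/-!
The first transfer: a subgroup of index two avoiding `s`.
-/

namespace Cfsg.Lib.SymEightThree

open Equiv
open Cfsg.Lib.AltEightThree (c3 t34 d01 mem_cent_singleton conj_mem_normalizer mem_normalizer_of_forall)

set_option synthInstance.maxSize 2000
set_option maxRecDepth 10000
attribute [local instance 2000] List.decidableBAll

/-- The model of `A⟨w⟩`. -/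
def Q0 : Subgroup L0 where
  carrier := {x | x.left.1.1 ∈ v4l ∧ x.left.1.2 ∈ v4l}
  one_mem' := ⟨v4.one_mem, v4.one_mem⟩
  mul_mem' := fun {x y} hx hy => by
    show (x.left.1.1 * (swA x.right y.left).1.1) ∈ v4 ∧ (x.left.1.2 * (swA x.right y.left).1.2) ∈ v4
    rcases (by decide : ∀ i : Multiplicative (ZMod 2), i = 1 ∨ i = Multiplicative.ofAdd 1) x.right with e | e
    · rw [e, map_one]; exact ⟨v4.mul_mem hx.1 hy.1, v4.mul_mem hx.2 hy.2⟩
    · rw [e]; exact ⟨v4.mul_mem hx.1 hy.2, v4.mul_mem hx.2 hy.1⟩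
  inv_mem' := fun {x} hx => by
    show (swA x.right⁻¹ x.left⁻¹).1.1 ∈ v4 ∧ (swA x.right⁻¹ x.left⁻¹).1.2 ∈ v4
    rcases (by decide : ∀ i : Multiplicative (ZMod 2), i = 1 ∨ i = Multiplicative.ofAdd 1) x.right with e | e
    · rw [e, inv_one, map_one]; exact ⟨v4.inv_mem hx.1, v4.inv_mem hx.2⟩
    · rw [e]; exact ⟨v4.inv_mem hx.2, v4.inv_mem hx.1⟩

instance : DecidablePred (· ∈ Q0) := fun x =>
  inferInstanceAs (Decidable (x.left.1.1 ∈ v4l ∧ x.left.1.2 ∈ v4l))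

/-- The model of `A⟨e₂⟩`. -/
def Qe : Subgroup L0 where
  carrier := {x | x.right = 1 ∧ x ∈ T0}
  one_mem' := ⟨rfl, T0.one_mem⟩
  mul_mem' := fun {x y} hx hy => ⟨by show x.right * y.right = 1; rw [hx.1, hy.1, mul_one], T0.mul_mem hx.2 hy.2⟩
  inv_mem' := fun {x} hx => ⟨by show x.right⁻¹ = 1; rw [hx.1, inv_one], T0.inv_mem hx.2⟩

instance : DecidablePred (· ∈ Qe) := fun x => inferInstanceAs (Decidable (x.right = 1 ∧ x ∈ T0))

/-- The elements of the model of `A⟨w⟩`. -/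
def q0l : List L0 := al16 ++ al16.map (w0 * ·)

theorem Q0_le : Q0 ≤ T0 := fun _ hx => ⟨List.mem_append_left _ hx.1, List.mem_append_left _ hx.2⟩

theorem Qe_le : Qe ≤ T0 := fun _ hx => hx.2

theorem q_scan : (∀ x ∈ q0l, x ∈ Q0) ∧ q0l.Nodup ∧ q0l.length = 32 ∧
    (∀ x ∈ t64l, x ∈ Q0 → x ∈ q0l) ∧
    (t64l.filter fun x => x ∈ Qe).length = 32 ∧ e20 ∈ T0 ∧ e20 ∉ Q0 ∧ w0 ∈ T0 ∧ w0 ∉ Qe ∧ e20 ∈ Qe ∧
    e20 ∉ A0 ∧ e20 * e20 = 1 := by
  refine ⟨by decide +kernel, by decide +kernel, by decide +kernel, by decide +kernel, by decide +kernel,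
    by decide +kernel, by decide +kernel, by decide +kernel, by decide +kernel, by decide +kernel,
    by decide +kernel, by decide +kernel⟩

theorem mem_Q0_list {x : L0} : x ∈ Q0 ↔ x ∈ q0l :=
  ⟨fun h => q_scan.2.2.2.1 x (mem_T0_list.1 (Q0_le h)) h, q_scan.1 x⟩

theorem card_Q0 : Nat.card Q0 = 32 := by
  rw [card_of_list Q0 q0l q_scan.2.1 fun _ => mem_Q0_list, q_scan.2.2.1]

theorem card_Qe : Nat.card Qe = 32 := by
  rw [card_of_list Qe (t64l.filter fun x => x ∈ Qe) (lists64.2.2.1.filter _) fun x => ?_, q_scan.2.2.2.2.1]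
  rw [List.mem_filter, decide_eq_true_iff, ← mem_T0_list]
  exact ⟨fun h => ⟨Qe_le h, h⟩, fun h => h.2⟩

theorem Q_classes : (∀ x ∈ q0l, x * x = 1 → x ∈ A0 ∨ ∃ a ∈ al16, a * x * a⁻¹ = w0) ∧
    (∀ v ∈ v4l, v ≠ 1 → ∃ g : Perm (Fin 5), Perm.sign g = 1 ∧ g * v * g⁻¹ = d01) ∧
    (∀ t ∈ d8l, Perm.sign t = -1 → t * t = 1 →
      ∃ g : Perm (Fin 5), Perm.sign g = 1 ∧ g * t34 * g⁻¹ = t) ∧
    (∀ t ∈ d8l, t ∈ v4l ∨ Perm.sign t = -1) := by
  refine ⟨by decide +kernel, by decide +kernel, by decide +kernel, by decide +kernel⟩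

namespace Cfg

variable {G : Type*} [Group G] [Finite G] {S : Cfg G}

theorem Exc.not_cs_one (X : S.Exc) : ¬ S.Cs (1 : G) := by
  intro h
  exact absurd (X.lf_inj ((X.lf_s.trans (isConj_one_left.1 h)).trans (map_one X.lf).symm)) (by decide +kernel)

/-- No element of `A` is conjugate to `s`. -/
theorem Exc.A_not_cs (X : S.Exc) {x : L0} (hx : x ∈ A0) : ¬ S.Cs (X.lf x) := by
  obtain ⟨⟨⟨a, b⟩, hp⟩, i⟩ := x
  obtain ⟨rfl, ha, hb⟩ := hx
  have key : ∀ g1 g2 : Perm (Fin 5), Perm.sign g1 = 1 → Perm.sign g2 = 1 → ∀ a' b' : Perm (Fin 5),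
      g1 * a * g1⁻¹ = a' → g2 * b * g2⁻¹ = b' → ∀ h' : Perm.sign a' = Perm.sign b',
      ¬ S.Cs (X.lf (pr a' b' h')) → ¬ S.Cs (X.lf ⟨⟨(a, b), hp⟩, 1⟩) := by
    intro g1 g2 h1 h2 a' b' ea eb h' hn hc
    apply hn
    have := S.cs_conj (X.lf ⟨⟨(g1, g2), pair_mem (h1.trans h2.symm)⟩, 1⟩) hc
    rw [← map_inv, ← map_mul, ← map_mul, conj_formula _ _ rfl] at this
    convert this using 2
    exact SemidirectProduct.ext (Subtype.ext (Prod.ext ea.symm eb.symm)) rfl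
  have hem : ¬ S.Cs (X.lf (pr d01 d01)) := by
    rw [show pr d01 d01 = pr d01 1 * pr 1 d01 by decide +kernel, map_mul, X.lf_am.1, X.lf_am.2, ← map_mul,
      show am * gm = em by decide +kernel]
    exact X.em_free
  by_cases ha1 : a = 1
  · by_cases hb1 : b = 1
    · subst ha1 hb1
      rw [show (⟨⟨(1, 1), hp⟩, 1⟩ : L0) = 1 from rfl, map_one]
      exact X.not_cs_one
    · obtain ⟨g, hg, hgb⟩ := Q_classes.2.1 b hb hb1
      refine key 1 g Perm.sign_one hg 1 d01 (by rw [ha1]; group) hgb (by decide +kernel) ?_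
      rw [X.lf_am.2]; exact S.not_cs_exc X.exc
  · obtain ⟨g, hg, hga⟩ := Q_classes.2.1 a ha ha1
    by_cases hb1 : b = 1
    · refine key g 1 hg Perm.sign_one d01 1 hga (by rw [hb1]; group) (by decide +kernel) ?_
      rw [X.lf_am.1]; exact S.not_cs_a
    · obtain ⟨g', hg', hgb⟩ := Q_classes.2.1 b hb hb1
      exact key g g' hg hg' d01 d01 hga hgb rfl hem

/-- Involutions of `A⟨e₂⟩` outside `A` are conjugate to `s`. -/
theorem Exc.Qe_cs (X : S.Exc) {x : L0} (hx : x ∈ Qe) (hxA : x ∉ A0) (h2 : x * x = 1) :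
    S.Cs (X.lf x) := by
  obtain ⟨⟨⟨a, b⟩, hp⟩, i⟩ := x
  obtain ⟨rfl, ha, hb⟩ := hx
  have hodd : Perm.sign a = -1 ∧ Perm.sign b = -1 := by
    have hab : Perm.sign a = Perm.sign b := hp
    rcases Q_classes.2.2.2 a ha with h | h
    · rcases Q_classes.2.2.2 b hb with h' | h'
      · exact absurd ⟨rfl, h, h'⟩ hxA
      · exact ⟨hab.trans h', h'⟩
    · exact ⟨h, hab ▸ h⟩
  obtain ⟨g, hg, hga⟩ := Q_classes.2.2.1 a ha hodd.1 (congrArg (fun y : L0 => y.left.1.1) h2)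
  obtain ⟨g', hg', hgb⟩ := Q_classes.2.2.1 b hb hodd.2 (congrArg (fun y : L0 => y.left.1.2) h2)
  have h0 : S.Cs (X.lf s0) := by rw [X.lf_s]; exact S.cs_s
  have := S.cs_conj (X.lf ⟨⟨(g, g'), pair_mem (hg.trans hg'.symm)⟩, 1⟩) h0
  rw [← map_inv, ← map_mul, ← map_mul, conj_formula _ _ rfl] at this
  convert this using 2
  exact SemidirectProduct.ext (Subtype.ext (Prod.ext hga.symm hgb.symm)) rfl

theorem Exc.relIndex_two (X : S.Exc) (Q : Subgroup L0) (hQ : Q ≤ T0) (hc : Nat.card Q = 32) :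
    (Q.map X.lf).relIndex X.TG = 2 := by
  have hle : Q.map X.lf ≤ X.TG := Subgroup.map_mono hQ
  have h := Subgroup.index_mul_card ((Q.map X.lf).subgroupOf X.TG)
  rw [X.card_TG, Nat.card_congr (Subgroup.subgroupOfEquivOfLe hle).toEquiv, X.card_map_lf, hc] at h
  show ((Q.map X.lf).subgroupOf X.TG).index = 2
  omega

theorem Exc.orderOf_lf (X : S.Exc) {x : L0} (h : x * x = 1) (h1 : x ≠ 1) : orderOf (X.lf x) = 2 := by
  haveI : Fact (Nat.Prime 2) := ⟨Nat.prime_two⟩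
  exact orderOf_eq_prime (by rw [← map_pow, pow_two, h, map_one]) fun e =>
    h1 (X.lf_inj (e.trans (map_one _).symm))

/-- The first transfer. -/
theorem Exc.exists_K1 (X : S.Exc) : ∃ K : Subgroup G, K.Normal ∧ K.index = 2 ∧ S.e sm ∉ K := by
  obtain ⟨P, hP⟩ := X.TG_sylow
  have hu : S.Cs (X.lf e20) := X.Qe_cs q_scan.2.2.2.2.2.2.2.2.2.1 q_scan.2.2.2.2.2.2.2.2.2.2.1
    q_scan.2.2.2.2.2.2.2.2.2.2.2
  rcases Cfsg.Agent.S0111.result P (Q0.map X.lf) (hP ▸ Subgroup.map_mono Q0_le)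
    (by rw [hP]; exact X.relIndex_two Q0 Q0_le card_Q0) (X.lf e20)
    (X.orderOf_lf q_scan.2.2.2.2.2.2.2.2.2.2.2 (by decide +kernel))
    (hP ▸ ⟨e20, q_scan.2.2.2.2.2.1, rfl⟩)
    (fun ⟨y, hy, e⟩ => q_scan.2.2.2.2.2.2.1 (X.lf_inj e ▸ hy)) with ⟨M, hM, hM2, huM⟩ | ⟨g, y, hy, hye⟩
  · refine ⟨M, hM, hM2, fun hs => huM ?_⟩
    obtain ⟨g, hg⟩ := isConj_iff.1 hu
    rw [← hg]
    exact hM.conj_mem _ hs g
  · exfalso
    have hcy : S.Cs (X.lf y) := hye ▸ S.cs_conj g hu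
    have hy2 : y * y = 1 := by
      refine X.lf_inj ?_
      rw [map_mul, hye, map_one]
      have e2 : X.lf e20 * X.lf e20 = 1 := by rw [← map_mul, q_scan.2.2.2.2.2.2.2.2.2.2.2, map_one]
      calc g * X.lf e20 * g⁻¹ * (g * X.lf e20 * g⁻¹) = g * (X.lf e20 * X.lf e20) * g⁻¹ := by group
        _ = 1 := by rw [e2]; group
    rcases Q_classes.1 y (mem_Q0_list.1 hy) hy2 with h | ⟨a, -, ha⟩
    · exact X.A_not_cs h hcy
    · refine S.not_cs_w ?_
      rw [← X.lf_w, ← ha, map_mul, map_mul, map_inv]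
      exact S.cs_conj _ hcy

end Cfg

end Cfsg.Lib.SymEightThree
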