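import Cfsg.Agent.Lib.SymEightThree.EightElem

set_option autoImplicit false

/-!
The second transfer: a subgroup of index two avoiding `w`.
-/

namespace Cfsg.Lib.SymEightThree

open Equiv
open Cfsg.Lib.AltEightThree (c3 t34 d01 mem_cent_singleton conj_mem_normalizer mem_normalizer_of_forall)

set_option synthInstance.maxSize 2000
set_option maxRecDepth 10000

theorem fix4_of_even : ∀ τ : Perm (Fin 5), Perm.sign τ = 1 → (∀ v ∈ v4l, τ * v * τ⁻¹ ∈ v4l) → τ 4 = 4 :=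
  fun τ _ => fix4_facts.2.2.1 τ

theorem zl_right : ∀ z ∈ zl, (w0 * z).right ≠ 1 := by decide +kernel

theorem two_cases : ∀ i : Multiplicative (ZMod 2), i = 1 ∨ i = Multiplicative.ofAdd 1 := by decide

theorem rot_gen_facts : ((z0 * u0).right = 1 ∧ (z0 * u0).left.1.1 = (z0 * u0).left.1.2 ∧
    (z0 * u0).left.1.1 = c3 ∧ ((z0 * u0) ^ 2).left.1.1 = c3 * c3) ∧
    ∀ b ∈ zl, b.right = 1 ∧ b.left.1.1 = b.left.1.2 := by
  decide +kernel

theorem exists_odd_even : ∃ q : Perm (Fin 5), q * q = x5 := by decide +kernel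

namespace Cfg

variable {G : Type*} [Group G] [Finite G] {S : Cfg G}

/-- Membership in the subgroup of index two avoiding `s` and containing `w`. -/
theorem Exc.mem_K1 (X : S.Exc) {K : Subgroup G} [hKn : K.Normal] (hK : K.index = 2) (hs : S.e sm ∉ K)
    (hw : S.w ∈ K) (x : L0) : X.lf x ∈ K ↔ Perm.sign x.left.1.1 = 1 := by
  have hsq : ∀ g : G, g * g ∈ K := fun g => by
    rw [Subgroup.mul_mem_iff_of_index_two hK]
  have hfive : ∀ a, Perm.sign a = 1 → S.five a ∈ K := by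
    refine alt_le (H := K.comap S.five) ?_ ?_
    · obtain ⟨q, hq⟩ := exists_odd_even
      show S.five x5 ∈ K
      rw [← hq, map_mul]; exact hsq _
    · show S.five c3 ∈ K
      rw [show c3 = (c3 * c3) * (c3 * c3) by decide +kernel, map_mul]; exact hsq _
  have heven : ∀ a b : Perm (Fin 5), Perm.sign a = 1 → Perm.sign b = 1 → S.five a * S.cw (S.five b) ∈ K := by
    intro a b ha hb
    refine mul_mem (hfive a ha) ?_
    rw [cw, MulAut.conj_apply]
    exact hKn.conj_mem _ (hfive b hb) _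
  obtain ⟨⟨⟨a, b⟩, hp⟩, i⟩ := x
  have hp' : Perm.sign a = Perm.sign b := hp
  have hsplit : ∀ j, (⟨⟨(a, b), hp⟩, j⟩ : L0) = ⟨⟨(a, b), hp⟩, 1⟩ * ⟨1, j⟩ := fun j =>
    SemidirectProduct.ext (by simp) (by simp)
  have hone : X.lf ⟨⟨(a, b), hp⟩, 1⟩ ∈ K ↔ Perm.sign a = 1 := by
    rcases Int.units_eq_one_or (Perm.sign a) with h | h
    · rw [X.lf_apply, X.psi_even a b h (hp' ▸ h)]
      exact iff_of_true (heven a b h (hp' ▸ h)) h
    · have ha : Perm.sign (a * t34) = 1 := by rw [Perm.sign_mul, h, model_coords.2.1]; decide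
      have hb : Perm.sign (b * t34) = 1 := by rw [Perm.sign_mul, ← hp', h, model_coords.2.1]; decide
      have e : (⟨⟨(a, b), hp⟩, 1⟩ : L0) = pr (a * t34) (b * t34) (ha.trans hb.symm) * s0 := by
        have ht : t34 * t34 = 1 := by decide +kernel
        refine SemidirectProduct.ext (Subtype.ext (Prod.ext ?_ ?_)) rfl
        · show a = a * t34 * t34; rw [mul_assoc, ht, mul_one]
        · show b = b * t34 * t34; rw [mul_assoc, ht, mul_one]
      rw [e, map_mul, Subgroup.mul_mem_iff_of_index_two hK, X.lf_even _ _ ha hb, X.lf_s]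
      exact iff_of_false (fun h' => hs (h'.1 (heven _ _ ha hb))) (by rw [h]; decide)
  rcases two_cases i with rfl | rfl
  · exact hone
  · rw [hsplit, map_mul, Subgroup.mul_mem_iff_of_index_two hK,
      show X.lf ⟨1, Multiplicative.ofAdd 1⟩ = S.w from X.lf_w]
    simp only [hw, iff_true]
    rw [hone]
    simp

/-- The subgroup of order eight generated by `w` and the diagonal four-group. -/
def Exc.BG (X : S.Exc) : Subgroup G := E80.map X.lf

theorem Exc.BG_two (X : S.Exc) : IsPGroup 2 X.BG := by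
  rintro ⟨_, y, hy, rfl⟩
  refine ⟨1, Subtype.ext ?_⟩
  show X.lf y ^ (2 ^ 1) = 1
  rw [pow_one, pow_two, ← map_mul, (e8_facts.1 y hy).1, map_one]

theorem Exc.BG_cent (X : S.Exc) : ∀ y ∈ X.BG, y * S.w = S.w * y := by
  rintro _ ⟨y, hy, rfl⟩
  rw [← X.lf_w, ← map_mul, ← map_mul]
  exact congrArg X.lf ((by decide +kernel : ∀ y ∈ e8l, y * w0 = w0 * y) y hy)

theorem Exc.BG_K1 (X : S.Exc) {K : Subgroup G} [hKn : K.Normal] (hK : K.index = 2) (hs : S.e sm ∉ K)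
    (hw : S.w ∈ K) : X.BG ≤ K := by
  rintro _ ⟨y, hy, rfl⟩
  exact (X.mem_K1 hK hs hw y).2 (e8_facts.2.2.2.1 y (mem_Q0_list.1 (e8_facts.1 y hy).2.2.1))

/-- `w` is not conjugate to an element of `A` with one trivial component. -/
theorem Exc.w_not_vt (X : S.Exc) {K : Subgroup G} [hKn : K.Normal] (hK : K.index = 2) (hs : S.e sm ∉ K)
    (hw : S.w ∈ K) {x : L0} (hx : vt x) : ¬ IsConj S.w (X.lf x) := by
  intro hconj
  haveI : Fact (Nat.Prime 2) := ⟨Nat.prime_two⟩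
  obtain ⟨g, hg⟩ := isConj_iff.1 hconj
  have hxl : x ∈ vl := List.mem_filter.2 ⟨mem_A0_list.1 hx.1, decide_eq_true hx⟩
  set H := Subgroup.centralizer ({X.lf x} : Set G) ⊓ K with hH
  have hAH : X.AG ≤ H := by
    rintro _ ⟨a, ha, rfl⟩
    refine ⟨mem_cent_singleton.2 ?_, (X.mem_K1 hK hs hw a).2 (v4_facts.1 _ ha.2.1).1⟩
    rw [← map_mul, ← map_mul]
    exact congrArg X.lf ((by decide +kernel : ∀ a ∈ al16, ∀ x ∈ al16, a * x = x * a) a (mem_A0_list.1 ha) x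
      (mem_A0_list.1 hx.1))
  obtain ⟨P, hP⟩ := X.TG_sylow
  have hA2 : IsPGroup 2 (X.AG.subgroupOf H) :=
    ((hP ▸ P.2 : IsPGroup 2 X.TG).to_le X.AG_le_TG).of_equiv (Subgroup.subgroupOfEquivOfLe hAH).symm
  obtain ⟨S2, hS2⟩ := hA2.exists_le_sylow
  -- the Sylow subgroup of `H` is `A`
  have hS2A : (S2 : Subgroup H).map H.subtype ≤ X.AG := by
    obtain ⟨P', hP'⟩ := (S2.2.map H.subtype).exists_le_sylow
    obtain ⟨k, hk⟩ := MulAction.exists_smul_eq G P' P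
    have hkP : ∀ y ∈ (P' : Subgroup G), k * y * k⁻¹ ∈ X.TG := fun y hy => by
      rw [← hP, ← hk]; exact Subgroup.smul_mem_pointwise_smul _ (MulAut.conj k) _ hy
    have hkA : k ∈ Subgroup.normalizer (X.AG : Set G) := X.AG_weakly fun a ha =>
      hkP a (hP' ⟨⟨a, hAH ha⟩, hS2 (Subgroup.mem_subgroupOf.2 ha), rfl⟩)
    intro y hy
    obtain ⟨t, ht, hte⟩ := hkP y (hP' hy)
    have hyN : y ∈ Subgroup.normalizer (X.AG : Set G) := by
      have htN : X.lf t ∈ Subgroup.normalizer (X.AG : Set G) := X.N0_le ⟨t,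
        ⟨(by decide +kernel : ∀ a ∈ d8l, a 4 = 4) _ ht.1, (by decide +kernel : ∀ a ∈ d8l, a 4 = 4) _ ht.2⟩, rfl⟩
      have := mul_mem (mul_mem (inv_mem hkA) htN) hkA
      rwa [hte, show k⁻¹ * (k * y * k⁻¹) * k = y by group] at this
    rw [X.norm_A] at hyN
    obtain ⟨n, hn, rfl⟩ := hyN
    obtain ⟨⟨z, hz⟩, hzS, hzn⟩ := hy
    have hn2 : X.lf n ∈ H := hzn ▸ hz
    obtain ⟨m, hm⟩ := S2.2 ⟨⟨z, hz⟩, hzS⟩
    have hpow : n ^ 2 ^ m = 1 := X.lf_inj (by
      rw [map_pow, map_one, ← hzn]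
      exact congrArg (fun t : (S2 : Subgroup H) => ((t : H) : G)) hm)
    have hcomm : n * x = x * n := X.lf_inj (by
      rw [map_mul, map_mul]; exact mem_cent_singleton.1 hn2.1)
    have hsign : Perm.sign n.left.1.1 = 1 := (X.mem_K1 hK hs hw n).1 hn2.2
    obtain ⟨h6, h2⟩ : n ^ 6 = 1 ∧ (n * n = 1 → n ∈ A0) := by
      obtain ⟨⟨⟨a, b⟩, hp⟩, i⟩ := n
      exact cent_vt a (fix4_facts.1 a hn.1) b (fix4_facts.1 b hn.2) hp i x hxl hcomm hsign
    refine X.mem_AG.2 (h2 ?_)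
    have hd : orderOf n ∣ Nat.gcd (2 ^ m) 6 :=
      Nat.dvd_gcd (orderOf_dvd_of_pow_eq_one hpow) (orderOf_dvd_of_pow_eq_one h6)
    have hg2 : Nat.gcd (2 ^ m) 6 ∣ 2 := by
      obtain ⟨j, -, hj⟩ := (Nat.dvd_prime_pow Nat.prime_two).1 (Nat.gcd_dvd_left (2 ^ m) 6)
      have h6' := Nat.gcd_dvd_right (2 ^ m) 6
      rw [hj] at h6' ⊢
      rcases j with _ | _ | j
      · norm_num
      · norm_num
      · exfalso
        exact absurd ((pow_dvd_pow 2 (by omega : 2 ≤ j + 1 + 1)).trans h6') (by decide)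
    rw [← pow_two]
    exact orderOf_dvd_iff_pow_eq_one.1 (hd.trans hg2)
  -- move the subgroup of order eight into `A`
  set B := X.BG.map (MulAut.conj g).toMonoidHom with hB
  have hBH : B ≤ H := by
    rintro _ ⟨y, hy, rfl⟩
    refine ⟨mem_cent_singleton.2 ?_, hKn.conj_mem _ (X.BG_K1 hK hs hw hy) g⟩
    show g * y * g⁻¹ * X.lf x = X.lf x * (g * y * g⁻¹)
    rw [← hg]
    calc g * y * g⁻¹ * (g * S.w * g⁻¹) = g * (y * S.w) * g⁻¹ := by group
      _ = _ := by rw [X.BG_cent y hy]; group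
  obtain ⟨SB, hSB⟩ := ((X.BG_two.map (MulAut.conj g).toMonoidHom).of_equiv
    (Subgroup.subgroupOfEquivOfLe hBH).symm).exists_le_sylow
  obtain ⟨c, hc⟩ := MulAction.exists_smul_eq H SB S2
  set g' := (c : G) * g with hg'
  have himg : ∀ y ∈ e8l, g' * X.lf y * g'⁻¹ ∈ X.AG := by
    intro y hy
    have hyB : g * X.lf y * g⁻¹ ∈ B := ⟨_, ⟨y, hy, rfl⟩, rfl⟩
    refine hS2A ⟨c * ⟨_, hBH hyB⟩ * c⁻¹, ?_, ?_⟩
    · rw [← hc]
      exact Subgroup.smul_mem_pointwise_smul _ (MulAut.conj c) _ (hSB (Subgroup.mem_subgroupOf.2 hyB))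
    · simp only [Subgroup.subtype_apply, Subgroup.coe_mul, InvMemClass.coe_inv, hg']
      group
  have hgw : g' * S.w * g'⁻¹ = X.lf x := by
    rw [hg', show (c : G) * g * S.w * ((c : G) * g)⁻¹ = (c : G) * (g * S.w * g⁻¹) * (c : G)⁻¹ by group, hg,
      mem_cent_singleton.1 c.2.1, mul_inv_cancel_right]
  have hz : ∀ z ∈ zl, z ∈ e8l ∧ w0 * z ∈ e8l := fun z hz =>
    ⟨List.mem_append_left _ hz, List.mem_append_right _ (List.mem_map_of_mem hz)⟩
  have hwz : ∀ z ∈ zl, ∃ a, vt a ∧ g' * X.lf (w0 * z) * g'⁻¹ = X.lf a := by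
    intro z hzl
    obtain ⟨a, ha, hae⟩ := himg _ (hz z hzl).2
    refine ⟨a, X.type_fusion ha hx ?_, hae.symm⟩
    obtain ⟨c', -, hc'⟩ : ∃ c' ∈ al16, c' * (w0 * z) * c'⁻¹ = w0 := by
      rcases (e8_facts.1 _ (hz z hzl).2).2.1 with h | h
      · exact absurd ((e8_facts.1 _ (hz z hzl).2).2.2.2.1 h).1.1
          (zl_right z hzl)
      · exact h
    refine isConj_iff.2 ⟨g' * (X.lf c')⁻¹ * g'⁻¹, ?_⟩
    have h1 : X.lf w0 = X.lf c' * X.lf (w0 * z) * (X.lf c')⁻¹ := by rw [← map_inv, ← map_mul, ← map_mul, hc']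
    rw [hae, ← hgw, ← X.lf_w, h1]
    group
  have hzv : ∀ z ∈ zl, ∀ a ∈ A0, g' * X.lf z * g'⁻¹ = X.lf a → ¬ vt a := by
    intro z hzl a ha e hv
    have hzA := (e8_facts.1 z (hz z hzl).1).2.2.2.1 hzl
    exact hzA.2.1 (X.type_fusion hzA.1 hv (isConj_iff.2 ⟨g'⁻¹, by rw [← e]; group⟩))
  have hprod : ∀ z z' : L0, z ∈ zl → z' ∈ zl → ∀ a a', g' * X.lf (w0 * z) * g'⁻¹ = X.lf a →
      g' * X.lf (w0 * z') * g'⁻¹ = X.lf a' → g' * X.lf (z * z') * g'⁻¹ = X.lf (a * a') := by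
    intro z z' hzl hzl' a a' e e'
    have h : z * z' = w0 * z * (w0 * z') := by
      have hc := ((e8_facts.1 z (hz z hzl).1).2.2.2.1 hzl).2.2.1
      rw [hc, mul_assoc z, ← mul_assoc w0, show w0 * w0 = 1 by decide +kernel, one_mul]
    rw [h, map_mul, map_mul _ a, ← e, ← e']
    group
  obtain ⟨a0, ha0, he0⟩ := hwz 1 (by decide +kernel)
  obtain ⟨a1, ha1, he1⟩ := hwz (zl[1]'(by decide)) (List.getElem_mem _)
  obtain ⟨a2, ha2, he2⟩ := hwz (zl[2]'(by decide)) (List.getElem_mem _)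
  have hm : ∀ a, vt a → a ∈ vl := fun a ha => List.mem_filter.2 ⟨mem_A0_list.1 ha.1, decide_eq_true ha⟩
  have hne : ∀ z z' : L0, z ∈ zl → z' ∈ zl → z * z' ≠ 1 → ∀ a a', vt a → vt a' →
      g' * X.lf (w0 * z) * g'⁻¹ = X.lf a → g' * X.lf (w0 * z') * g'⁻¹ = X.lf a' →
      a * a' ≠ 1 ∧ ¬ vt (a * a') := by
    intro z z' hzl hzl' hzz a a' hva hva' e e'
    have h := hprod z z' hzl hzl' a a' e e'
    refine ⟨fun h1 => hzz ?_, hzv _ ((by decide +kernel : ∀ z ∈ zl, ∀ z' ∈ zl, z * z' ∈ zl) z hzl z' hzl') _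
      (A0.mul_mem hva.1 hva'.1) h⟩
    rw [h1, map_one, conj_eq_one_iff] at h
    exact X.lf_inj (h.trans (map_one _).symm)
  have h01 := hne _ _ (by decide +kernel) (List.getElem_mem _) (by decide +kernel) _ _ ha0 ha1 he0 he1
  have h02 := hne _ _ (by decide +kernel) (List.getElem_mem _) (by decide +kernel) _ _ ha0 ha2 he0 he2
  have h12 := hne _ _ (List.getElem_mem _) (List.getElem_mem _) (by decide +kernel) _ _ ha1 ha2 he1 he2
  rcases no_three _ (hm _ ha0) _ (hm _ ha1) _ (hm _ ha2) h01.1 h02.1 h12.1 with h | h | h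
  exacts [h01.2 h, h02.2 h, h12.2 h]

set_option maxHeartbeats 3200000 in
/-- `w` is not conjugate to an element of `A`. -/
theorem Exc.w_not_A (X : S.Exc) {K : Subgroup G} [hKn : K.Normal] (hK : K.index = 2) (hs : S.e sm ∉ K)
    (hw : S.w ∈ K) {x0 : L0} (hx0 : x0 ∈ A0) : ¬ IsConj S.w (X.lf x0) := by
  intro hconj0
  haveI : Fact (Nat.Prime 2) := ⟨Nat.prime_two⟩
  haveI : Fact (Nat.Prime 3) := ⟨Nat.prime_three⟩
  by_cases hv : vt x0
  · exact X.w_not_vt hK hs hw hv hconj0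
  have hw1 : S.w ≠ 1 := fun e => absurd (X.lf_inj (X.lf_w.trans (e.trans (map_one _).symm))) (by decide +kernel)
  -- a diagonal representative
  obtain ⟨x, hxz, hconj⟩ : ∃ x ∈ zl, IsConj S.w (X.lf x) := by
    have hne1 : x0 ≠ 1 := fun e => hw1 (isConj_one_left.1 (by rw [e, map_one] at hconj0; exact hconj0))
    have hx' := hx0
    obtain ⟨⟨⟨a, b⟩, hp⟩, i⟩ := x0
    obtain ⟨rfl, ha, hb⟩ := hx'
    have ha1 : a ≠ 1 := fun e => hv ⟨hx0, hne1, Or.inl e⟩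
    have hb1 : b ≠ 1 := fun e => hv ⟨hx0, hne1, Or.inr e⟩
    obtain ⟨k, hk⟩ := to_diag a ha ha1 b hb hb1
    refine ⟨pr a a rfl, ?_, hconj0.trans (isConj_iff.2 ⟨X.lf ⟨⟨(1, c3 ^ (k : ℕ)), pair_mem (by
      rw [Perm.sign_one, map_pow, show Perm.sign c3 = 1 by decide +kernel, one_pow])⟩, 1⟩, ?_⟩)⟩
    · exact (by decide +kernel : ∀ a ∈ v4l, pr a a rfl ∈ zl) a ha
    · rw [← map_inv, ← map_mul, ← map_mul, conj_formula _ _ rfl]
      exact congrArg X.lf (SemidirectProduct.ext (Subtype.ext (Prod.ext (by simp [pr]) hk)) rfl)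
  obtain ⟨g0, hg0⟩ := isConj_iff.1 hconj
  have hx1 : x ≠ 1 := fun e => hw1 (isConj_one_left.1 (by rw [e, map_one] at hconj; exact hconj))
  have hxA := (e8_facts.1 x (List.mem_append_left _ hxz)).2.2.2.1 hxz
  -- `A⟨w⟩` is a Sylow subgroup of the centraliser in `K`
  set H := Subgroup.centralizer ({X.lf x} : Set G) ⊓ K with hH
  have hQH : Q0.map X.lf ≤ H := by
    rintro _ ⟨y, hy, rfl⟩
    refine ⟨mem_cent_singleton.2 ?_, (X.mem_K1 hK hs hw y).2 (v4_facts.1 _ hy.1).1⟩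
    rw [← map_mul, ← map_mul, e8_facts.2.2.2.2.1 x hxz y (mem_Q0_list.1 hy)]
  obtain ⟨P, hP⟩ := X.TG_sylow
  have hQ2 : IsPGroup 2 ((Q0.map X.lf).subgroupOf H) :=
    ((hP ▸ P.2 : IsPGroup 2 X.TG).to_le (Subgroup.map_mono Q0_le)).of_equiv (Subgroup.subgroupOfEquivOfLe hQH).symm
  obtain ⟨S2, hS2⟩ := hQ2.exists_le_sylow
  have hS2Q : (S2 : Subgroup H).map H.subtype = Q0.map X.lf := by
    refine (Subgroup.eq_of_le_of_card_ge ?_ ?_).symm
    · exact fun y hy => ⟨⟨y, hQH hy⟩, hS2 (Subgroup.mem_subgroupOf.2 hy), rfl⟩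
    · rw [Subgroup.card_map_of_injective H.subtype_injective, X.card_map_lf, card_Q0]
      obtain ⟨n, hn⟩ := IsPGroup.iff_card.1 S2.2
      have hle : n ≤ 5 := by
        by_contra h6
        obtain ⟨W, hW⟩ := ((S2.2.map H.subtype).exists_le_sylow)
        have hWK : (S2 : Subgroup H).map H.subtype ≤ (W : Subgroup G) ⊓ K := le_inf hW (by
          rintro _ ⟨y, -, rfl⟩; exact y.2.2)
        obtain ⟨k, hk⟩ := MulAction.exists_smul_eq G P W
        have hW64 : Nat.card (W : Subgroup G) = 64 := by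
          rw [W.card_eq_multiplicity, ← P.card_eq_multiplicity, hP, X.card_TG]
        have heq : (W : Subgroup G) ≤ K := by
          have h1 := Subgroup.card_le_of_le hWK
          rw [Subgroup.card_map_of_injective H.subtype_injective, hn] at h1
          have h2 : 2 ^ 6 ≤ Nat.card ↥((W : Subgroup G) ⊓ K) :=
            (Nat.pow_le_pow_right (by norm_num) (by omega : 6 ≤ n)).trans h1
          have h3 : (W : Subgroup G) ⊓ K = W := Subgroup.eq_of_le_of_card_ge inf_le_left (by rw [hW64]; exact h2)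
          exact h3 ▸ inf_le_right
        have hsT : X.lf e20 ∈ (P : Subgroup G) := hP ▸ ⟨e20, q_scan.2.2.2.2.2.1, rfl⟩
        have hmem : k * X.lf e20 * k⁻¹ ∈ K := heq (by
          rw [← hk]; exact Subgroup.smul_mem_pointwise_smul _ (MulAut.conj k) _ hsT)
        have := hKn.conj_mem _ hmem k⁻¹
        rw [show k⁻¹ * (k * X.lf e20 * k⁻¹) * k⁻¹⁻¹ = X.lf e20 by group, X.mem_K1 hK hs hw] at this
        exact absurd this (by decide +kernel)
      rw [hn]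
      exact (Nat.pow_le_pow_right (by norm_num) hle).trans (by norm_num)
  set B0 := X.BG.map (MulAut.conj g0).toMonoidHom with hB0
  have hBH : B0 ≤ H := by
    rintro _ ⟨y, hy, rfl⟩
    refine ⟨mem_cent_singleton.2 ?_, hKn.conj_mem _ (X.BG_K1 hK hs hw hy) g0⟩
    show g0 * y * g0⁻¹ * X.lf x = X.lf x * (g0 * y * g0⁻¹)
    rw [← hg0]
    calc g0 * y * g0⁻¹ * (g0 * S.w * g0⁻¹) = g0 * (y * S.w) * g0⁻¹ := by group
      _ = _ := by rw [X.BG_cent y hy]; group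
  obtain ⟨SB, hSB⟩ := ((X.BG_two.map (MulAut.conj g0).toMonoidHom).of_equiv
    (Subgroup.subgroupOfEquivOfLe hBH).symm).exists_le_sylow
  obtain ⟨c, hc⟩ := MulAction.exists_smul_eq H SB S2
  obtain ⟨g1, hg1⟩ : ∃ g1 : G, g1 = (c : G) * g0 := ⟨_, rfl⟩
  have himg : ∀ y ∈ e8l, ∃ q ∈ q0l, g1 * X.lf y * g1⁻¹ = X.lf q := by
    intro y hy
    have hyB : g0 * X.lf y * g0⁻¹ ∈ B0 := ⟨_, ⟨y, hy, rfl⟩, rfl⟩
    have hm : g1 * X.lf y * g1⁻¹ ∈ (S2 : Subgroup H).map H.subtype := by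
      refine ⟨c * ⟨_, hBH hyB⟩ * c⁻¹, ?_, ?_⟩
      · rw [← hc]
        exact Subgroup.smul_mem_pointwise_smul _ (MulAut.conj c) _ (hSB (Subgroup.mem_subgroupOf.2 hyB))
      · simp only [Subgroup.subtype_apply, Subgroup.coe_mul, InvMemClass.coe_inv, hg1]
        group
    rw [hS2Q] at hm
    obtain ⟨q, hq, hqe⟩ := hm
    exact ⟨q, mem_Q0_list.1 hq, hqe.symm⟩
  have hgw1 : g1 * S.w * g1⁻¹ = X.lf x := by
    rw [hg1, show (c : G) * g0 * S.w * ((c : G) * g0)⁻¹ = (c : G) * (g0 * S.w * g0⁻¹) * (c : G)⁻¹ by group, hg0,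
      mem_cent_singleton.1 c.2.1, mul_inv_cancel_right]
  obtain ⟨b1, hb1⟩ : ∃ b, b = zl[1]'(by decide) := ⟨_, rfl⟩
  obtain ⟨b2, hb2⟩ : ∃ b, b = zl[2]'(by decide) := ⟨_, rfl⟩
  have hb1z : b1 ∈ zl := hb1 ▸ List.getElem_mem _
  have hb2z : b2 ∈ zl := hb2 ▸ List.getElem_mem _
  obtain ⟨p, hp, hpe⟩ := himg b1 (List.mem_append_left _ hb1z)
  obtain ⟨q, hq, hqe⟩ := himg b2 (List.mem_append_left _ hb2z)
  have hwe : w0 ∈ e8l := by decide +kernel
  have hrel : ∀ y ∈ trio w0 b1 b2, y ≠ 1 ∧ y ∈ e8l := by subst hb1 hb2; decide +kernel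
  have hgw1' : g1 * X.lf w0 * g1⁻¹ = X.lf x := by rw [X.lf_w]; exact hgw1
  have hmul : ∀ u v : L0, ∀ u' v' : L0, g1 * X.lf u * g1⁻¹ = X.lf u' → g1 * X.lf v * g1⁻¹ = X.lf v' →
      g1 * X.lf (u * v) * g1⁻¹ = X.lf (u' * v') := by
    intro u v u' v' hu hv
    rw [map_mul, map_mul, ← hu, ← hv]; group
  have htrio : ∀ j : Fin 7, g1 * X.lf ((trio w0 b1 b2)[j.val]'(by simp [trio])) * g1⁻¹ =
      X.lf ((trio x p q)[j.val]'(by simp [trio])) := by
    intro j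
    fin_cases j
    exacts [hgw1', hpe, hqe, hmul _ _ _ _ hgw1' hpe, hmul _ _ _ _ hgw1' hqe, hmul _ _ _ _ hpe hqe,
      hmul _ _ _ _ (hmul _ _ _ _ hgw1' hpe) hqe]
  have hkey : ∀ y ∈ trio x p q, y ≠ 1 ∧ ¬ vt y := by
    intro y hy
    obtain ⟨j, hj, rfl⟩ := List.getElem_of_mem hy
    have h' := htrio ⟨j, by simpa [trio] using hj⟩
    have hsrc := hrel _ (List.getElem_mem (l := trio w0 b1 b2) (by simpa [trio] using hj))
    simp only at h'
    refine ⟨fun e => hsrc.1 ?_, fun hvy => ?_⟩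
    · rw [e, map_one, conj_eq_one_iff] at h'
      exact X.lf_inj (h'.trans (map_one _).symm)
    · rcases (e8_facts.1 _ hsrc.2).2.1 with hz' | ⟨a, -, ha⟩
      · have hzA := (e8_facts.1 _ hsrc.2).2.2.2.1 hz'
        exact hzA.2.1 (X.type_fusion hzA.1 hvy (isConj_iff.2 ⟨g1⁻¹, by rw [← h']; group⟩))
      · refine X.w_not_vt hK hs hw hvy ?_
        rw [← X.lf_w, ← ha]
        refine isConj_iff.2 ⟨g1 * (X.lf a)⁻¹, ?_⟩
        rw [← h', map_mul, map_mul, map_inv]; group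
  have hsq : ∀ u u' : L0, u * u = 1 → g1 * X.lf u * g1⁻¹ = X.lf u' → u' * u' = 1 := by
    intro u u' hu h
    refine X.lf_inj ((hmul _ _ _ _ h h).symm.trans ?_)
    rw [hu, map_one, mul_one, mul_inv_cancel]
  have hcm : ∀ u v u' v' : L0, u * v = v * u → g1 * X.lf u * g1⁻¹ = X.lf u' → g1 * X.lf v * g1⁻¹ = X.lf v' →
      u' * v' = v' * u' := by
    intro u v u' v' huv hu hv
    refine X.lf_inj ((hmul _ _ _ _ hu hv).symm.trans ?_)
    rw [huv]; exact hmul _ _ _ _ hv hu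
  have hcb : b1 * b2 = b2 * b1 ∧ w0 * b1 = b1 * w0 ∧ w0 * b2 = b2 * w0 ∧ b1 * b1 = 1 ∧ b2 * b2 = 1 := by
    subst hb1 hb2; decide +kernel
  obtain ⟨a, ha, hax, hap, haq⟩ := into_e8 x hxz p hp (hsq _ _ hcb.2.2.2.1 hpe)
    (hcm _ _ _ _ hcb.2.1 hgw1' hpe) q hq (hsq _ _ hcb.2.2.2.2 hqe) (hcm _ _ _ _ hcb.2.2.1 hgw1' hqe)
    (hcm _ _ _ _ hcb.1 hpe hqe) hkey
  obtain ⟨g, hg⟩ : ∃ g : G, g = X.lf a * g1 := ⟨_, rfl⟩
  have hgimg : ∀ u u' : L0, g1 * X.lf u * g1⁻¹ = X.lf u' → g * X.lf u * g⁻¹ = X.lf (a * u' * a⁻¹) := by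
    intro u u' h
    rw [map_mul, map_mul, map_inv, ← h, hg]; group
  have hgw : g * S.w * g⁻¹ = X.lf x := by rw [← X.lf_w, hgimg _ _ hgw1', hax]
  -- `g` normalises the subgroup of order eight
  have hgB : ∀ y ∈ e8l, ∃ y' ∈ e8l, g * X.lf y * g⁻¹ = X.lf y' := by
    have h1 : g * X.lf b1 * g⁻¹ ∈ X.BG := ⟨_, hap, (hgimg _ _ hpe).symm⟩
    have h2 : g * X.lf b2 * g⁻¹ ∈ X.BG := ⟨_, haq, (hgimg _ _ hqe).symm⟩
    have h0 : g * X.lf w0 * g⁻¹ ∈ X.BG := ⟨x, List.mem_append_left _ hxz, by rw [X.lf_w, hgw]⟩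
    intro y hy
    have hgen : ∀ y ∈ e8l, ∃ i j k : Fin 2, y = w0 ^ (i : ℕ) * b1 ^ (j : ℕ) * b2 ^ (k : ℕ) := by
      subst hb1 hb2; decide +kernel
    obtain ⟨i, j, k, rfl⟩ := hgen y hy
    obtain ⟨y', hy', e⟩ : g * X.lf (w0 ^ (i : ℕ) * b1 ^ (j : ℕ) * b2 ^ (k : ℕ)) * g⁻¹ ∈ X.BG := by
      rw [map_mul, map_mul, map_pow, map_pow, map_pow,
        show g * (X.lf w0 ^ (i : ℕ) * X.lf b1 ^ (j : ℕ) * X.lf b2 ^ (k : ℕ)) * g⁻¹ =
          (g * X.lf w0 ^ (i : ℕ) * g⁻¹) * (g * X.lf b1 ^ (j : ℕ) * g⁻¹) * (g * X.lf b2 ^ (k : ℕ) * g⁻¹) by group,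
        ← conj_pow, ← conj_pow, ← conj_pow]
      exact mul_mem (mul_mem (pow_mem h0 _) (pow_mem h1 _)) (pow_mem h2 _)
    exact ⟨y', hy', e.symm⟩
  have ginj : ∀ u v : L0, g * X.lf u * g⁻¹ = g * X.lf v * g⁻¹ → u = v := fun u v h =>
    X.lf_inj (mul_left_cancel (mul_right_cancel h))
  -- the fixed element of the transvection
  obtain ⟨q', hq'z, hq'1, yq, hyq, hyqe⟩ :
      ∃ q' ∈ zl, q' ≠ 1 ∧ ∃ yq ∈ zl, g * X.lf q' * g⁻¹ = X.lf yq := by
    obtain ⟨y1, hy1, e1⟩ := hgB b1 (List.mem_append_left _ hb1z)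
    obtain ⟨y2, hy2, e2⟩ := hgB b2 (List.mem_append_left _ hb2z)
    have hb : b1 ≠ 1 ∧ b2 ≠ 1 ∧ b1 * b2 ≠ 1 ∧ b1 * b2 ∈ zl := by subst hb1 hb2; decide +kernel
    rcases e8_facts.2.2.1 y1 hy1 y2 hy2 with h | h | h
    · exact ⟨b1, hb1z, hb.1, y1, h, e1⟩
    · exact ⟨b2, hb2z, hb.2.1, y2, h, e2⟩
    · refine ⟨b1 * b2, hb.2.2.2, hb.2.2.1, _, h, ?_⟩
      rw [map_mul, map_mul, ← e1, ← e2]; group
  obtain ⟨aL, haL⟩ : ∃ aL : L0, aL = ⟨⟨(yq.left.1.1 * nt yq.left.1.1, 1), pair_mem (by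
      rw [sign_nt, Perm.sign_one])⟩, 1⟩ := ⟨_, rfl⟩
  obtain ⟨n, hn⟩ : ∃ n : G, n = g⁻¹ * X.lf aL * g := ⟨_, rfl⟩
  have hnK : n ∈ K := by
    have h := hKn.conj_mem _ ((X.mem_K1 hK hs hw aL).2 (by rw [haL]; exact sign_nt _)) g⁻¹
    rwa [inv_inv, ← hn] at h
  have hnact : ∀ y ∈ e8l, ∀ y' ∈ e8l, g * X.lf y * g⁻¹ = X.lf y' →
      n * X.lf y * n⁻¹ = if y' ∈ zl then X.lf y else X.lf (y * q') := by
    intro y hy y' hy' e
    have hL : aL * y' * aL⁻¹ = if y' ∈ zl then y' else y' * yq := by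
      rw [haL]; exact e8_facts.2.2.2.2.2 yq hyq y' hy'
    have h : n * X.lf y * n⁻¹ = g⁻¹ * X.lf (aL * y' * aL⁻¹) * g := by
      rw [map_mul, map_mul, map_inv, ← e, hn]; group
    rw [h, hL]
    split
    · rw [← e]; group
    · rw [map_mul, map_mul, ← e, ← hyqe]; group
  have hnw : n * S.w * n⁻¹ = S.w := by
    rw [← X.lf_w, hnact w0 hwe x (List.mem_append_left _ hxz) (by rw [X.lf_w, hgw]), if_pos hxz]
  have hnz : ∀ b ∈ zl, n * X.lf b * n⁻¹ = X.lf (trv q' b) := by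
    intro b hb
    obtain ⟨y', hy', e⟩ := hgB b (List.mem_append_left _ hb)
    rw [hnact b (List.mem_append_left _ hb) y' hy' e, trv]
    by_cases hb' : b = 1 ∨ b = q'
    · rw [if_pos hb', if_pos]
      rcases hb' with rfl | rfl
      · rw [map_one, mul_one, mul_inv_cancel] at e
        rw [show y' = 1 from X.lf_inj (e.symm.trans (map_one _).symm)]
        decide +kernel
      · exact X.lf_inj (hyqe.symm.trans e) ▸ hyq
    · rw [if_neg hb', if_neg]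
      intro hy'z
      push Not at hb'
      have hz4 : ∀ u ∈ zl, ∀ v ∈ zl, ∀ x ∈ zl, u ≠ 1 → v ≠ 1 → x ≠ 1 → u ≠ v → x = u ∨ x = v ∨ x = u * v := by
        decide +kernel
      have hy1 : y' ≠ 1 := fun h1 => hb'.1 (ginj b 1 (by rw [e, h1, map_one, mul_one, mul_inv_cancel]))
      have hyq1 : yq ≠ 1 := fun h1 => hq'1 (ginj q' 1 (by rw [hyqe, h1, map_one, mul_one, mul_inv_cancel]))
      have hne : y' ≠ yq := fun h1 => hb'.2 (ginj b q' (by rw [e, hyqe, h1]))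
      have hcase : ∀ u : L0, u ∈ zl → g * X.lf u * g⁻¹ = X.lf x → False := by
        intro u hu h1
        have h2 : w0 = u := ginj w0 u (by rw [X.lf_w, hgw, h1])
        subst h2
        exact (by decide +kernel : w0 ∉ zl) hu
      rcases hz4 y' hy'z yq hyq x hxz hy1 hyq1 hx1 hne with h1 | h1 | h1
      · exact hcase b hb (h1 ▸ e)
      · exact hcase q' hq'z (h1 ▸ hyqe)
      · refine hcase (b * q') ((by decide +kernel : ∀ u ∈ zl, ∀ v ∈ zl, u * v ∈ zl) b hb q' hq'z) ?_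
        rw [h1, map_mul, map_mul, ← e, ← hyqe]; group
  -- the subgroup generated by the rotations
  obtain ⟨yr, hyr⟩ : ∃ y : G, y = X.lf (z0 * u0) := ⟨_, rfl⟩
  have hyw : yr * S.w = S.w * yr := by
    rw [hyr, ← X.lf_w, ← map_mul, ← map_mul]; exact congrArg X.lf (by decide +kernel)
  have hyK : yr ∈ K := hyr ▸ (X.mem_K1 hK hs hw _).2 (by decide +kernel)
  have hyrot : ∀ b ∈ zl, yr * X.lf b * yr⁻¹ = X.lf (rot b) := by
    intro b _
    rw [hyr, ← map_inv, ← map_mul, ← map_mul]; rfl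
  have hzi : ∀ (i : ℕ) (b : L0), b ∈ zl → rot^[i] b ∈ zl := by
    intro i
    induction i with
    | zero => intro b hb; exact hb
    | succ i ih => intro b hb; exact ih _ (trv_facts.1 q' hq'z hq'1 b hb).2.1
  have hrot3 : ∀ b ∈ zl, rot (rot (rot b)) = b := by decide +kernel
  have hmod : ∀ (m : ℕ) (b : L0), b ∈ zl → rot^[m] b = rot^[m % 3] b := by
    intro m
    induction m using Nat.strong_induction_on with
    | _ m ih =>
      intro b hb
      by_cases hm : m < 3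
      · rw [Nat.mod_eq_of_lt hm]
      · obtain ⟨m', rfl⟩ : ∃ m', m = m' + 3 := ⟨m - 3, by omega⟩
        rw [Function.iterate_add_apply, show rot^[3] b = rot (rot (rot b)) from rfl, hrot3 b hb,
          ih m' (by omega) b hb, Nat.add_mod_right]
  obtain ⟨yn, hyn⟩ : ∃ y : G, y = n * yr * n⁻¹ := ⟨_, rfl⟩
  set Y := Subgroup.closure ({yr, yn} : Set G) with hY
  have hnc : Commute n S.w := mul_inv_eq_iff_eq_mul.1 hnw
  have hynw : yn * S.w = S.w * yn := by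
    rw [hyn]
    exact ((hnc.mul_left hyw).mul_left hnc.inv_left).eq
  have hninv : ∀ b ∈ zl, n⁻¹ * X.lf b * n = X.lf (trv q' b) := by
    intro b hb
    have hb' := (trv_facts.1 q' hq'z hq'1 b hb).2.2.1
    have h := hnz _ hb'
    rw [(trv_facts.1 q' hq'z hq'1 b hb).1] at h
    rw [← h]; group
  have hYprop : ∀ h ∈ Y, h ∈ K ∧ h * S.w = S.w * h ∧
      ∃ k : Fin 3, ∀ b ∈ zl, h * X.lf b * h⁻¹ = X.lf (rot^[(k : ℕ)] b) := by
    intro h hh
    induction hh using Subgroup.closure_induction with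
    | mem h hh =>
      rcases hh with rfl | rfl
      · exact ⟨hyK, hyw, ⟨1, by norm_num⟩, hyrot⟩
      · refine ⟨hyn ▸ hKn.conj_mem _ hyK n, hynw, ⟨2, by norm_num⟩, fun b hb => ?_⟩
        have hb1' := (trv_facts.1 q' hq'z hq'1 b hb).2.2.1
        have hb2' := (trv_facts.1 q' hq'z hq'1 _ hb1').2.1
        rw [hyn, show n * yr * n⁻¹ * X.lf b * (n * yr * n⁻¹)⁻¹ =
          n * (yr * (n⁻¹ * X.lf b * n) * yr⁻¹) * n⁻¹ by group, hninv b hb, hyrot _ hb1', hnz _ hb2']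
        congr 1
        exact (by decide +kernel : ∀ q ∈ zl, q ≠ 1 → ∀ b ∈ zl, trv q (rot (trv q b)) = rot (rot b))
          q' hq'z hq'1 b hb
    | one => exact ⟨one_mem _, by rw [one_mul, mul_one], 0, fun b _ => by
        rw [one_mul, inv_one, mul_one]; rfl⟩
    | mul h h' _ _ ih ih' =>
      obtain ⟨hk, hc, k, hact⟩ := ih
      obtain ⟨hk', hc', k', hact'⟩ := ih'
      refine ⟨mul_mem hk hk', ((show Commute h S.w from hc).mul_left hc').eq,
        ⟨(k.val + k'.val) % 3, Nat.mod_lt _ (by norm_num)⟩, fun b hb => ?_⟩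
      rw [show h * h' * X.lf b * (h * h')⁻¹ = h * (h' * X.lf b * h'⁻¹) * h⁻¹ by group, hact' b hb,
        hact _ (hzi _ b hb)]
      congr 1
      show rot^[k.val] (rot^[k'.val] b) = rot^[(k.val + k'.val) % 3] b
      rw [← Function.iterate_add_apply, hmod _ b hb]
    | inv h _ ih =>
      obtain ⟨hk, hc, k, hact⟩ := ih
      refine ⟨inv_mem hk, (show Commute h S.w from hc).inv_left.eq,
        ⟨(3 - k.val) % 3, Nat.mod_lt _ (by norm_num)⟩, fun b hb => ?_⟩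
      have h1 := hact _ (hzi ((3 - k.val) % 3) b hb)
      have e : rot^[k.val] (rot^[(3 - k.val) % 3] b) = b := by
        rw [← Function.iterate_add_apply, hmod _ b hb]
        have hk3 := k.isLt
        rw [show (k.val + (3 - k.val) % 3) % 3 = 0 by omega]
        rfl
      rw [e] at h1
      show h⁻¹ * X.lf b * h⁻¹⁻¹ = _
      rw [← h1]; group
  -- the group generated by the rotations has no subgroup of order nine
  have hyD : yr = S.e (zm * um) := by rw [hyr, map_mul, X.lf_z, X.lf_u, map_mul]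
  have hy3 : yr ^ 3 = 1 := hyD ▸ S.y_cube
  have hy1 : yr ≠ 1 := hyD ▸ S.y_ne
  have h9 : ¬ 9 ∣ Nat.card Y := fun hd => S.no_nine S.w_comm_y.symm S.y_cube S.y_ne
    (fun _ hq hy h9 => S.y_part hq hy h9)
    (hd.trans (Subgroup.card_dvd_of_le fun h hh => mem_cent_singleton.2 (hYprop h hh).2.1))
  have hsyl : ∀ z ∈ Y, z ^ 3 = 1 → z ≠ 1 → ∃ P : Sylow 3 Y, (P : Subgroup Y).map Y.subtype = Subgroup.zpowers z := by
    intro z hz h3 h1
    have ho : orderOf (⟨z, hz⟩ : Y) = 3 := by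
      rw [Subgroup.orderOf_mk]; exact orderOf_eq_prime h3 h1
    obtain ⟨P, hP⟩ := (IsPGroup.of_card (n := 1) (by rw [Nat.card_zpowers, ho, pow_one]) :
      IsPGroup 3 (Subgroup.zpowers (⟨z, hz⟩ : Y))).exists_le_sylow
    refine ⟨P, ?_⟩
    have e : Subgroup.zpowers (⟨z, hz⟩ : Y) = P := by
      refine Subgroup.eq_of_le_of_card_ge hP ?_
      obtain ⟨m, hm⟩ := IsPGroup.iff_card.1 P.2
      rw [hm, Nat.card_zpowers, ho]
      have : m ≤ 1 := by
        by_contra hm2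
        exact h9 ((show 3 ^ 2 ∣ Nat.card (P : Subgroup Y) from hm ▸ pow_dvd_pow 3 (by omega)).trans
          (Subgroup.card_subgroup_dvd_card _))
      exact (Nat.pow_le_pow_right (by norm_num) this).trans (by norm_num)
    rw [← e, MonoidHom.map_zpowers]; rfl
  have hyY : yr ∈ Y := Subgroup.subset_closure (Set.mem_insert _ _)
  have hynY : yn ∈ Y := Subgroup.subset_closure (Set.mem_insert_of_mem _ rfl)
  obtain ⟨P1, hP1⟩ := hsyl yr hyY hy3 hy1
  obtain ⟨P2, hP2⟩ := hsyl yn hynY (by rw [hyn, conj_pow, hy3, mul_one, mul_inv_cancel])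
    (by rw [hyn]; exact fun h => hy1 (conj_eq_one_iff.1 h))
  obtain ⟨c', hc'⟩ := MulAction.exists_smul_eq Y P2 P1
  have hmem : (c' : G) * yn * (c' : G)⁻¹ ∈ Subgroup.zpowers yr := by
    rw [← hP1, ← hc']
    obtain ⟨t, ht, hte⟩ : yn ∈ (P2 : Subgroup Y).map Y.subtype := hP2 ▸ Subgroup.mem_zpowers _
    refine ⟨c' * t * c'⁻¹, Subgroup.smul_mem_pointwise_smul _ (MulAut.conj c') _ ht, ?_⟩
    simp only [Subgroup.subtype_apply, Subgroup.coe_mul, InvMemClass.coe_inv] at hte ⊢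
    rw [hte]
  obtain ⟨hcK, hcw, k, hcact⟩ := hYprop c' c'.2
  obtain ⟨n', hn'⟩ : ∃ n' : G, n' = (c' : G) * n := ⟨_, rfl⟩
  have hn'y : n' * yr * n'⁻¹ = yr ∨ n' * yr * n'⁻¹ = yr ^ 2 := by
    have e : n' * yr * n'⁻¹ = (c' : G) * yn * (c' : G)⁻¹ := by rw [hn', hyn]; group
    rw [e]
    rcases Cfsg.Lib.AltEightThree.zpowers_three hy3 hmem with h | h | h
    · exfalso
      rw [conj_eq_one_iff, hyn, conj_eq_one_iff] at h
      exact hy1 h
    · exact Or.inl h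
    · exact Or.inr h
  -- such an element lies in the model
  have hn'R : n' ∈ X.lf.range := by
    obtain ⟨m, hm⟩ : ∃ m : G, m = X.lf (pr d01 d01) := ⟨_, rfl⟩
    have hmy : m * yr * m⁻¹ = yr ^ 2 := by
      rw [hm, hyr, ← map_inv, ← map_mul, ← map_mul, ← map_pow]
      exact congrArg X.lf (by decide +kernel)
    have hc : ∀ h : G, h * yr * h⁻¹ = yr → h ∈ X.lf.range := fun h hh =>
      X.cent_range (q := zm * um) (by decide +kernel) (by decide +kernel)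
        (by rw [← hyD]; exact mul_inv_eq_iff_eq_mul.1 hh)
    rcases hn'y with h | h
    · exact hc _ h
    · have h' : m * n' * yr * (m * n')⁻¹ = yr := by
        rw [show m * n' * yr * (m * n')⁻¹ = m * (n' * yr * n'⁻¹) * m⁻¹ by group, h, ← conj_pow, hmy,
          ← pow_mul, show 2 * 2 = 3 + 1 by norm_num, pow_succ, hy3, one_mul]
      have := mul_mem (inv_mem (⟨_, hm.symm⟩ : m ∈ X.lf.range)) (hc _ h')
      rwa [inv_mul_cancel_left] at this
  obtain ⟨x', hx'⟩ := hn'R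
  have hsign : Perm.sign x'.left.1.1 = 1 :=
    (X.mem_K1 hK hs hw x').1 (by rw [hx', hn']; exact mul_mem hcK hnK)
  have hxw' : x' * w0 = w0 * x' := X.lf_inj (by
    rw [map_mul, map_mul, X.lf_w, hx', hn']
    exact ((show Commute (c' : G) S.w from hcw).mul_left hnc).eq)
  have hact : ∀ b ∈ zl, x' * b * x'⁻¹ = rot^[k.val] (trv q' b) := by
    intro b hb
    refine X.lf_inj ?_
    rw [map_mul, map_mul, map_inv, hx', hn',
      show (c' : G) * n * X.lf b * ((c' : G) * n)⁻¹ = (c' : G) * (n * X.lf b * n⁻¹) * (c' : G)⁻¹ by group,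
      hnz b hb, hcact _ (trv_facts.1 q' hq'z hq'1 b hb).2.2.1]
  have hyx : x' * (z0 * u0) * x'⁻¹ = z0 * u0 ∨ x' * (z0 * u0) * x'⁻¹ = (z0 * u0) ^ 2 := by
    rcases hn'y with h | h
    · left; refine X.lf_inj ?_; rw [map_mul, map_mul, map_inv, hx', ← hyr]; exact h
    · right; refine X.lf_inj ?_; rw [map_mul, map_mul, map_inv, map_pow, hx', ← hyr]; exact h
  -- coordinates
  obtain ⟨⟨⟨u, v⟩, hp'⟩, i⟩ := x'
  have huv : u = v := by
    have h := congrArg (fun t : L0 => t.left.1.1) hxw'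
    rcases two_cases i with rfl | rfl
    · have h2 : u * 1 = 1 * v := h
      rwa [mul_one, one_mul] at h2
    · have h2 : u * 1 = 1 * v := h
      rwa [mul_one, one_mul] at h2
  subst huv
  have hform : ∀ y : L0, y.right = 1 → y.left.1.1 = y.left.1.2 →
      ((⟨⟨(u, u), hp'⟩, i⟩ : L0) * y * (⟨⟨(u, u), hp'⟩, i⟩ : L0)⁻¹).left.1.1 = u * y.left.1.1 * u⁻¹ := by
    intro y hy hyy
    rw [conj_formula _ y hy]
    rcases two_cases i with rfl | rfl
    · show u * _ * u⁻¹ = _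
      rw [map_one]; rfl
    · show u * y.left.1.2 * u⁻¹ = _
      rw [hyy]
  refine trv_facts.2 u hsign ?_ q' hq'z hq'1 k ?_
  · have he := rot_gen_facts.1
    rcases hyx with h | h
    · left
      have := congrArg (fun t : L0 => t.left.1.1) h
      simp only [hform _ he.1 he.2.1, he.2.2.1] at this
      exact this
    · right
      have := congrArg (fun t : L0 => t.left.1.1) h
      simp only [hform _ he.1 he.2.1, he.2.2.1, he.2.2.2] at this
      exact this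
  · intro b hb
    have hd := rot_gen_facts.2
    have := congrArg (fun t : L0 => t.left.1.1) (hact b hb)
    simp only [hform b (hd b hb).1 (hd b hb).2] at this
    exact this

/-- The second transfer. -/
theorem Exc.exists_K2 (X : S.Exc) {K : Subgroup G} [hKn : K.Normal] (hK : K.index = 2) (hs : S.e sm ∉ K)
    (hw : S.w ∈ K) : ∃ M : Subgroup G, M.Normal ∧ M.index = 2 ∧ S.w ∉ M := by
  obtain ⟨P, hP⟩ := X.TG_sylow
  have hw2 : orderOf (X.lf w0) = 2 := X.orderOf_lf (by decide +kernel) (by decide +kernel)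
  rcases Cfsg.Agent.S0111.result P (Qe.map X.lf) (hP ▸ Subgroup.map_mono Qe_le)
    (by rw [hP]; exact X.relIndex_two Qe Qe_le card_Qe) (X.lf w0) hw2
    (hP ▸ ⟨w0, q_scan.2.2.2.2.2.2.2.1, rfl⟩)
    (fun ⟨y, hy, e⟩ => q_scan.2.2.2.2.2.2.2.2.1 (X.lf_inj e ▸ hy)) with ⟨M, hM, hM2, huM⟩ | ⟨g, y, hy, hye⟩
  · exact ⟨M, hM, hM2, X.lf_w ▸ huM⟩
  · exfalso
    rw [X.lf_w] at hye
    by_cases hyA : y ∈ A0
    · exact X.w_not_A hK hs hw hyA (isConj_iff.2 ⟨g, hye.symm⟩)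
    · have hy2 : y * y = 1 := by
        refine X.lf_inj ?_
        rw [map_mul, hye, map_one]
        calc g * S.w * g⁻¹ * (g * S.w * g⁻¹) = g * (S.w * S.w) * g⁻¹ := by group
          _ = 1 := by rw [S.w_sq]; group
      refine S.not_cs_w ((S.cs_conj_iff g).1 ?_)
      rw [← hye]
      exact X.Qe_cs hy hyA hy2

end Cfg

end Cfsg.Lib.SymEightThree
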